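import Mathlib
set_option linter.all false

/-!
# Conjugacy of endomorphisms with the same irreducible characteristic polynomial over a finite field,
with prescribed determinant of the conjugating element.
-/

set_option autoImplicit false
set_option linter.unusedSectionVars false

namespace Cfsg.Agent.H140.OreO

open Polynomial Matrix

variable {F W : Type*} [Field F] [Finite F] [AddCommGroup W] [Module F W] [FiniteDimensional F W]

section

variable {P : F[X]} [Fact (Irreducible P)]

/-- The action of `F[X]/(P)` on a space with an endomorphism killed by `P`. -/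
noncomputable def act (f : Module.End F W) (hf : aeval f P = 0) :
    AdjoinRoot P →ₐ[F] Module.End F W :=
  Ideal.Quotient.liftₐ (Ideal.span {P}) (aeval f) (by
    intro a ha
    obtain ⟨b, rfl⟩ := Ideal.mem_span_singleton'.1 ha
    rw [map_mul, hf, mul_zero])

theorem act_root (f : Module.End F W) (hf : aeval f P = 0) : act f hf (AdjoinRoot.root P) = f := by
  have h : act f hf (AdjoinRoot.mk P X) = aeval f X := rfl
  rw [aeval_X] at h
  exact h

/-- `z ↦ z v`. -/
noncomputable def orb (f : Module.End F W) (hf : aeval f P = 0) (v : W) : AdjoinRoot P →ₗ[F] W :=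
  (LinearMap.applyₗ v) ∘ₗ (act f hf).toLinearMap

theorem orb_apply (f : Module.End F W) (hf : aeval f P = 0) (v : W) (z : AdjoinRoot P) :
    orb f hf v z = act f hf z v := rfl

theorem orb_injective (f : Module.End F W) (hf : aeval f P = 0) {v : W} (hv : v ≠ 0) :
    Function.Injective (orb f hf v) := by
  rw [← LinearMap.ker_eq_bot, LinearMap.ker_eq_bot']
  intro z hz
  by_contra h
  apply hv
  have : act f hf (z⁻¹ * z) v = v := by
    rw [inv_mul_cancel₀ h, map_one]; rfl
  rw [← this, map_mul, Module.End.mul_apply, ← orb_apply f hf v z, hz, map_zero]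

theorem finrank_adjoinRoot (hd : Module.finrank F W = P.natDegree) :
    Module.finrank F (AdjoinRoot P) = Module.finrank F W := by
  have hP : P ≠ 0 := (Fact.out : Irreducible P).ne_zero
  rw [(AdjoinRoot.powerBasis hP).finrank, AdjoinRoot.powerBasis_dim, hd]

theorem exists_conj_aux (f g : Module.End F W) (hf : aeval f P = 0) (hg : aeval g P = 0)
    (hd : Module.finrank F W = P.natDegree) (s : F) (hs : s ≠ 0) :
    ∃ T : W ≃ₗ[F] W, (∀ w, T (g w) = f (T w)) ∧ LinearMap.det (T : W →ₗ[F] W) = s := by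
  have hP : P ≠ 0 := (Fact.out : Irreducible P).ne_zero
  have hPd : 0 < P.natDegree := (Fact.out : Irreducible P).natDegree_pos
  have : Nontrivial W := Module.nontrivial_of_finrank_pos (R := F) (by omega)
  obtain ⟨v, hv⟩ := exists_ne (0 : W)
  have : FiniteDimensional F (AdjoinRoot P) := (AdjoinRoot.powerBasis hP).finite
  have : Finite (AdjoinRoot P) := Module.finite_of_finite F
  let Ef : AdjoinRoot P ≃ₗ[F] W := LinearEquiv.ofInjectiveOfFinrankEq (orb f hf v)
    (orb_injective f hf hv) (finrank_adjoinRoot hd)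
  let Eg : AdjoinRoot P ≃ₗ[F] W := LinearEquiv.ofInjectiveOfFinrankEq (orb g hg v)
    (orb_injective g hg hv) (finrank_adjoinRoot hd)
  have hEf : ∀ z z', Ef (z * z') = act f hf z (Ef z') := by
    intro z z'
    show act f hf (z * z') v = act f hf z (act f hf z' v)
    rw [map_mul]; rfl
  have hEg : ∀ z z', Eg (z * z') = act g hg z (Eg z') := by
    intro z z'
    show act g hg (z * z') v = act g hg z (act g hg z' v)
    rw [map_mul]; rfl
  have hdet0 : LinearMap.det ((Eg.symm.trans Ef : W ≃ₗ[F] W) : W →ₗ[F] W) ≠ 0 :=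
    (LinearEquiv.isUnit_det' _).ne_zero
  obtain ⟨z, hz⟩ := FiniteField.norm_surjective F (AdjoinRoot P)
    (s * (LinearMap.det ((Eg.symm.trans Ef : W ≃ₗ[F] W) : W →ₗ[F] W))⁻¹)
  have hz0 : z ≠ 0 := by
    rintro rfl
    rw [Algebra.norm_zero] at hz
    exact mul_ne_zero hs (inv_ne_zero hdet0) hz.symm
  let mz : AdjoinRoot P ≃ₗ[F] AdjoinRoot P := LinearEquiv.ofLinearMap
    (LinearMap.mulLeft F z) (LinearMap.mulLeft F z⁻¹)
    (by ext w; simp [mul_inv_cancel_left₀ hz0]) (by ext w; simp [inv_mul_cancel_left₀ hz0])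
  refine ⟨Eg.symm.trans (mz.trans Ef), ?_, ?_⟩
  · intro w
    obtain ⟨a, rfl⟩ := Eg.surjective w
    have h1 : g (Eg a) = Eg (AdjoinRoot.root P * a) := by rw [hEg, act_root]
    rw [h1]
    simp only [LinearEquiv.trans_apply, LinearEquiv.symm_apply_apply]
    show Ef (z * (AdjoinRoot.root P * a)) = f (Ef (z * a))
    rw [mul_left_comm, hEf, act_root]
  · have h1 : ((Eg.symm.trans (mz.trans Ef) : W ≃ₗ[F] W) : W →ₗ[F] W) =
        ((Eg.symm.trans Ef : W ≃ₗ[F] W) : W →ₗ[F] W) ∘ₗ
          ((Eg.symm.trans (mz.trans Eg) : W ≃ₗ[F] W) : W →ₗ[F] W) := by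
      ext w; simp
    rw [h1, LinearMap.det_comp]
    have h2 : LinearMap.det ((Eg.symm.trans (mz.trans Eg) : W ≃ₗ[F] W) : W →ₗ[F] W) =
        Algebra.norm F z := by
      have := LinearMap.det_conj (LinearMap.mulLeft F z) Eg
      rw [Algebra.norm_apply]
      refine Eq.trans ?_ (this.trans ?_)
      · rfl
      · rfl
    rw [h2, hz]
    field_simp

end

/-- Conjugacy with prescribed determinant. -/
theorem exists_conj (f g : Module.End F W) (P : F[X]) (hP : Irreducible P) (hf : aeval f P = 0)
    (hg : aeval g P = 0) (hd : Module.finrank F W = P.natDegree) (s : F) (hs : s ≠ 0) :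
    ∃ T : W ≃ₗ[F] W, (∀ w, T (g w) = f (T w)) ∧ LinearMap.det (T : W →ₗ[F] W) = s := by
  have : Fact (Irreducible P) := ⟨hP⟩
  exact exists_conj_aux f g hf hg hd s hs

/-- Matrix version: two matrices with the same irreducible characteristic polynomial are
conjugate by a matrix of prescribed determinant. -/
theorem exists_conj_matrix {n : ℕ} (X Y : GL (Fin n) F)
    (h : (X : Matrix (Fin n) (Fin n) F).charpoly = (Y : Matrix (Fin n) (Fin n) F).charpoly)
    (hP : Irreducible (Y : Matrix (Fin n) (Fin n) F).charpoly) (s : F) (hs : s ≠ 0) :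
    ∃ K : GL (Fin n) F, X = K * Y * K⁻¹ ∧ (K : Matrix (Fin n) (Fin n) F).det = s := by
  have aX : ∀ (A : Matrix (Fin n) (Fin n) F) (p : F[X]),
      aeval (Matrix.toLin' A) p = Matrix.toLin' (aeval A p) := fun A p =>
    Polynomial.aeval_algHom_apply (Matrix.toLinAlgEquiv' (R := F) (n := Fin n)).toAlgHom A p
  obtain ⟨T, hT, hdet⟩ := exists_conj (Matrix.toLin' (X : Matrix (Fin n) (Fin n) F))
    (Matrix.toLin' (Y : Matrix (Fin n) (Fin n) F)) (Y : Matrix (Fin n) (Fin n) F).charpoly hP
    (by rw [aX, ← h, aeval_self_charpoly, map_zero]) (by rw [aX, aeval_self_charpoly, map_zero])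
    (by rw [charpoly_natDegree_eq_dim, Module.finrank_fintype_fun_eq_card]) s hs
  have hdet' : (LinearMap.toMatrix' (T : (Fin n → F) →ₗ[F] (Fin n → F))).det = s := by
    rw [LinearMap.det_toMatrix', hdet]
  let K : GL (Fin n) F := Matrix.GeneralLinearGroup.mkOfDetNeZero
    (LinearMap.toMatrix' (T : (Fin n → F) →ₗ[F] (Fin n → F))) (by rw [hdet']; exact hs)
  have hK : (K : Matrix (Fin n) (Fin n) F) =
    LinearMap.toMatrix' (T : (Fin n → F) →ₗ[F] (Fin n → F)) := rfl
  refine ⟨K, ?_, by rw [hK, hdet']⟩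
  rw [eq_mul_inv_iff_mul_eq]
  apply Units.ext
  rw [Units.val_mul, Units.val_mul, hK]
  apply Matrix.toLin'.injective
  rw [Matrix.toLin'_mul, Matrix.toLin'_mul, Matrix.toLin'_toMatrix']
  apply LinearMap.ext
  intro w
  exact (hT w).symm

end Cfsg.Agent.H140.OreO
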