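import Mathlib
import Cfsg.Agent.LieClassical.OrthFinite
import Cfsg.Agent.LieClassical.SLGen
import Cfsg.Agent.H140.OreO.Frame
set_option linter.all false

/-!
# Classes modulo `Ω = ⁅O Q, O Q⁆`

`hsc h s` : the hyperbolic scaling of a hyperbolic pair; `Cl Q s y` : `y ∈ Ω * hsc s`.
-/

set_option autoImplicit false
set_option linter.unusedSectionVars false
set_option linter.unusedSimpArgs false
set_option linter.unusedVariables false

namespace Cfsg.Agent.H140.OreO

open QuadraticMap Cfsg.Agent.LieClassical.OrthCore Cfsg.Agent.LieClassical.OrthTrans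
  Cfsg.Agent.LieClassical.OrthFinite Matrix
open scoped commutatorElement

variable {F V : Type*} [Field F] [AddCommGroup V] [Module F V] {n : ℕ} {Q : QuadraticForm F V}

/-- `Ω(Q)`. -/
abbrev Om (Q : QuadraticForm F V) : Subgroup (V ≃ₗ[F] V) := ⁅O Q, O Q⁆

theorem Om_le : Om Q ≤ O Q := Subgroup.commutator_le_self _

theorem comm_mem_Om {a b : V ≃ₗ[F] V} (ha : a ∈ O Q) (hb : b ∈ O Q) :
    a * b * a⁻¹ * b⁻¹ ∈ Om Q := Subgroup.commutator_mem_commutator ha hb

theorem conj_mem_Om {a b : V ≃ₗ[F] V} (ha : a ∈ O Q) (hb : b ∈ Om Q) : a * b * a⁻¹ ∈ Om Q := by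
  have h := (Om Q).mul_mem (comm_mem_Om ha (Om_le hb)) hb
  simpa using h

/-- Rotating a product modulo `Ω`. -/
theorem mem_Om_comm {a b : V ≃ₗ[F] V} (ha : a ∈ O Q) (h : b * a ∈ Om Q) : a * b ∈ Om Q := by
  have := conj_mem_Om ha h
  simpa [mul_assoc] using this

/-! ### Hyperbolic scalings -/

/-- The linear map `v ↦ v + (s-1) b(y,v) x + (s⁻¹-1) b(x,v) y`. -/
def hscLin (Q : QuadraticForm F V) (x y : V) (s : Fˣ) : V →ₗ[F] V :=
  LinearMap.id + (((s : F) - 1) • (polarBilin Q y).smulRight x +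
    (((s⁻¹ : Fˣ) : F) - 1) • (polarBilin Q x).smulRight y)

theorem hscLin_apply (x y : V) (s : Fˣ) (v : V) :
    hscLin Q x y s v = v + ((((s : F) - 1) * polar Q y v) • x +
      ((((s⁻¹ : Fˣ) : F) - 1) * polar Q x v) • y) := by
  simp [hscLin, mul_smul]

theorem hscLin_comp {x y : V} (h : Hyp Q x y) (s t : Fˣ) (v : V) :
    hscLin Q x y s (hscLin Q x y t v) = hscLin Q x y (s * t) v := by
  rw [hscLin_apply, hscLin_apply, hscLin_apply]
  simp only [polar_add_right, polar_smul_right, h.polar_left, h.polar_right, h.pair, h.pair',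
    smul_eq_mul, mul_inv, Units.val_mul]
  module

theorem hscLin_one (x y : V) (v : V) : hscLin Q x y 1 v = v := by
  rw [hscLin_apply]; simp

/-- The hyperbolic scaling `x ↦ s x`, `y ↦ s⁻¹ y`. -/
def hsc {x y : V} (h : Hyp Q x y) : Fˣ →* (V ≃ₗ[F] V) where
  toFun := fun s => LinearEquiv.ofLinearMap (hscLin Q x y s) (hscLin Q x y s⁻¹)
    (by
      apply LinearMap.ext
      intro v
      rw [LinearMap.comp_apply, hscLin_comp h, mul_inv_cancel, hscLin_one]; rfl)
    (by
      apply LinearMap.ext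
      intro v
      rw [LinearMap.comp_apply, hscLin_comp h, inv_mul_cancel, hscLin_one]; rfl)
  map_one' := LinearEquiv.ext fun v => hscLin_one x y v
  map_mul' := fun s t => LinearEquiv.ext fun v => (hscLin_comp h s t v).symm

theorem hsc_apply {x y : V} (h : Hyp Q x y) (s : Fˣ) (v : V) :
    hsc h s v = v + ((((s : F) - 1) * polar Q y v) • x +
      ((((s⁻¹ : Fˣ) : F) - 1) * polar Q x v) • y) := hscLin_apply x y s v

theorem hsc_mem {x y : V} (h : Hyp Q x y) (s : Fˣ) : hsc h s ∈ O Q := by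
  intro v
  have hs : (s : F) * ((s⁻¹ : Fˣ) : F) = 1 := by rw [← Units.val_mul]; simp
  rw [hsc_apply, Q_add, Q_add, QuadraticMap.map_smul, QuadraticMap.map_smul, h.left, h.right,
    polar_add_right, polar_smul_right, polar_smul_right, polar_smul_left, polar_smul_right, h.pair,
    polar_comm Q v x, polar_comm Q v y]
  simp only [smul_eq_mul]
  linear_combination (polar Q y v * polar Q x v) * hs

theorem hsc_conj {x y : V} (h : Hyp Q x y) (s : Fˣ) {g : V ≃ₗ[F] V} (hg : g ∈ O Q)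
    (h' : Hyp Q (g x) (g y)) : g * hsc h s * g⁻¹ = hsc h' s := by
  apply LinearEquiv.ext
  intro v
  obtain ⟨v, rfl⟩ := g.surjective v
  have e : (g * hsc h s * g⁻¹) (g v) = g (hsc h s v) := by
    show g (hsc h s (g.symm (g v))) = _
    rw [LinearEquiv.symm_apply_apply]
  rw [e, hsc_apply, hsc_apply, polar_map hg, polar_map hg]
  simp only [map_add, map_smul]

theorem hsc_indep (hG : Good Q) {x y x' y' : V} (h : Hyp Q x y) (h' : Hyp Q x' y') (s : Fˣ) :
    hsc h' s * (hsc h s)⁻¹ ∈ Om Q := by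
  obtain ⟨g, hg, rfl, rfl⟩ := hG.trans_hyp h h'
  rw [← hsc_conj h s (E_le_O hg) h']
  exact comm_mem_Om (E_le_O hg) (hsc_mem h s)

theorem hsc_symm {x y : V} (h : Hyp Q x y) (s : Fˣ) : hsc h.symm s = hsc h s⁻¹ := by
  apply LinearEquiv.ext
  intro v
  rw [hsc_apply, hsc_apply, inv_inv]
  abel

theorem hsc_sq (hG : Good Q) {x y : V} (h : Hyp Q x y) (s : Fˣ) : hsc h (s * s) ∈ Om Q := by
  have := hsc_indep hG h.symm h s
  have e : hsc h.symm s = (hsc h s)⁻¹ := by rw [hsc_symm h s, map_inv]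
  rw [e, inv_inv, ← map_mul] at this
  exact this

/-- `y` has class `s` modulo `Ω`. -/
def Cl (Q : QuadraticForm F V) (s : Fˣ) (y : V ≃ₗ[F] V) : Prop :=
  y ∈ O Q ∧ ∀ (x x' : V) (h : Hyp Q x x'), y * (hsc h s)⁻¹ ∈ Om Q

theorem cl_of (hG : Good Q) {x x' : V} (h : Hyp Q x x') {s : Fˣ} {y : V ≃ₗ[F] V}
    (hy : y * (hsc h s)⁻¹ ∈ Om Q) : Cl Q s y := by
  refine ⟨?_, fun z z' h' => ?_⟩
  · have := (O Q).mul_mem (Om_le hy) (hsc_mem h s)
    simpa using this
  · have := (Om Q).mul_mem hy (hsc_indep hG h' h s)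
    simpa [mul_assoc] using this

theorem Cl.mem_Om (hG : Good Q) {y : V ≃ₗ[F] V} (h : Cl Q 1 y) : y ∈ Om Q := by
  obtain ⟨x, x', hx⟩ := hG.exists_hyp
  have := h.2 x x' hx
  simpa using this

theorem Cl.conj {s : Fˣ} {y : V ≃ₗ[F] V} (h : Cl Q s y) {g : V ≃ₗ[F] V} (hg : g ∈ O Q) :
    Cl Q s (g * y * g⁻¹) := by
  refine ⟨(O Q).mul_mem ((O Q).mul_mem hg h.1) ((O Q).inv_mem hg), fun x x' hx => ?_⟩
  have h1 := comm_mem_Om hg h.1
  have := (Om Q).mul_mem h1 (h.2 x x' hx)
  simpa [mul_assoc] using this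

theorem Cl.mul_left {s : Fˣ} {y w : V ≃ₗ[F] V} (h : Cl Q s y) (hw : w ∈ Om Q) :
    Cl Q s (w * y) := by
  refine ⟨(O Q).mul_mem (Om_le hw) h.1, fun x x' hx => ?_⟩
  rw [mul_assoc]
  exact (Om Q).mul_mem hw (h.2 x x' hx)

theorem Cl.sq (hG : Good Q) {s t : Fˣ} {y : V ≃ₗ[F] V} (h : Cl Q s y) : Cl Q (s * (t * t)) y := by
  obtain ⟨x, x', hx⟩ := hG.exists_hyp
  refine cl_of hG hx ?_
  rw [mul_comm s, map_mul, _root_.mul_inv_rev, ← mul_assoc]
  refine (Om Q).mul_mem (h.2 x x' hx) ((Om Q).inv_mem (hsc_sq hG hx t))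

/-! ### Classes of Levi elements -/

/-- The standard hyperbolic pairs of the model space. -/
theorem hypM (i : Fin n) : Hyp (MQ n Q) ((Pi.single i 1, 0, 0) : M F V n) (0, 0, Pi.single i 1) :=
  ⟨by simp [MQ_apply], by simp [MQ_apply], by simp [polar_MQ]⟩

theorem levV_mem {h : V ≃ₗ[F] V} (hh : h ∈ Om Q) :
    lev (1 : GL (Fin n) F) h ∈ Om (MQ n Q) := by
  let f : (V ≃ₗ[F] V) →* (M F V n ≃ₗ[F] M F V n) :=
    { toFun := fun h => lev 1 h
      map_one' := lev_one
      map_mul' := fun a b => by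
        have := lev_mul (1 : GL (Fin n) F) 1 a b
        rwa [mul_one] at this }
  have h1 : (O Q).map f ≤ O (MQ n Q) := by
    rintro _ ⟨g, hg, rfl⟩
    exact lev_mem hg
  have h2 : f h ∈ (⁅O Q, O Q⁆ : Subgroup _).map f := ⟨h, hh, rfl⟩
  rw [Subgroup.map_commutator] at h2
  exact Subgroup.commutator_mono h1 h1 h2

theorem siegel_lev {i j : Fin n} (hij : i ≠ j) (c : F) (A : GL (Fin n) F)
    (hA : (A : Matrix (Fin n) (Fin n) F) = transvection i j c)
    (hA' : ((A⁻¹ : GL (Fin n) F) : Matrix (Fin n) (Fin n) F) = transvection i j (-c))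
    (h1 : MQ n Q ((0, 0, Pi.single j 1) : M F V n) = 0)
    (h2 : polar (MQ n Q) ((0, 0, Pi.single j 1) : M F V n) (Pi.single i c, 0, 0) = 0) :
    lev A (1 : V ≃ₗ[F] V) = siegel (MQ n Q) (0, 0, Pi.single j 1) (Pi.single i c, 0, 0) h1 h2 := by
  apply LinearEquiv.ext
  intro x
  rw [lev_apply, siegel_apply, hA, ti_coe, hA']
  refine Prod.ext ?_ (Prod.ext ?_ ?_)
  · ext k
    simp only [transvection, add_mulVec, one_mulVec, Pi.add_apply, Prod.fst_sub, Prod.fst_add,
      Prod.smul_fst, smul_zero, sub_zero, polar_MQ, MQ_apply, single_mulVec]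
    simp [Pi.single_apply, Function.update_apply, mul_comm]
  · simp
  · ext k
    simp only [transvection, polar_MQ, MQ_apply]
    simp [Pi.single_apply, add_mulVec, transpose_add, single_mulVec, Function.update_apply,
      sub_eq_add_neg]
    split_ifs <;> simp

theorem lev_transvection_mem (hG : Good (MQ n Q)) {i j : Fin n} (hij : i ≠ j) (c : F) :
    lev ((SpecialLinearGroup.transvection hij c : SpecialLinearGroup (Fin n) F) : GL (Fin n) F)
      (1 : V ≃ₗ[F] V) ∈ Om (MQ n Q) := by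
  have h1 : MQ n Q ((0, 0, Pi.single j 1) : M F V n) = 0 := by simp [MQ_apply]
  have h2 : polar (MQ n Q) ((0, 0, Pi.single j 1) : M F V n) (Pi.single i c, 0, 0) = 0 := by
    simp [polar_MQ, Pi.single_apply, hij]
  rw [siegel_lev hij c _ ?_ ?_ h1 h2]
  · exact Subgroup.commutator_mono E_le_O E_le_O (hG.siegel_mem_commutator h1 h2)
  · rfl
  · rw [← map_inv]
    have : (SpecialLinearGroup.transvection hij c : SpecialLinearGroup (Fin n) F)⁻¹ =
        SpecialLinearGroup.transvection hij (-c) := by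
      rw [inv_eq_iff_mul_eq_one]
      apply Subtype.ext
      show transvection i j c * transvection i j (-c) = 1
      rw [transvection_mul_transvection_same _ _ hij, add_neg_cancel, transvection_zero]
    rw [this]
    rfl

theorem lev_sl_mem (hG : Good (MQ n Q)) (A : SpecialLinearGroup (Fin n) F) :
    lev (A : GL (Fin n) F) (1 : V ≃ₗ[F] V) ∈ Om (MQ n Q) := by
  let f : SpecialLinearGroup (Fin n) F →* (M F V n ≃ₗ[F] M F V n) :=
    { toFun := fun A => lev (A : GL (Fin n) F) 1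
      map_one' := by rw [map_one]; exact lev_one
      map_mul' := fun a b => by
        have := lev_mul (a : GL (Fin n) F) (b : GL (Fin n) F) (1 : V ≃ₗ[F] V) 1
        rwa [mul_one, ← map_mul] at this }
  have h1 : Subgroup.closure (LieClassical.SLGen.transvections (Fin n) F) ≤
      (Om (MQ n Q)).comap f := by
    rw [Subgroup.closure_le]
    rintro _ ⟨i, j, h, c, rfl⟩
    exact lev_transvection_mem hG h c
  rw [LieClassical.SLGen.closure_transvections] at h1
  exact h1 (Subgroup.mem_top A)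

theorem lev_det_one_mem (hG : Good (MQ n Q)) {A : GL (Fin n) F}
    (hA : (A : Matrix (Fin n) (Fin n) F).det = 1) :
    lev A (1 : V ≃ₗ[F] V) ∈ Om (MQ n Q) := by
  let A' : SpecialLinearGroup (Fin n) F := ⟨(A : Matrix (Fin n) (Fin n) F), hA⟩
  have := lev_sl_mem hG A'
  have e : (A' : GL (Fin n) F) = A := by
    apply Units.ext
    rfl
  rwa [e] at this

/-- The matrix `diag(s, 1, …, 1)`. -/
def dg (i : Fin n) (s : Fˣ) : GL (Fin n) F where
  val := diagonal (Function.update 1 i (s : F))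
  inv := diagonal (Function.update 1 i ((s⁻¹ : Fˣ) : F))
  val_inv := by
    rw [diagonal_mul_diagonal, ← diagonal_one]
    congr 1
    ext j
    by_cases h : j = i
    · subst h; simp
    · simp [h]
  inv_val := by
    rw [diagonal_mul_diagonal, ← diagonal_one]
    congr 1
    ext j
    by_cases h : j = i
    · subst h; simp
    · simp [h]

theorem dg_coe (i : Fin n) (s : Fˣ) :
    (dg i s : Matrix (Fin n) (Fin n) F) = diagonal (Function.update 1 i (s : F)) := rfl

theorem dg_inv_coe (i : Fin n) (s : Fˣ) :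
    (((dg i s)⁻¹ : GL (Fin n) F) : Matrix (Fin n) (Fin n) F) =
      diagonal (Function.update 1 i ((s⁻¹ : Fˣ) : F)) := rfl

theorem det_dg (i : Fin n) (s : Fˣ) : (dg i s : Matrix (Fin n) (Fin n) F).det = s := by
  rw [dg_coe, det_diagonal, Finset.prod_update_of_mem (Finset.mem_univ i)]
  simp

theorem lev_dg (i : Fin n) (s : Fˣ) :
    lev (dg i s) (1 : V ≃ₗ[F] V) = hsc (hypM (Q := Q) i) s := by
  apply LinearEquiv.ext
  intro x
  rw [lev_apply, hsc_apply, ti_coe, dg_coe, dg_inv_coe]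
  refine Prod.ext ?_ (Prod.ext ?_ ?_)
  · ext k
    simp only [mulVec_diagonal, polar_MQ]
    by_cases h : k = i
    · subst h
      simp [Function.update_apply]
      ring
    · simp [h, Function.update_apply]
  · simp
  · ext k
    simp only [diagonal_transpose, mulVec_diagonal, polar_MQ]
    by_cases h : k = i
    · subst h
      simp [Function.update_apply]
      ring
    · simp [h, Function.update_apply]

/-- **Class of a Levi element.** -/
theorem lev_cl (hG : Good (MQ n Q)) (hn : 0 < n) {A : GL (Fin n) F} {s : Fˣ}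
    (hA : (A : Matrix (Fin n) (Fin n) F).det = s) :
    Cl (MQ n Q) s (lev A (1 : V ≃ₗ[F] V)) := by
  have i : Fin n := ⟨0, hn⟩
  refine cl_of hG (hypM i) ?_
  rw [← lev_dg, ← lev_inv, ← lev_mul, inv_one, mul_one]
  apply lev_det_one_mem hG
  rw [Units.val_mul, det_mul, hA, dg_inv_coe, det_diagonal,
    Finset.prod_update_of_mem (Finset.mem_univ i)]
  simp

theorem hsc_levV {x x' : V} (h : Hyp Q x x') (h' : Hyp (MQ n Q) ((0, x, 0) : M F V n) (0, x', 0))
    (s : Fˣ) : lev (1 : GL (Fin n) F) (hsc h s) = hsc h' s := by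
  apply LinearEquiv.ext
  intro y
  rw [lev_apply, hsc_apply, hsc_apply, ti_one]
  refine Prod.ext ?_ (Prod.ext ?_ ?_)
  · simp
  · simp [polar_MQ]
  · simp

theorem hyp_levV {x x' : V} (h : Hyp Q x x') : Hyp (MQ n Q) ((0, x, 0) : M F V n) (0, x', 0) :=
  ⟨by simp [MQ_apply, h.left], by simp [MQ_apply, h.right], by simp [polar_MQ, h.pair]⟩

/-- **Class of a Levi element**, general. -/
theorem lev_cl_mul (hG : Good (MQ n Q)) (hn : 0 < n) {A : GL (Fin n) F} {s t : Fˣ}
    (hA : (A : Matrix (Fin n) (Fin n) F).det = s) {y : V ≃ₗ[F] V} (hy : Cl Q t y)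
    (hV : ∃ x x', Hyp Q x x') :
    Cl (MQ n Q) (s * t) (lev A y) := by
  obtain ⟨x, x', hx⟩ := hV
  refine cl_of hG (hyp_levV hx) ?_
  have h1 := (lev_cl (V := V) hG hn hA).2 _ _ (hyp_levV hx)
  have h2 := levV_mem (n := n) (hy.2 x x' hx)
  have e : lev A y = lev A 1 * lev 1 y := by rw [← lev_mul, mul_one, one_mul]
  have e2 : lev (1 : GL (Fin n) F) (y * (hsc hx t)⁻¹) = lev 1 y * (hsc (hyp_levV hx) t)⁻¹ := by
    rw [← hsc_levV hx, ← lev_inv, ← lev_mul, inv_one, mul_one]
  rw [e2] at h2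
  have e3 : lev A y * (hsc (hyp_levV hx) (s * t))⁻¹ =
      lev A 1 * (lev 1 y * (hsc (hyp_levV hx) t)⁻¹) * (lev A 1)⁻¹ *
        (lev A 1 * (hsc (hyp_levV hx) s)⁻¹) := by
    rw [e, map_mul]
    group
  rw [e3]
  refine (Om _).mul_mem (conj_mem_Om (lev_mem (O Q).one_mem) h2) h1

end Cfsg.Agent.H140.OreO
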