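import Mathlib
import Cfsg.Agent.H140.OreO.Cls
set_option linter.all false

-- part: H140/OreO/Step
section
/-!
# The STEP theorem

`Cop X h` : no nonzero intertwiners, so that `lev X h` has no fixed points on `U⁻`, `U⁺`; hence every
element of `U^±` is a commutator `v l v⁻¹ l⁻¹`, and `u l ~ l`.
-/

set_option autoImplicit false
set_option linter.unusedSectionVars false
set_option linter.unusedSimpArgs false
set_option linter.unusedVariables false

namespace Cfsg.Agent.H140.OreO

open QuadraticMap Cfsg.Agent.LieClassical.OrthCore Cfsg.Agent.LieClassical.OrthTrans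
  Cfsg.Agent.LieClassical.OrthFinite Matrix
open scoped commutatorElement

variable {F V : Type*} [Field F] [AddCommGroup V] [Module F V] {n : ℕ} {Q : QuadraticForm F V}

theorem exists_comm {G : Type*} [Group G] (U : Subgroup G) [Finite U] (l : G)
    (hn : ∀ u ∈ U, l * u * l⁻¹ ∈ U) (hc : ∀ u ∈ U, u * l = l * u → u = 1) {u : G} (hu : u ∈ U) :
    ∃ v ∈ U, u = v * l * v⁻¹ * l⁻¹ := by
  let φ : U → U := fun v => ⟨(v : G) * (l * (v : G)⁻¹ * l⁻¹),
    U.mul_mem v.2 (hn _ (U.inv_mem v.2))⟩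
  have hφ : Function.Injective φ := by
    intro v w h
    have h1 : (v : G) * (l * (v : G)⁻¹ * l⁻¹) = (w : G) * (l * (w : G)⁻¹ * l⁻¹) :=
      congrArg Subtype.val h
    have h2 : (w : G)⁻¹ * v * l = l * ((w : G)⁻¹ * v) := by
      have h3 : (v : G) * l * (v : G)⁻¹ = (w : G) * l * (w : G)⁻¹ := by
        have := congrArg (· * l) h1
        simpa [mul_assoc] using this
      calc (w : G)⁻¹ * v * l = (w : G)⁻¹ * (v * l * (v : G)⁻¹) * v := by group
        _ = (w : G)⁻¹ * (w * l * (w : G)⁻¹) * v := by rw [h3]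
        _ = l * ((w : G)⁻¹ * v) := by group
    have h4 := hc _ (U.mul_mem (U.inv_mem w.2) v.2) h2
    apply Subtype.ext
    rw [inv_mul_eq_one] at h4
    exact h4.symm
  obtain ⟨v, hv⟩ := (Finite.injective_iff_surjective.1 hφ) ⟨u, hu⟩
  refine ⟨v, v.2, ?_⟩
  have : (v : G) * (l * (v : G)⁻¹ * l⁻¹) = u := congrArg Subtype.val hv
  rw [← this]
  group

/-- No nonzero intertwiners. -/
structure Cop (X : GL (Fin n) F) (h : V ≃ₗ[F] V) : Prop where
  a : ∀ f : (Fin n → F) →ₗ[F] V,
    (∀ a, f ((X : Matrix (Fin n) (Fin n) F) *ᵥ a) = h (f a)) → f = 0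
  b : ∀ f : V →ₗ[F] (Fin n → F),
    (∀ v, f (h v) = (ti X : Matrix (Fin n) (Fin n) F) *ᵥ f v) → f = 0
  c : ∀ f : (Fin n → F) →ₗ[F] (Fin n → F), (∀ a, a ⬝ᵥ f a = 0) →
    (∀ a, f ((X : Matrix (Fin n) (Fin n) F) *ᵥ a) = (ti X : Matrix (Fin n) (Fin n) F) *ᵥ f a) →
    f = 0
  a' : ∀ f : (Fin n → F) →ₗ[F] V,
    (∀ a, f ((ti X : Matrix (Fin n) (Fin n) F) *ᵥ a) = h (f a)) → f = 0
  b' : ∀ f : V →ₗ[F] (Fin n → F),
    (∀ v, f (h v) = (X : Matrix (Fin n) (Fin n) F) *ᵥ f v) → f = 0
  c' : ∀ f : (Fin n → F) →ₗ[F] (Fin n → F), (∀ a, a ⬝ᵥ f a = 0) →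
    (∀ a, f ((ti X : Matrix (Fin n) (Fin n) F) *ᵥ a) = (X : Matrix (Fin n) (Fin n) F) *ᵥ f a) →
    f = 0

theorem Cop.um {X : GL (Fin n) F} {h : V ≃ₗ[F] V} (hc : Cop X h) {u : M F V n ≃ₗ[F] M F V n}
    (hu : u ∈ Um n Q) (hcomm : u * lev X h = lev X h * u) : u = 1 := by
  have hx : ∀ x, u (lev X h x) = lev X h (u x) := fun x => LinearEquiv.congr_fun hcomm x
  let f1 : (Fin n → F) →ₗ[F] V := LinearMap.fst F V (Fin n → F) ∘ₗ LinearMap.snd F _ _ ∘ₗ
    (u : M F V n →ₗ[F] M F V n) ∘ₗ LinearMap.inl F (Fin n → F) (V × (Fin n → F))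
  let f3 : (Fin n → F) →ₗ[F] (Fin n → F) := LinearMap.snd F V (Fin n → F) ∘ₗ LinearMap.snd F _ _ ∘ₗ
    (u : M F V n →ₗ[F] M F V n) ∘ₗ LinearMap.inl F (Fin n → F) (V × (Fin n → F))
  let f2 : V →ₗ[F] (Fin n → F) := LinearMap.snd F V (Fin n → F) ∘ₗ LinearMap.snd F _ _ ∘ₗ
    (u : M F V n →ₗ[F] M F V n) ∘ₗ LinearMap.inr F (Fin n → F) (V × (Fin n → F)) ∘ₗ
    LinearMap.inl F V (Fin n → F)
  have e1 : f1 = 0 := by
    apply hc.a
    intro a
    have := hx (a, 0, 0)
    rw [lev_apply, lev_apply] at this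
    simp only [mulVec_zero, map_zero] at this
    exact congrArg (fun y => y.2.1) this
  have e2 : f2 = 0 := by
    apply hc.b
    intro v
    have := hx (0, v, 0)
    rw [lev_apply, lev_apply] at this
    simp only [mulVec_zero, map_zero] at this
    exact congrArg (fun y => y.2.2) this
  have e1' : ∀ a, (u (a, 0, 0)).2.1 = 0 := fun a => LinearMap.congr_fun e1 a
  have e2' : ∀ v, (u (0, v, 0)).2.2 = 0 := fun v => LinearMap.congr_fun e2 v
  have e3 : f3 = 0 := by
    apply hc.c
    · intro a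
      have h1 := mem_O.1 hu.1 (a, 0, 0)
      rw [MQ_apply, MQ_apply', hu.2.1, e1'] at h1
      show a ⬝ᵥ (u (a, 0, 0)).2.2 = 0
      simpa using h1
    · intro a
      have := hx (a, 0, 0)
      rw [lev_apply, lev_apply] at this
      simp only [mulVec_zero, map_zero] at this
      exact congrArg (fun y => y.2.2) this
  have e3' : ∀ a, (u (a, 0, 0)).2.2 = 0 := fun a => LinearMap.congr_fun e3 a
  apply LinearEquiv.ext
  intro x
  have hd : x = (x.1, 0, 0) + ((0, x.2.1, 0) + (0, 0, x.2.2)) := by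
    refine Prod.ext (by simp) (Prod.ext (by simp) (by simp))
  have h1 : u (x.1, 0, 0) = (x.1, 0, 0) :=
    Prod.ext (hu.2.1 _) (Prod.ext (e1' _) (e3' _))
  have h2 : u (0, x.2.1, 0) = (0, x.2.1, 0) :=
    Prod.ext (hu.2.1 _) (Prod.ext (hu.2.2.1 _ rfl) (e2' _))
  have h3 : u (0, 0, x.2.2) = (0, 0, x.2.2) := hu.2.2.2 _ rfl rfl
  conv_lhs => rw [hd, map_add, map_add, h1, h2, h3, ← hd]
  rfl

theorem Cop.up {X : GL (Fin n) F} {h : V ≃ₗ[F] V} (hc : Cop X h) {u : M F V n ≃ₗ[F] M F V n}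
    (hu : u ∈ Up n Q) (hcomm : u * lev X h = lev X h * u) : u = 1 := by
  have hx : ∀ x, u (lev X h x) = lev X h (u x) := fun x => LinearEquiv.congr_fun hcomm x
  let f1 : (Fin n → F) →ₗ[F] V := LinearMap.fst F V (Fin n → F) ∘ₗ LinearMap.snd F _ _ ∘ₗ
    (u : M F V n →ₗ[F] M F V n) ∘ₗ LinearMap.inr F (Fin n → F) (V × (Fin n → F)) ∘ₗ
    LinearMap.inr F V (Fin n → F)
  let f3 : (Fin n → F) →ₗ[F] (Fin n → F) := LinearMap.fst F (Fin n → F) (V × (Fin n → F)) ∘ₗ
    (u : M F V n →ₗ[F] M F V n) ∘ₗ LinearMap.inr F (Fin n → F) (V × (Fin n → F)) ∘ₗ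
    LinearMap.inr F V (Fin n → F)
  let f2 : V →ₗ[F] (Fin n → F) := LinearMap.fst F (Fin n → F) (V × (Fin n → F)) ∘ₗ
    (u : M F V n →ₗ[F] M F V n) ∘ₗ LinearMap.inr F (Fin n → F) (V × (Fin n → F)) ∘ₗ
    LinearMap.inl F V (Fin n → F)
  have e1 : f1 = 0 := by
    apply hc.a'
    intro a
    have := hx (0, 0, a)
    rw [lev_apply, lev_apply] at this
    simp only [mulVec_zero, map_zero] at this
    exact congrArg (fun y => y.2.1) this
  have e2 : f2 = 0 := by
    apply hc.b'
    intro v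
    have := hx (0, v, 0)
    rw [lev_apply, lev_apply] at this
    simp only [mulVec_zero, map_zero] at this
    exact congrArg (fun y => y.1) this
  have e1' : ∀ a, (u (0, 0, a)).2.1 = 0 := fun a => LinearMap.congr_fun e1 a
  have e2' : ∀ v, (u (0, v, 0)).1 = 0 := fun v => LinearMap.congr_fun e2 v
  have e3 : f3 = 0 := by
    apply hc.c'
    · intro a
      have h1 := mem_O.1 hu.1 (0, 0, a)
      rw [MQ_apply, MQ_apply', hu.2.1, e1', dotProduct_comm] at h1
      show a ⬝ᵥ (u (0, 0, a)).1 = 0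
      simpa using h1
    · intro a
      have := hx (0, 0, a)
      rw [lev_apply, lev_apply] at this
      simp only [mulVec_zero, map_zero] at this
      exact congrArg (fun y => y.1) this
  have e3' : ∀ a, (u (0, 0, a)).1 = 0 := fun a => LinearMap.congr_fun e3 a
  apply LinearEquiv.ext
  intro x
  have hd : x = (x.1, 0, 0) + ((0, x.2.1, 0) + (0, 0, x.2.2)) := by
    refine Prod.ext (by simp) (Prod.ext (by simp) (by simp))
  have h1 : u (0, 0, x.2.2) = (0, 0, x.2.2) :=
    Prod.ext (e3' _) (Prod.ext (e1' _) (hu.2.1 _))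
  have h2 : u (0, x.2.1, 0) = (0, x.2.1, 0) :=
    Prod.ext (e2' _) (Prod.ext (hu.2.2.1 _ rfl) (hu.2.1 _))
  have h3 : u (x.1, 0, 0) = (x.1, 0, 0) := hu.2.2.2 _ rfl rfl
  conv_lhs => rw [hd, map_add, map_add, h1, h2, h3, ← hd]
  rfl

section Fin

variable [Finite F] [FiniteDimensional F V]

theorem finite_subgroup (U : Subgroup (M F V n ≃ₗ[F] M F V n)) : Finite U := by
  have : Finite V := Module.finite_of_finite F
  have : Finite (M F V n) := inferInstance
  have : Finite (M F V n ≃ₗ[F] M F V n) :=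
    Finite.of_injective (fun g => (g : M F V n → M F V n)) DFunLike.coe_injective
  infer_instance

theorem Cop.exists_um {X : GL (Fin n) F} {h : V ≃ₗ[F] V} (hc : Cop X h) (hh : h ∈ O Q)
    {u : M F V n ≃ₗ[F] M F V n} (hu : u ∈ Um n Q) :
    ∃ v ∈ Um n Q, v ∈ Om (MQ n Q) ∧ u * lev X h = v * lev X h * v⁻¹ := by
  have := finite_subgroup (Um n Q)
  have key : ∀ u ∈ Um n Q, ∃ v ∈ Um n Q, u = v * lev X h * v⁻¹ * (lev X h)⁻¹ := fun u hu =>
    exists_comm (Um n Q) (lev X h) (fun u hu => lev_conj_Um hh hu) (fun u hu => hc.um hu) hu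
  have hOm : ∀ u ∈ Um n Q, u ∈ Om (MQ n Q) := fun u hu => by
    obtain ⟨v, hv, rfl⟩ := key u hu
    exact comm_mem_Om hv.1 (lev_mem hh)
  obtain ⟨v, hv, e⟩ := key u hu
  exact ⟨v, hv, hOm v hv, by rw [e]; group⟩

theorem Cop.exists_up {X : GL (Fin n) F} {h : V ≃ₗ[F] V} (hc : Cop X h) (hh : h ∈ O Q)
    {u : M F V n ≃ₗ[F] M F V n} (hu : u ∈ Up n Q) :
    ∃ v ∈ Up n Q, v ∈ Om (MQ n Q) ∧ u * lev X h = v * lev X h * v⁻¹ := by
  have := finite_subgroup (Up n Q)
  have key : ∀ u ∈ Up n Q, ∃ v ∈ Up n Q, u = v * lev X h * v⁻¹ * (lev X h)⁻¹ := fun u hu =>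
    exists_comm (Up n Q) (lev X h) (fun u hu => lev_conj_Up hh hu) (fun u hu => hc.up hu) hu
  have hOm : ∀ u ∈ Up n Q, u ∈ Om (MQ n Q) := fun u hu => by
    obtain ⟨v, hv, rfl⟩ := key u hu
    exact comm_mem_Om hv.1 (lev_mem hh)
  obtain ⟨v, hv, e⟩ := key u hu
  exact ⟨v, hv, hOm v hv, by rw [e]; group⟩

/-- **STEP.** -/
theorem step {A X Y K : GL (Fin n) F} {g₁ x y k : V ≃ₗ[F] V} {u₁ u₂ : M F V n ≃ₗ[F] M F V n}
    (hu₁ : u₁ ∈ Um n Q) (hu₂ : u₂ ∈ Up n Q) (hA : A = X * Y⁻¹) (hX : X = K * Y * K⁻¹)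
    (hg : g₁ = x * y⁻¹) (hx : x = k * y * k⁻¹) (hyO : y ∈ O Q) (hkO : k ∈ O Q)
    (hXx : Cop X x) (hYy : Cop Y y) (hK : lev K k ∈ Om (MQ n Q)) :
    ∃ κ ∈ Om (MQ n Q), ∃ v ∈ Om (MQ n Q),
      u₁ * lev A g₁ * u₂ = κ * (v * lev Y y * v⁻¹) * κ⁻¹ * (v * lev Y y * v⁻¹)⁻¹ := by
  have hxO : x ∈ O Q := by
    rw [hx]; exact (O Q).mul_mem ((O Q).mul_mem hkO hyO) ((O Q).inv_mem hkO)
  obtain ⟨v₁, hv₁, hv₁', e₁⟩ := hXx.exists_um hxO hu₁
  obtain ⟨v₂, hv₂, hv₂', e₂⟩ := hYy.exists_up hyO ((Up n Q).inv_mem hu₂)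
  refine ⟨v₁ * lev K k * v₂⁻¹, ?_, v₂, hv₂', ?_⟩
  · exact (Om _).mul_mem ((Om _).mul_mem hv₁' hK) ((Om _).inv_mem hv₂')
  · have e3 : lev X x = lev K k * lev Y y * (lev K k)⁻¹ := by
      rw [hX, hx, lev_mul, lev_mul, lev_inv]
    have e4 : lev A g₁ = lev X x * (lev Y y)⁻¹ := by
      rw [hA, hg, lev_mul, lev_inv]
    have e5 : u₁ * lev A g₁ * u₂ = (u₁ * lev X x) * (u₂⁻¹ * lev Y y)⁻¹ := by
      rw [e4]; group
    rw [e5, e₁, e₂, e3]
    group

end Fin

/-! ### A criterion for `Cop` -/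

open Polynomial

theorem intertwine {U W : Type*} [AddCommGroup U] [Module F U] [AddCommGroup W] [Module F W]
    (f : U →ₗ[F] W) (α : Module.End F U) (β : Module.End F W) (hf : ∀ a, f (α a) = β (f a))
    (p : F[X]) : ∀ a, f (aeval α p a) = aeval β p (f a) := by
  induction p using Polynomial.induction_on' with
  | add p q hp hq => intro a; simp only [map_add, LinearMap.add_apply, hp, hq]
  | monomial k c =>
    have : ∀ k : ℕ, ∀ a, f ((α ^ k) a) = (β ^ k) (f a) := by
      intro k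
      induction k with
      | zero => intro a; simp
      | succ k ih => intro a; rw [pow_succ', pow_succ', Module.End.mul_apply,
          Module.End.mul_apply, hf, ih]
    intro a
    simp only [aeval_monomial, Module.End.mul_apply, Module.algebraMap_end_apply, map_smul, this]

theorem inj_of_unit {W : Type*} [AddCommGroup W] [Module F W] {β : Module.End F W}
    (hβ : IsUnit β) (w : W) (hw : β w = 0) : w = 0 := by
  obtain ⟨u, rfl⟩ := hβ
  have : ((u⁻¹ : (Module.End F W)ˣ) : Module.End F W) ((u : Module.End F W) w) = 0 := by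
    rw [hw, map_zero]
  rwa [← Module.End.mul_apply, Units.inv_mul, Module.End.one_apply] at this

theorem surj_of_unit {W : Type*} [AddCommGroup W] [Module F W] {β : Module.End F W}
    (hβ : IsUnit β) (w : W) : ∃ w', β w' = w := by
  obtain ⟨u, rfl⟩ := hβ
  refine ⟨((u⁻¹ : (Module.End F W)ˣ) : Module.End F W) w, ?_⟩
  rw [← Module.End.mul_apply, Units.mul_inv, Module.End.one_apply]

theorem aeval_toLin' (A : Matrix (Fin n) (Fin n) F) (p : F[X]) :
    aeval (Matrix.toLin' A) p = Matrix.toLin' (aeval A p) :=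
  Polynomial.aeval_algHom_apply (Matrix.toLinAlgEquiv' (R := F) (n := Fin n)).toAlgHom A p

/-- Polynomial criterion. -/
theorem cop_of {X : GL (Fin n) F} {h : V ≃ₗ[F] V} (P P' : F[X])
    (hP : aeval (X : Matrix (Fin n) (Fin n) F) P = 0)
    (hP' : aeval (ti X : Matrix (Fin n) (Fin n) F) P' = 0)
    (h1 : IsUnit (aeval (h : Module.End F V) P)) (h2 : IsUnit (aeval (h : Module.End F V) P'))
    (h3 : IsCoprime P P') : Cop X h := by
  have hPX : aeval (Matrix.toLin' (X : Matrix (Fin n) (Fin n) F)) P = 0 := by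
    rw [aeval_toLin', hP, map_zero]
  have hPX' : aeval (Matrix.toLin' (ti X : Matrix (Fin n) (Fin n) F)) P' = 0 := by
    rw [aeval_toLin', hP', map_zero]
  obtain ⟨r, s, hrs⟩ := h3
  have c3 : ∀ (A : Matrix (Fin n) (Fin n) F) , aeval (Matrix.toLin' A) P' = 0 → ∀ w,
      aeval (Matrix.toLin' A) P w = 0 → w = 0 := by
    intro A hA w hw
    have := congrArg (fun p => aeval (Matrix.toLin' A) p w) hrs
    simp only [map_add, map_mul, map_one, LinearMap.add_apply, Module.End.mul_apply, hw, hA,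
      mul_zero, LinearMap.zero_apply, map_zero, add_zero, Module.End.one_apply] at this
    exact this.symm
  have c4 : ∀ (A : Matrix (Fin n) (Fin n) F) , aeval (Matrix.toLin' A) P = 0 → ∀ w,
      aeval (Matrix.toLin' A) P' w = 0 → w = 0 := by
    intro A hA w hw
    have := congrArg (fun p => aeval (Matrix.toLin' A) p w) hrs
    simp only [map_add, map_mul, map_one, LinearMap.add_apply, Module.End.mul_apply, hw, hA,
      mul_zero, LinearMap.zero_apply, map_zero, zero_add, Module.End.one_apply] at this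
    exact this.symm
  refine ⟨fun f hf => ?_, fun f hf => ?_, fun f _ hf => ?_, fun f hf => ?_, fun f hf => ?_,
    fun f _ hf => ?_⟩
  · apply LinearMap.ext
    intro a
    apply inj_of_unit h1
    have := intertwine f (Matrix.toLin' (X : Matrix (Fin n) (Fin n) F)) (h : Module.End F V) hf P a
    rw [← this, hPX, LinearMap.zero_apply, map_zero]
  · apply LinearMap.ext
    intro v
    obtain ⟨w, rfl⟩ := surj_of_unit h2 v
    have := intertwine f (h : Module.End F V) (Matrix.toLin' (ti X : Matrix (Fin n) (Fin n) F)) hf P' w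
    rw [this, hPX', LinearMap.zero_apply, LinearMap.zero_apply]
  · apply LinearMap.ext
    intro a
    have := intertwine f (Matrix.toLin' (X : Matrix (Fin n) (Fin n) F))
      (Matrix.toLin' (ti X : Matrix (Fin n) (Fin n) F)) hf P a
    rw [hPX, LinearMap.zero_apply, map_zero] at this
    exact c3 _ hPX' _ this.symm
  · apply LinearMap.ext
    intro a
    apply inj_of_unit h2
    have := intertwine f (Matrix.toLin' (ti X : Matrix (Fin n) (Fin n) F)) (h : Module.End F V) hf P' a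
    rw [← this, hPX', LinearMap.zero_apply, map_zero]
  · apply LinearMap.ext
    intro v
    obtain ⟨w, rfl⟩ := surj_of_unit h1 v
    have := intertwine f (h : Module.End F V) (Matrix.toLin' (X : Matrix (Fin n) (Fin n) F)) hf P w
    rw [this, hPX, LinearMap.zero_apply, LinearMap.zero_apply]
  · apply LinearMap.ext
    intro a
    have := intertwine f (Matrix.toLin' (ti X : Matrix (Fin n) (Fin n) F))
      (Matrix.toLin' (X : Matrix (Fin n) (Fin n) F)) hf P' a
    rw [hPX', LinearMap.zero_apply, map_zero] at this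
    exact c4 _ hPX _ this.symm

end Cfsg.Agent.H140.OreO
end

-- part: H140/OreO/Poly
section
/-!
# Polynomials: units, reciprocal polynomials, existence of good irreducible polynomials
-/

set_option autoImplicit false
set_option linter.unusedSectionVars false
set_option linter.unusedSimpArgs false
set_option linter.unusedVariables false

namespace Cfsg.Agent.H140.OreO

open Polynomial Matrix QuadraticMap Cfsg.Agent.LieClassical.OrthCore

variable {F V : Type*} [Field F] [AddCommGroup V] [Module F V] {n : ℕ}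

/-- `c(φ)` is invertible. -/
def Un (φ : Module.End F V) (c : F[X]) : Prop := IsUnit (aeval φ c)

theorem un_of_dvd {φ : Module.End F V} {c d : F[X]} (h : Un φ d) (hcd : c ∣ d) : Un φ c := by
  obtain ⟨e, rfl⟩ := hcd
  obtain ⟨u, hu⟩ := h
  rw [map_mul] at hu
  refine ⟨⟨aeval φ c, aeval φ e * (u⁻¹ : (Module.End F V)ˣ), ?_, ?_⟩, rfl⟩
  · rw [← mul_assoc, ← hu, Units.mul_inv]
  · have h1 : aeval φ e * aeval φ c = u := by rw [hu, ← map_mul, ← map_mul, mul_comm]
    have h2 : ∀ a : Module.End F V, (∀ p : F[X], a * aeval φ p = aeval φ p * a) →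
        True := fun _ _ => trivial
    -- `u⁻¹` commutes with `c(φ)`
    have h3 : (u : Module.End F V) * aeval φ c = aeval φ c * u := by
      rw [hu, ← map_mul, ← map_mul, ← map_mul]
      congr 1; ring
    have h4 : ((u⁻¹ : (Module.End F V)ˣ) : Module.End F V) * aeval φ c =
        aeval φ c * ((u⁻¹ : (Module.End F V)ˣ) : Module.End F V) := by
      rw [Units.inv_mul_eq_iff_eq_mul, ← mul_assoc, h3, mul_assoc, Units.mul_inv, mul_one]
    rw [mul_assoc, h4, ← mul_assoc, h1, Units.mul_inv]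

theorem un_of_coprime {φ : Module.End F V} {c P : F[X]} (hP : aeval φ P = 0) (h : IsCoprime c P) :
    Un φ c := by
  obtain ⟨r, s, hrs⟩ := h
  have h1 : aeval φ r * aeval φ c = 1 := by
    have := congrArg (aeval φ) hrs
    simpa [hP] using this
  have h2 : aeval φ c * aeval φ r = 1 := by
    rw [← map_mul, mul_comm, map_mul, h1]
  exact ⟨⟨_, _, h2, h1⟩, rfl⟩

theorem Un.of_coprime_mat {A : Matrix (Fin n) (Fin n) F} {c P : F[X]} (hP : aeval A P = 0)
    (h : IsCoprime c P) : Un (Matrix.toLin' A) c :=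
  un_of_coprime (by rw [aeval_toLin', hP, map_zero]) h

theorem Un.conj {φ ψ : Module.End F V} {c : F[X]} (h : Un φ c) (g : V ≃ₗ[F] V)
    (hg : ∀ v, ψ (g v) = g (φ v)) : Un ψ c := by
  have e : ∀ v, aeval ψ c (g v) = g (aeval φ c v) := fun v =>
    (intertwine (g : V →ₗ[F] V) φ ψ (fun v => (hg v).symm) c v).symm
  obtain ⟨u, hu⟩ := h
  refine ⟨⟨aeval ψ c, (g : Module.End F V) * (u⁻¹ : (Module.End F V)ˣ) * (g.symm : Module.End F V),
    ?_, ?_⟩, rfl⟩
  · apply LinearMap.ext
    intro v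
    show aeval ψ c (g (((u⁻¹ : (Module.End F V)ˣ) : Module.End F V) (g.symm v))) = v
    rw [e, ← hu, ← Module.End.mul_apply, Units.mul_inv, Module.End.one_apply,
      LinearEquiv.apply_symm_apply]
  · apply LinearMap.ext
    intro v
    obtain ⟨w, rfl⟩ := g.surjective v
    show g (((u⁻¹ : (Module.End F V)ˣ) : Module.End F V) (g.symm (aeval ψ c (g w)))) = g w
    rw [e, LinearEquiv.symm_apply_apply, ← hu, ← Module.End.mul_apply, Units.inv_mul,
      Module.End.one_apply]

/-- Conjugates. -/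
theorem Un.conj' {y : V ≃ₗ[F] V} {c : F[X]} (h : Un (y : Module.End F V) c) (g : V ≃ₗ[F] V) :
    Un ((g * y * g⁻¹ : V ≃ₗ[F] V) : Module.End F V) c := by
  refine h.conj g fun v => ?_
  show g (y (g.symm (g v))) = g (y v)
  rw [LinearEquiv.symm_apply_apply]

theorem un_of_injective [FiniteDimensional F V] {φ : Module.End F V} {c : F[X]}
    (h : ∀ v, aeval φ c v = 0 → v = 0) : Un φ c := by
  rw [Un, LinearMap.isUnit_iff_ker_eq_bot, LinearMap.ker_eq_bot']
  exact h

/-- Levi elements. -/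
theorem un_lev [FiniteDimensional F V] {A : GL (Fin n) F} {h : V ≃ₗ[F] V} {c : F[X]}
    (h1 : Un (Matrix.toLin' (A : Matrix (Fin n) (Fin n) F)) c) (h2 : Un (h : Module.End F V) c)
    (h3 : Un (Matrix.toLin' (ti A : Matrix (Fin n) (Fin n) F)) c) :
    Un ((lev A h : M F V n ≃ₗ[F] M F V n) : Module.End F (M F V n)) c := by
  apply un_of_injective
  intro x hx
  have e1 := intertwine (LinearMap.fst F (Fin n → F) (V × (Fin n → F)))
    ((lev A h : M F V n ≃ₗ[F] M F V n) : Module.End F (M F V n))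
    (Matrix.toLin' (A : Matrix (Fin n) (Fin n) F)) (fun a => rfl) c x
  have e2 := intertwine (LinearMap.fst F V (Fin n → F) ∘ₗ
      LinearMap.snd F (Fin n → F) (V × (Fin n → F)))
    ((lev A h : M F V n ≃ₗ[F] M F V n) : Module.End F (M F V n))
    (h : Module.End F V) (fun a => rfl) c x
  have e3 := intertwine (LinearMap.snd F V (Fin n → F) ∘ₗ
      LinearMap.snd F (Fin n → F) (V × (Fin n → F)))
    ((lev A h : M F V n ≃ₗ[F] M F V n) : Module.End F (M F V n))
    (Matrix.toLin' (ti A : Matrix (Fin n) (Fin n) F)) (fun a => rfl) c x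
  rw [hx, map_zero] at e1 e2 e3
  exact Prod.ext (inj_of_unit h1 _ e1.symm) (Prod.ext (inj_of_unit h2 _ e2.symm)
    (inj_of_unit h3 _ e3.symm))

/-! ### Reciprocal polynomials -/

theorem aeval_ti_reverse (A : GL (Fin n) F) :
    aeval (ti A : Matrix (Fin n) (Fin n) F)
      (A : Matrix (Fin n) (Fin n) F).charpoly.reverse = 0 := by
  have hA : IsUnit (A : Matrix (Fin n) (Fin n) F) := A.isUnit
  have h1 := Matrix.charpoly_inv (A : Matrix (Fin n) (Fin n) F) hA
  have h2 := Matrix.aeval_self_charpoly (((A : Matrix (Fin n) (Fin n) F))⁻¹)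
  rw [h1, map_mul, ← Matrix.reverse_charpoly] at h2
  have hd : (A : Matrix (Fin n) (Fin n) F).det ≠ 0 := (Matrix.isUnit_iff_isUnit_det _).1 hA |>.ne_zero
  have h3 : IsUnit (aeval (((A : Matrix (Fin n) (Fin n) F))⁻¹)
      ((-1) ^ Fintype.card (Fin n) * C (Ring.inverse (A : Matrix (Fin n) (Fin n) F).det))) := by
    apply IsUnit.map
    apply IsUnit.mul
    · exact (isUnit_one.neg).pow _
    · rw [isUnit_C, Ring.inverse_eq_inv']
      exact (inv_ne_zero hd).isUnit
  have h4 : aeval (((A : Matrix (Fin n) (Fin n) F))⁻¹)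
      (A : Matrix (Fin n) (Fin n) F).charpoly.reverse = 0 := by
    rwa [h3.mul_right_eq_zero] at h2
  have h5 : (ti A : Matrix (Fin n) (Fin n) F) = ((A : Matrix (Fin n) (Fin n) F)⁻¹)ᵀ := by
    rw [ti_coe, ← coe_units_inv]
  rw [h5]
  have h6 : ∀ (B : Matrix (Fin n) (Fin n) F) (p : F[X]), aeval Bᵀ p = (aeval B p)ᵀ := by
    intro B p
    induction p using Polynomial.induction_on' with
    | add p q hp hq => rw [map_add, map_add, hp, hq, transpose_add]
    | monomial k a => simp [aeval_monomial, transpose_mul, transpose_pow,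
        Algebra.algebraMap_eq_smul_one]
  rw [h6, h4, transpose_zero]

/-- The matrix conditions for a block. -/
theorem cop_of_charpoly {X : GL (Fin n) F} {h : V ≃ₗ[F] V}
    (h1 : Un (h : Module.End F V) (X : Matrix (Fin n) (Fin n) F).charpoly)
    (h2 : Un (h : Module.End F V) (X : Matrix (Fin n) (Fin n) F).charpoly.reverse)
    (h3 : IsCoprime (X : Matrix (Fin n) (Fin n) F).charpoly
      (X : Matrix (Fin n) (Fin n) F).charpoly.reverse) : Cop X h :=
  cop_of _ _ (aeval_self_charpoly _) (aeval_ti_reverse X) h1 h2 h3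

theorem exists_matrix {m : ℕ} (c : F[X]) (hc : c.Monic) (h0 : c.coeff 0 ≠ 0)
    (hm : c.natDegree = m) :
    ∃ X : GL (Fin m) F, (X : Matrix (Fin m) (Fin m) F).charpoly = c := by
  have hc0 : c ≠ 0 := hc.ne_zero
  let pb := AdjoinRoot.powerBasis hc0
  have hdim : pb.dim = m := by rw [← hm]; exact AdjoinRoot.powerBasis_dim hc0
  have h1 : (Algebra.leftMulMatrix pb.basis pb.gen).charpoly = c := by
    rw [charpoly_leftMulMatrix]
    exact AdjoinRoot.minpoly_powerBasis_gen_of_monic hc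
  subst hdim
  have hdet : (Algebra.leftMulMatrix pb.basis pb.gen).det ≠ 0 := by
    rw [det_eq_sign_charpoly_coeff, h1]
    exact mul_ne_zero (pow_ne_zero _ (neg_ne_zero.2 one_ne_zero)) h0
  exact ⟨Matrix.GeneralLinearGroup.mkOfDetNeZero _ hdet, h1⟩

/-! ### Existence of irreducible polynomials prime to their reciprocals -/

/-- `c` is monic, irreducible of degree `m`, and prime to its reciprocal. -/
structure GoodPoly (m : ℕ) (c : F[X]) : Prop where
  monic : c.Monic
  irr : Irreducible c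
  deg : c.natDegree = m
  cop : IsCoprime c c.reverse

theorem coeff_zero_ne {c : F[X]} (hc : Irreducible c) (hd : 2 ≤ c.natDegree) : c.coeff 0 ≠ 0 := by
  intro h
  have h1 : X ∣ c := X_dvd_iff.2 h
  obtain ⟨d, hd'⟩ := h1
  rcases hc.isUnit_or_isUnit hd' with h2 | h2
  · exact not_isUnit_X h2
  · have : c.natDegree ≤ 1 := by
      rw [hd']
      refine le_trans natDegree_mul_le ?_
      rw [natDegree_X, natDegree_eq_zero_of_isUnit h2]
    omega

theorem isCoprime_of_root {K : Type*} [Field K] [Algebra F K] {c p : F[X]} (hc : Irreducible c)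
    {a : K} (ha : aeval a c = 0) (hp : aeval a p ≠ 0) : IsCoprime c p := by
  rw [hc.coprime_iff_not_dvd]
  rintro ⟨d, rfl⟩
  apply hp
  rw [map_mul, ha, zero_mul]

theorem aeval_reverse_ne {K : Type*} [Field K] [Algebra F K] {c : F[X]} {a : K} (ha0 : a ≠ 0)
    (h : aeval a⁻¹ c ≠ 0) : aeval a c.reverse ≠ 0 := by
  intro h1
  apply h
  have : Invertible a⁻¹ := invertibleOfNonzero (inv_ne_zero ha0)
  have h2 := (eval₂_reverse_eq_zero_iff (algebraMap F K) a⁻¹ c).1
  apply h2
  rw [invOf_eq_inv, inv_inv]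
  exact h1

theorem exists_gen (F : Type*) [Field F] [Finite F] (n : ℕ) (hn : n ≠ 0) :
    ∃ (K : Type) (_ : Field K) (_ : Algebra F K) (_ : FiniteDimensional F K) (_ : Finite K),
      Module.finrank F K = n ∧ Nat.card K = Nat.card F ^ n := by
  have : NeZero n := ⟨hn⟩
  obtain ⟨p, hp⟩ := CharP.exists F
  have : Fact p.Prime := ⟨CharP.char_is_prime F p⟩
  exact ⟨FiniteField.Extension F p n, inferInstance, inferInstance, inferInstance, inferInstance,
    FiniteField.finrank_extension F p n, FiniteField.natCard_extension F p n⟩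

/-- Existence of good polynomials: minimal polynomials of generators. -/
theorem exists_good_gen (F : Type*) [Field F] [Finite F] (m : ℕ) (hm : 2 ≤ m)
    (hq : 5 ≤ Nat.card F ^ m) : ∃ (K : Type) (_ : Field K) (_ : Algebra F K) (_ : Finite K) (u : Kˣ),
      Nat.card K = Nat.card F ^ m ∧ (∀ x, x ∈ Subgroup.zpowers u) ∧ GoodPoly m (minpoly F (u : K)) := by
  obtain ⟨K, _, _, _, _, hK, hcard⟩ := exists_gen F m (by omega)
  obtain ⟨u, hu⟩ := IsCyclic.exists_generator (α := Kˣ)
  have hint : IsIntegral F (u : K) := Algebra.IsIntegral.isIntegral _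
  have hadj : IntermediateField.adjoin F {(u : K)} = ⊤ := by
    rw [eq_top_iff]
    intro x _
    by_cases hx : x = 0
    · rw [hx]; exact zero_mem _
    · obtain ⟨k, hk⟩ := Subgroup.mem_zpowers_iff.1 (hu (Units.mk0 x hx))
      have h1 : x = (u : K) ^ k := by
        have := congrArg Units.val hk
        simpa using this.symm
      rw [h1]
      exact zpow_mem (IntermediateField.mem_adjoin_simple_self F (u : K)) k
  have hdeg : (minpoly F (u : K)).natDegree = m := by
    rw [← IntermediateField.adjoin.finrank hint, hadj, IntermediateField.finrank_top', hK]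
  have hroot : aeval (u : K) (minpoly F (u : K)) = 0 := minpoly.aeval _ _
  refine ⟨K, inferInstance, inferInstance, inferInstance, u, hcard, hu, minpoly.monic hint,
    minpoly.irreducible hint, hdeg, ?_⟩
  refine isCoprime_of_root (minpoly.irreducible hint) hroot (aeval_reverse_ne u.ne_zero ?_)
  intro h0
  -- `u⁻¹` would be a conjugate of `u`
  have hconj : IsConjRoot F (u : K) ((u : K)⁻¹) := by
    exact minpoly.eq_of_irreducible_of_monic (minpoly.irreducible hint) h0
      (minpoly.monic hint)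
  rw [isConjRoot_iff_exists_algEquiv] at hconj
  obtain ⟨σ, hσ⟩ := hconj
  have h2 : ∀ a : K, a ≠ 0 → σ a = a⁻¹ := by
    have hσu : σ (u : K) = ((u : K))⁻¹ := by
      have h3 : σ ((u : K)⁻¹) * σ (u : K) = 1 := by
        rw [← map_mul, inv_mul_cancel₀ u.ne_zero, map_one]
      rw [hσ] at h3
      exact (eq_inv_of_mul_eq_one_right h3)
    intro a ha
    obtain ⟨k, hk⟩ := Subgroup.mem_zpowers_iff.1 (hu (Units.mk0 a ha))
    have h1 : a = (u : K) ^ k := by
      have := congrArg Units.val hk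
      simpa using this.symm
    rw [h1, map_zpow₀, hσu, _root_.inv_zpow]
  have : Fintype K := Fintype.ofFinite _
  have h3 := Polynomial.eq_zero_of_natDegree_lt_card_of_eval_eq_zero
    (X * (X + 1) * (X ^ 2 + X + 1) : K[X]) Function.injective_id (by
      intro a
      simp only [id, eval_mul, eval_add, eval_X, eval_one, eval_pow]
      by_cases ha : a = 0
      · simp [ha]
      by_cases ha' : a + 1 = 0
      · simp [ha']
      have h4 := h2 (a + 1) ha'
      rw [map_add, map_one, h2 a ha] at h4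
      have h5 : a ^ 2 + a + 1 = 0 := by
        field_simp at h4
        linear_combination h4
      rw [h5, mul_zero]) (by
      have h4 : (X * (X + 1) * (X ^ 2 + X + 1) : K[X]).natDegree ≤ 4 := by
        compute_degree
      rw [Nat.card_eq_fintype_card] at hcard
      omega)
  have h4 : (X * (X + 1) * (X ^ 2 + X + 1) : K[X]).coeff 4 = 1 := by
    have : (X * (X + 1) * (X ^ 2 + X + 1) : K[X]) = X ^ 4 + C 2 * X ^ 3 + C 2 * X ^ 2 + X := by
      simp only [map_ofNat]; ring
    rw [this]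
    simp [coeff_X]
  rw [h3] at h4
  simp at h4

theorem exists_good (F : Type*) [Field F] [Finite F] (m : ℕ) (hm : 2 ≤ m)
    (hq : 5 ≤ Nat.card F ^ m) : ∃ c : F[X], GoodPoly m c := by
  obtain ⟨K, _, _, _, u, -, -, h⟩ := exists_good_gen F m hm hq
  exact ⟨_, h⟩

/-- A good quadratic polynomial with nonzero middle coefficient. -/
theorem exists_good_quad (F : Type*) [Field F] [Finite F] (hF : 3 ≤ Nat.card F) :
    ∃ c : F[X], GoodPoly 2 c ∧ c.coeff 1 ≠ 0 := by
  obtain ⟨K, _, _, _, u, hcard, hu, h⟩ := exists_good_gen F 2 le_rfl (by nlinarith)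
  refine ⟨_, h, fun h1 => ?_⟩
  have h2 : (u : K) ^ 2 = algebraMap F K (-(minpoly F (u : K)).coeff 0) := by
    have h3 := minpoly.aeval F (u : K)
    rw [aeval_eq_sum_range, h.deg] at h3
    have h4 : (minpoly F (u : K)).coeff 2 = 1 := by
      have := h.monic
      rw [Monic, leadingCoeff, h.deg] at this
      exact this
    simp only [Finset.sum_range_succ, Finset.sum_range_zero, h1, h4, zero_smul, one_smul,
      Algebra.smul_def, pow_zero, mul_one, zero_add, add_zero, map_zero, map_one, zero_mul,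
      one_mul] at h3
    rw [map_neg]
    linear_combination h3
  have h5 : (u : K) ^ (2 * (Nat.card F - 1)) = 1 := by
    have : Fintype F := Fintype.ofFinite F
    rw [pow_mul, h2, ← map_pow, Nat.card_eq_fintype_card, FiniteField.pow_card_sub_one_eq_one,
      map_one]
    intro h6
    rw [h6, map_zero] at h2
    exact u.ne_zero (pow_eq_zero_iff (by norm_num) |>.1 h2)
  have h6 : u ^ (2 * (Nat.card F - 1)) = 1 := Units.ext (by rw [Units.val_pow_eq_pow_val, h5]; rfl)
  have h7 : orderOf u = Nat.card Kˣ := orderOf_eq_card_of_forall_mem_zpowers hu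
  have h8 : Nat.card Kˣ = Nat.card F ^ 2 - 1 := by rw [Nat.card_units, hcard]
  have h9 := Nat.le_of_dvd (by omega) (orderOf_dvd_of_pow_eq_one h6)
  rw [h7, h8] at h9
  have h10 : Nat.card F ^ 2 = Nat.card F * Nat.card F := by ring
  have h11 : 3 * Nat.card F ≤ Nat.card F * Nat.card F := Nat.mul_le_mul_right _ hF
  omega

end Cfsg.Agent.H140.OreO
end

-- part: H140/OreO/Trans
section
/-!
# Transport along isometries; blocks with corner `1`
-/

set_option autoImplicit false
set_option linter.unusedSectionVars false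
set_option linter.unusedSimpArgs false
set_option linter.unusedVariables false

namespace Cfsg.Agent.H140.OreO

open Polynomial Matrix QuadraticMap Cfsg.Agent.LieClassical.OrthCore
  Cfsg.Agent.LieClassical.OrthTrans Cfsg.Agent.LieClassical.OrthFinite
open scoped commutatorElement

variable {F V V' : Type*} [Field F] [AddCommGroup V] [Module F V] [AddCommGroup V'] [Module F V']
  {n : ℕ} {Q : QuadraticForm F V} {Q' : QuadraticForm F V'}

/-- Conjugation by a linear equivalence. -/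
def autE (e : V ≃ₗ[F] V') : (V ≃ₗ[F] V) ≃* (V' ≃ₗ[F] V') where
  toFun := fun g => e.symm.trans (g.trans e)
  invFun := fun g => e.trans (g.trans e.symm)
  left_inv := fun g => by ext v; simp
  right_inv := fun g => by ext v; simp
  map_mul' := fun g h => by ext v; simp [LinearEquiv.mul_apply]

theorem autE_apply (e : V ≃ₗ[F] V') (g : V ≃ₗ[F] V) (v : V') :
    autE e g v = e (g (e.symm v)) := rfl

theorem autE_apply' (e : V ≃ₗ[F] V') (g : V ≃ₗ[F] V) (v : V) :
    autE e g (e v) = e (g v) := by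
  rw [autE_apply, LinearEquiv.symm_apply_apply]

theorem map_autE_O (e : V ≃ₗ[F] V') (he : ∀ v, Q' (e v) = Q v) :
    (O Q).map (autE e).toMonoidHom = O Q' := by
  apply le_antisymm
  · rintro _ ⟨g, hg, rfl⟩
    exact conj_mem_O e he hg
  · intro g hg
    refine ⟨(autE e).symm g, ?_, (autE e).apply_symm_apply g⟩
    intro v
    show Q (e.symm (g (e v))) = Q v
    rw [← he, LinearEquiv.apply_symm_apply, mem_O.1 hg, he]

theorem map_autE_Om (e : V ≃ₗ[F] V') (he : ∀ v, Q' (e v) = Q v) :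
    (Om Q).map (autE e).toMonoidHom = Om Q' := by
  rw [Om, Subgroup.map_commutator, map_autE_O e he]

theorem autE_mem_Om {e : V ≃ₗ[F] V'} (he : ∀ v, Q' (e v) = Q v) {g : V ≃ₗ[F] V} :
    autE e g ∈ Om Q' ↔ g ∈ Om Q := by
  rw [← map_autE_Om e he]
  constructor
  · rintro ⟨g', hg', h⟩
    rw [(autE e).injective h] at hg'
    exact hg'
  · intro h
    exact ⟨g, h, rfl⟩

theorem autE_mem_O {e : V ≃ₗ[F] V'} (he : ∀ v, Q' (e v) = Q v) {g : V ≃ₗ[F] V} :
    autE e g ∈ O Q' ↔ g ∈ O Q := by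
  rw [← map_autE_O e he]
  constructor
  · rintro ⟨g', hg', h⟩
    rw [(autE e).injective h] at hg'
    exact hg'
  · intro h
    exact ⟨g, h, rfl⟩

theorem polar_iso {e : V ≃ₗ[F] V'} (he : ∀ v, Q' (e v) = Q v) (x y : V) :
    polar Q' (e x) (e y) = polar Q x y := by
  simp only [polar, ← map_add, he]

theorem hyp_iso {e : V ≃ₗ[F] V'} (he : ∀ v, Q' (e v) = Q v) {x y : V} (h : Hyp Q x y) :
    Hyp Q' (e x) (e y) :=
  ⟨by rw [he]; exact h.left, by rw [he]; exact h.right, by rw [polar_iso he]; exact h.pair⟩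

theorem autE_hsc {e : V ≃ₗ[F] V'} (he : ∀ v, Q' (e v) = Q v) {x y : V} (h : Hyp Q x y)
    (h' : Hyp Q' (e x) (e y)) (s : Fˣ) : autE e (hsc h s) = hsc h' s := by
  apply LinearEquiv.ext
  intro v
  obtain ⟨v, rfl⟩ := e.surjective v
  rw [autE_apply', hsc_apply, hsc_apply, polar_iso he, polar_iso he, map_add, map_add, map_smul,
    map_smul]

/-- Classes are transported. -/
theorem Cl.of_autE {e : V ≃ₗ[F] V'} (he : ∀ v, Q' (e v) = Q v) {s : Fˣ} {y : V ≃ₗ[F] V}
    (h : Cl Q' s (autE e y)) : Cl Q s y := by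
  refine ⟨(autE_mem_O he).1 h.1, fun x x' hx => ?_⟩
  rw [← autE_mem_Om he, map_mul, map_inv, autE_hsc he hx (hyp_iso he hx)]
  exact h.2 _ _ _

theorem Un.of_autE {e : V ≃ₗ[F] V'} {y : V ≃ₗ[F] V} {c : F[X]}
    (h : Un ((autE e y : V' ≃ₗ[F] V') : Module.End F V') c) : Un (y : Module.End F V) c := by
  have e1 : ∀ v, aeval ((autE e y : V' ≃ₗ[F] V') : Module.End F V') c (e v) =
      e (aeval (y : Module.End F V) c v) := fun v =>
    (intertwine (e : V →ₗ[F] V') (y : Module.End F V)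
      ((autE e y : V' ≃ₗ[F] V') : Module.End F V') (fun v => (autE_apply' e y v).symm) c v).symm
  obtain ⟨u, hu⟩ := h
  refine ⟨⟨aeval (y : Module.End F V) c, (e.symm : V' →ₗ[F] V) ∘ₗ
    ((u⁻¹ : (Module.End F V')ˣ) : Module.End F V') ∘ₗ (e : V →ₗ[F] V'), ?_, ?_⟩, rfl⟩
  · apply LinearMap.ext
    intro v
    show aeval (y : Module.End F V) c (e.symm (((u⁻¹ : (Module.End F V')ˣ) : Module.End F V') (e v))) = v
    apply e.injective
    rw [← e1, LinearEquiv.apply_symm_apply, ← hu, ← Module.End.mul_apply, Units.mul_inv,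
      Module.End.one_apply]
  · apply LinearMap.ext
    intro v
    show e.symm (((u⁻¹ : (Module.End F V')ˣ) : Module.End F V') (e (aeval (y : Module.End F V) c v))) = v
    rw [← e1, ← hu, ← Module.End.mul_apply, Units.inv_mul, Module.End.one_apply,
      LinearEquiv.symm_apply_apply]

/-! ### Solutions -/

/-- `g = k y k⁻¹ y⁻¹` with `k ∈ Ω`, `y ∈ Ω h(s)` and `R y`. -/
def Sol (Q : QuadraticForm F V) (g : V ≃ₗ[F] V) (s : Fˣ) (R : (V ≃ₗ[F] V) → Prop) : Prop :=
  ∃ k ∈ Om Q, ∃ y, Cl Q s y ∧ g = k * y * k⁻¹ * y⁻¹ ∧ R y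

theorem Sol.of_autE {e : V ≃ₗ[F] V'} (he : ∀ v, Q' (e v) = Q v) {g : V ≃ₗ[F] V} {s : Fˣ}
    {R : (V ≃ₗ[F] V) → Prop} {R' : (V' ≃ₗ[F] V') → Prop} (h : Sol Q' (autE e g) s R')
    (hR : ∀ y, R' (autE e y) → R y) : Sol Q g s R := by
  obtain ⟨k', hk', y', hy', e', hr'⟩ := h
  obtain ⟨k, rfl⟩ := (autE e).surjective k'
  obtain ⟨y, rfl⟩ := (autE e).surjective y'
  refine ⟨k, (autE_mem_Om he).1 hk', y, hy'.of_autE he, ?_, hR y hr'⟩
  apply (autE e).injective
  rw [e']
  simp only [map_mul, map_inv]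

section Fin

variable [Finite F] [FiniteDimensional F V]

/-- **Corner `1` and a block `X`.** -/
theorem block (hG : Good (MQ n Q)) (hn : 0 < n) (hV : ∃ x x', Hyp Q x x')
    {g : M F V n ≃ₗ[F] M F V n} (hg : g ∈ Om (MQ n Q)) (hcorner : ∀ a, (g (a, 0, 0)).1 = a)
    (hOm : ∀ g₁ ∈ O Q, lev (1 : GL (Fin n) F) g₁ ∈ Om (MQ n Q) → g₁ ∈ Om Q)
    {s t : Fˣ} (R : (V ≃ₗ[F] V) → Prop) (ih : ∀ g₁ ∈ Om Q, Sol Q g₁ t R)
    (P : GL (Fin n) F → (V ≃ₗ[F] V) → Prop)
    (hcop : ∀ y, R y → ∃ (X : GL (Fin n) F) (a : Fˣ), (X : Matrix (Fin n) (Fin n) F).det =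
      ((s * (a * a) : Fˣ) : F) ∧ P X y ∧ ∀ k : V ≃ₗ[F] V, Cop X (k * y * k⁻¹)) :
    Sol (MQ n Q) g (s * t) (fun η => ∃ y v X, R y ∧ P X y ∧ η = v * lev X y * v⁻¹) := by
  obtain ⟨u₁, hu₁, g₁, hg₁, u₂, hu₂, e⟩ := decomp (Om_le hg) 1 (fun a => by
    rw [hcorner]; simp)
  -- `U⁻, U⁺ ≤ Ω`
  obtain ⟨k', hk', y', hy', -, hR'⟩ := ih 1 (one_mem _)
  obtain ⟨X', a', -, -, hcX'⟩ := hcop y' hR'
  have hc' : Cop X' y' := by simpa using hcX' 1
  have key1 : ∀ u ∈ Um n Q, u ∈ Om (MQ n Q) := by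
    intro u hu
    have := finite_subgroup (Um n Q)
    obtain ⟨v, hv, e2⟩ := exists_comm (Um n Q) (lev X' y')
      (fun u hu => lev_conj_Um hy'.1 hu) (fun u hu => hc'.um hu) hu
    rw [e2]
    exact comm_mem_Om hv.1 (lev_mem hy'.1)
  have key2 : ∀ u ∈ Up n Q, u ∈ Om (MQ n Q) := by
    intro u hu
    have := finite_subgroup (Up n Q)
    obtain ⟨v, hv, e2⟩ := exists_comm (Up n Q) (lev X' y')
      (fun u hu => lev_conj_Up hy'.1 hu) (fun u hu => hc'.up hu) hu
    rw [e2]
    exact comm_mem_Om hv.1 (lev_mem hy'.1)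
  have h1 : lev (1 : GL (Fin n) F) g₁ ∈ Om (MQ n Q) := by
    have e2 : lev (1 : GL (Fin n) F) g₁ = u₁⁻¹ * g * u₂⁻¹ := by rw [e]; group
    rw [e2]
    exact (Om _).mul_mem ((Om _).mul_mem ((Om _).inv_mem (key1 _ hu₁)) hg)
      ((Om _).inv_mem (key2 _ hu₂))
  obtain ⟨k, hk, y, hy, e3, hR⟩ := ih g₁ (hOm g₁ hg₁ h1)
  obtain ⟨X, a, hX, hPX, hcX⟩ := hcop y hR
  obtain ⟨κ, hκ, v, hv, e4⟩ := step (A := 1) (X := X) (Y := X) (K := 1) (g₁ := g₁)
    (x := k * y * k⁻¹) (y := y) (k := k) hu₁ hu₂ (by rw [mul_inv_cancel]) (by group) e3 rfl hy.1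
    (Om_le hk) (hcX k) (by simpa using hcX 1) (levV_mem hk)
  refine ⟨κ, hκ, v * lev X y * v⁻¹, ?_, by rw [e, e4], y, v, X, hR, hPX, rfl⟩
  have h2 := (lev_cl_mul hG hn hX hy hV).conj (Om_le hv)
  have h3 := h2.sq hG (t := a⁻¹)
  have e5 : s * (a * a) * t * (a⁻¹ * a⁻¹) = s * t := by
    calc s * (a * a) * t * (a⁻¹ * a⁻¹) = s * t * ((a * a⁻¹) * (a * a⁻¹)) := by
          simp only [mul_assoc, mul_comm, mul_left_comm]
      _ = s * t := by rw [mul_inv_cancel, mul_one, mul_one]
  rwa [e5] at h3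

/-- **Base corner.** -/
theorem base (hG : Good (MQ n Q)) (hn : 0 < n) {g : M F V n ≃ₗ[F] M F V n}
    (hg : g ∈ O (MQ n Q)) {A Y K : GL (Fin n) F}
    (hA : ∀ a, (g (a, 0, 0)).1 = (A : Matrix (Fin n) (Fin n) F) *ᵥ a)
    (hS : ∀ v, ∃ c d, g (c, v, 0) = (0, v, d)) (hAY : A = (K * Y * K⁻¹) * Y⁻¹)
    (hK : (K : Matrix (Fin n) (Fin n) F).det = 1) {s : Fˣ}
    (hY : (Y : Matrix (Fin n) (Fin n) F).det = s)
    (hc1 : Cop (K * Y * K⁻¹) (1 : V ≃ₗ[F] V)) (hc2 : Cop Y (1 : V ≃ₗ[F] V)) :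
    Sol (MQ n Q) g s (fun η => ∃ v, η = v * lev Y 1 * v⁻¹) := by
  obtain ⟨u₁, hu₁, g₁, hg₁, u₂, hu₂, e⟩ := decomp hg A hA
  have hg1 : g₁ = 1 := by
    apply LinearEquiv.ext
    intro v
    obtain ⟨c, d, hcd⟩ := hS v
    have h1 : (u₂ (c, v, 0)).2.1 = v := hu₂.2.2.1 _ rfl
    have h2 : (u₂ (c, v, 0)).2.2 = 0 := hu₂.2.1 _
    have h3 : u₁ (lev A g₁ (u₂ (c, v, 0))) = (0, v, d) := by
      rw [← hcd, e]; rfl
    have h4 : (lev A g₁ (u₂ (c, v, 0))).1 = 0 := by
      rw [← hu₁.2.1, h3]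
    have h5 := hu₁.2.2.1 _ h4
    rw [h3, lev_apply, h1] at h5
    exact h5.symm
  obtain ⟨κ, hκ, v, hv, e4⟩ := step (A := A) (X := K * Y * K⁻¹) (Y := Y) (K := K) (g₁ := g₁)
    (x := 1) (y := 1) (k := 1) hu₁ hu₂ hAY rfl (by rw [hg1]; group) (by group) (O Q).one_mem
    (O Q).one_mem hc1 hc2 (lev_det_one_mem hG hK)
  refine ⟨κ, hκ, v * lev Y 1 * v⁻¹, ?_, by rw [e, e4], v, rfl⟩
  exact (lev_cl hG hn hY).conj (Om_le hv)

end Fin

end Cfsg.Agent.H140.OreO
end

-- part: H140/OreO/PolyB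
section
/-!
# More on reciprocal polynomials
-/

set_option autoImplicit false
set_option linter.unusedSectionVars false
set_option linter.unusedSimpArgs false
set_option linter.unusedVariables false

namespace Cfsg.Agent.H140.OreO

open Polynomial Matrix

variable {F : Type*} [Field F]

theorem natDegree_rev {f : F[X]} (h : f.coeff 0 ≠ 0) : f.reverse.natDegree = f.natDegree := by
  rw [reverse_natDegree, natTrailingDegree_eq_zero.2 (Or.inr h), Nat.sub_zero]

theorem rev_rev {f : F[X]} (h : f.coeff 0 ≠ 0) : f.reverse.reverse = f := by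
  ext n
  rw [coeff_reverse, coeff_reverse, natDegree_rev h, revAt_invol]

theorem rev_coeff_zero {f : F[X]} (h : f ≠ 0) : f.reverse.coeff 0 ≠ 0 := by
  rw [coeff_zero_reverse]
  exact leadingCoeff_ne_zero.2 h

theorem irreducible_rev {f : F[X]} (hf : Irreducible f) (h : f.coeff 0 ≠ 0) :
    Irreducible f.reverse := by
  refine ⟨fun hu => ?_, fun {g k} hgk => ?_⟩
  · have h1 := natDegree_eq_zero_of_isUnit hu
    rw [natDegree_rev h] at h1
    exact absurd h1 hf.natDegree_pos.ne'
  · have h0 : f.reverse.coeff 0 ≠ 0 := rev_coeff_zero hf.ne_zero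
    have hg : g.coeff 0 ≠ 0 := by
      intro hg
      apply h0
      rw [hgk, mul_coeff_zero, hg, zero_mul]
    have hk : k.coeff 0 ≠ 0 := by
      intro hg
      apply h0
      rw [hgk, mul_coeff_zero, hg, mul_zero]
    have e : f = g.reverse * k.reverse := by
      rw [← reverse_mul_of_domain, ← hgk, rev_rev h]
    have key : ∀ {p : F[X]}, p.coeff 0 ≠ 0 → IsUnit p.reverse → IsUnit p := by
      intro p hp hu
      have h1 := natDegree_eq_zero_of_isUnit hu
      rw [natDegree_rev hp] at h1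
      rw [eq_C_of_natDegree_eq_zero h1, isUnit_C]
      exact hp.isUnit
    rcases hf.isUnit_or_isUnit e with h1 | h1
    · exact Or.inl (key hg h1)
    · exact Or.inr (key hk h1)

theorem coprime_of_deg {c P : F[X]} (hc : Irreducible c) (hP : P ≠ 0)
    (h : P.natDegree < c.natDegree) : IsCoprime c P := by
  rw [hc.coprime_iff_not_dvd]
  intro hd
  exact absurd (natDegree_le_of_dvd hd hP) (by omega)

theorem coprime_of_deg_ne {c P : F[X]} (hc : Irreducible c) (hP : Irreducible P)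
    (h : P.natDegree ≠ c.natDegree) : IsCoprime c P := by
  rcases lt_or_gt_of_ne h with h | h
  · exact coprime_of_deg hc hP.ne_zero h
  · exact (coprime_of_deg hP hc.ne_zero h).symm

/-- An irreducible cubic is prime to its reciprocal. -/
theorem cubic_coprime_rev {P : F[X]} (hP : Irreducible P) (hm : P.Monic) (hd : P.natDegree = 3) :
    IsCoprime P P.reverse := by
  have h0 : P.coeff 0 ≠ 0 := coeff_zero_ne hP (by omega)
  rw [hP.coprime_iff_not_dvd]
  rintro ⟨q, hq⟩
  have hq0 : q ≠ 0 := by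
    rintro rfl
    rw [mul_zero, reverse_eq_zero] at hq
    exact hP.ne_zero hq
  have hdeg : q.natDegree = 0 := by
    have h1 := natDegree_rev h0
    rw [hq, natDegree_mul hP.ne_zero hq0] at h1
    omega
  obtain ⟨d, rfl⟩ : ∃ d, q = C d := ⟨_, eq_C_of_natDegree_eq_zero hdeg⟩
  have hc : ∀ n, P.coeff (revAt 3 n) = P.coeff n * d := by
    intro n
    have := congrArg (fun p => p.coeff n) hq
    simpa [coeff_reverse, hd, coeff_mul_C] using this
  have c0 := hc 0
  have c1 := hc 1
  have c2 := hc 2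
  have c3 := hc 3
  have r0 : revAt 3 0 = 3 := by decide
  have r1 : revAt 3 1 = 2 := by decide
  have r2 : revAt 3 2 = 1 := by decide
  have r3 : revAt 3 3 = 0 := by decide
  rw [r0] at c0
  rw [r1] at c1
  rw [r2] at c2
  rw [r3] at c3
  have hl : P.coeff 3 = 1 := by rw [← hd]; exact hm
  rw [hl] at c0 c3
  have hd2 : (d - 1) * (d + 1) = 0 := by
    rw [c3] at c0
    linear_combination -c0
  have heval : ∀ x : F, P.eval x = P.coeff 0 + P.coeff 1 * x + P.coeff 2 * x ^ 2 + x ^ 3 := by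
    intro x
    rw [eval_eq_sum_range, hd]
    simp [Finset.sum_range_succ, hl]
  have hroot : ∀ x : F, P.eval x ≠ 0 := by
    intro x hx
    have h1 : X - C x ∣ P := dvd_iff_isRoot.2 hx
    obtain ⟨k, hk⟩ := h1
    rcases hP.isUnit_or_isUnit hk with h2 | h2
    · have := natDegree_eq_zero_of_isUnit h2
      rw [natDegree_X_sub_C] at this
      omega
    · have h3 := natDegree_eq_zero_of_isUnit h2
      have h4 : P.natDegree ≤ 1 := by
        rw [hk]
        refine le_trans natDegree_mul_le ?_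
        rw [natDegree_X_sub_C, h3]
      omega
  rcases mul_eq_zero.1 hd2 with h | h
  · have hd1 : d = 1 := by linear_combination h
    apply hroot (-1)
    rw [heval, c1, c3, hd1]
    ring
  · have hd1 : d = -1 := by linear_combination h
    apply hroot 1
    rw [heval, c1, c3, hd1]
    ring

/-- A good cubic with square determinant avoiding a given cubic. -/
theorem exists_good_cubic_sq (F : Type*) [Field F] [Finite F] (hF : 3 ≤ Nat.card F) (p : F[X])
    (hp : Irreducible p) (hd : p.natDegree = 3) :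
    ∃ c : F[X], GoodPoly 3 c ∧ IsSquare (- c.coeff 0) ∧ IsCoprime c p ∧ IsCoprime c p.reverse ∧
      IsCoprime c.reverse p ∧ IsCoprime c.reverse p.reverse := by
  obtain ⟨K, _, _, _, _, hK, hcard⟩ := exists_gen F 3 (by omega)
  classical
  have : Fintype K := Fintype.ofFinite K
  have : Fintype F := Fintype.ofFinite F
  have hp0 : p ≠ 0 := hp.ne_zero
  have hr0 : p.reverse ≠ 0 := by rwa [Ne, reverse_eq_zero]
  let bad : Finset K := Finset.univ.image (algebraMap F K) ∪ ((p.map (algebraMap F K)).roots.toFinset ∪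
    (p.reverse.map (algebraMap F K)).roots.toFinset)
  -- at least half of the elements are squares
  have hsq : Fintype.card K ≤ 2 * (Finset.univ.image (fun x : K => x ^ 2)).card := by
    rw [← Finset.card_univ]
    refine Finset.card_le_mul_card_image _ 2 fun b _ => ?_
    have hne : (X ^ 2 - C b : K[X]) ≠ 0 := X_pow_sub_C_ne_zero (by norm_num) b
    have h1 : (Finset.univ.filter fun x : K => x ^ 2 = b) ⊆ (X ^ 2 - C b : K[X]).roots.toFinset := by
      intro x hx
      simp only [Finset.mem_filter, Finset.mem_univ, true_and] at hx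
      rw [Multiset.mem_toFinset, mem_roots', IsRoot.def]
      exact ⟨hne, by simp [hx]⟩
    refine le_trans (Finset.card_le_card h1) (le_trans (Multiset.toFinset_card_le _)
      (le_trans (card_roots' _) ?_))
    rw [natDegree_X_pow_sub_C]
  have hbad : bad.card < (Finset.univ.image (fun x : K => x ^ 2)).card := by
    have h1 : (Finset.univ.image (algebraMap F K)).card ≤ Fintype.card F := by
      refine le_trans Finset.card_image_le ?_
      rw [Finset.card_univ]
    have h2 : (p.map (algebraMap F K)).roots.toFinset.card ≤ 3 := by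
      refine le_trans (Multiset.toFinset_card_le _) (le_trans (card_roots' _) ?_)
      rw [natDegree_map, hd]
    have h3 : (p.reverse.map (algebraMap F K)).roots.toFinset.card ≤ 3 := by
      refine le_trans (Multiset.toFinset_card_le _) (le_trans (card_roots' _) ?_)
      rw [natDegree_map]
      exact le_trans (reverse_natDegree_le p) hd.le
    have h4 := Finset.card_union_le (Finset.univ.image (algebraMap F K))
      ((p.map (algebraMap F K)).roots.toFinset ∪ (p.reverse.map (algebraMap F K)).roots.toFinset)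
    have h5 := Finset.card_union_le (p.map (algebraMap F K)).roots.toFinset
      (p.reverse.map (algebraMap F K)).roots.toFinset
    rw [Nat.card_eq_fintype_card, Nat.card_eq_fintype_card] at hcard
    rw [Nat.card_eq_fintype_card] at hF
    have h6 : Fintype.card F ^ 3 ≥ 9 * Fintype.card F := by
      have : Fintype.card F ^ 3 = Fintype.card F * Fintype.card F * Fintype.card F := by ring
      rw [this]
      exact Nat.mul_le_mul_right _ (Nat.mul_le_mul hF hF)
    show (Finset.univ.image (algebraMap F K) ∪ _).card < _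
    omega
  obtain ⟨a, hasq, ha⟩ : ∃ a ∈ (Finset.univ.image (fun x : K => x ^ 2)), a ∉ bad :=
    Finset.exists_mem_notMem_of_card_lt_card hbad
  obtain ⟨b, -, hba⟩ := Finset.mem_image.1 hasq
  simp only [bad, Finset.mem_union, not_or, Finset.mem_image, Finset.mem_univ, true_and,
    Multiset.mem_toFinset, not_exists] at ha
  obtain ⟨ha1, ha2, ha3⟩ := ha
  have ha0 : a ≠ 0 := fun h => ha1 0 (by rw [map_zero, h])
  have hpa : aeval a p ≠ 0 := by
    intro h
    apply ha2
    rw [mem_roots', IsRoot.def, eval_map_algebraMap]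
    exact ⟨by rwa [Ne, Polynomial.map_eq_zero], h⟩
  have hpr : aeval a p.reverse ≠ 0 := by
    intro h
    apply ha3
    rw [mem_roots', IsRoot.def, eval_map_algebraMap]
    exact ⟨by rwa [Ne, Polynomial.map_eq_zero], h⟩
  have hint : IsIntegral F a := Algebra.IsIntegral.isIntegral _
  have hroot : aeval a (minpoly F a) = 0 := minpoly.aeval _ _
  have hirr := minpoly.irreducible hint
  have hmon := minpoly.monic hint
  have hdeg : (minpoly F a).natDegree = 3 := by
    have h1 : (minpoly F a).natDegree ∣ 3 := by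
      rw [← hK]
      exact minpoly.degree_dvd hint
    have h2 : (minpoly F a).natDegree ≠ 1 := by
      intro h
      rw [minpoly.natDegree_eq_one_iff] at h
      obtain ⟨b, hb⟩ := h
      exact ha1 b hb
    exact ((Nat.dvd_prime Nat.prime_three).1 h1).resolve_left h2
  have h00 : (minpoly F a).coeff 0 ≠ 0 := coeff_zero_ne hirr (by omega)
  -- the root `a⁻¹` of the reciprocal
  have inv1 : Invertible a⁻¹ := invertibleOfNonzero (inv_ne_zero ha0)
  have inv2 : Invertible a := invertibleOfNonzero ha0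
  have hroot' : aeval a⁻¹ (minpoly F a).reverse = 0 := by
    have h2 := (eval₂_reverse_eq_zero_iff (algebraMap F K) a (minpoly F a)).2
    rw [invOf_eq_inv] at h2
    exact h2 hroot
  have hpa' : aeval a⁻¹ p.reverse ≠ 0 := by
    intro h
    apply hpa
    have h2 := (eval₂_reverse_eq_zero_iff (algebraMap F K) a p).1
    rw [invOf_eq_inv] at h2
    exact h2 h
  have hpr' : aeval a⁻¹ p ≠ 0 := by
    intro h
    apply hpr
    have h2 := (eval₂_reverse_eq_zero_iff (algebraMap F K) a⁻¹ p).2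
    rw [invOf_eq_inv, inv_inv] at h2
    exact h2 h
  have hsquare : IsSquare (-(minpoly F a).coeff 0) := by
    let bs := Module.finBasisOfFinrankEq F K hK
    let L := Algebra.leftMulMatrix bs
    have h1 : aeval a (L a).charpoly = 0 := by
      have h2 := aeval_self_charpoly (L a)
      have h3 : aeval (L a) (L a).charpoly = L (aeval a (L a).charpoly) :=
        Polynomial.aeval_algHom_apply L a _
      rw [h3] at h2
      exact (map_eq_zero_iff L (Algebra.leftMulMatrix_injective bs)).1 h2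
    have h2 : minpoly F a ∣ (L a).charpoly := minpoly.dvd F a h1
    have h3 : (L a).charpoly = minpoly F a := by
      refine (Polynomial.eq_of_monic_of_dvd_of_natDegree_le hmon (charpoly_monic _) h2 ?_)
      rw [charpoly_natDegree_eq_dim, Fintype.card_fin, hdeg]
    have h4 := det_eq_sign_charpoly_coeff (L a)
    rw [h3, Fintype.card_fin] at h4
    have h5 : -(minpoly F a).coeff 0 = (L a).det := by rw [h4]; ring
    rw [h5, ← hba, map_pow, det_pow]
    exact ⟨(L b).det, by ring⟩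
  exact ⟨minpoly F a, ⟨hmon, hirr, hdeg, cubic_coprime_rev hirr hmon hdeg⟩, hsquare,
    isCoprime_of_root hirr hroot hpa, isCoprime_of_root hirr hroot hpr,
    isCoprime_of_root (irreducible_rev hirr h00) hroot' hpr',
    isCoprime_of_root (irreducible_rev hirr h00) hroot' hpa'⟩

end Cfsg.Agent.H140.OreO
end
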