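import Mathlib
import Cfsg.Agent.H140.OreO.PolyB
import Cfsg.Agent.H955.QSpace
import Cfsg.Agent.H140.OreO.Frame
import Cfsg.Agent.H141.SpinLev
import Cfsg.Agent.H140.OreO.GLConj
import Cfsg.Agent.H434.CornMain
set_option linter.all false

-- part: H140/OreO/PolyNB
section
/-!
# Good quartics that are not biquadratic
-/

set_option autoImplicit false
set_option linter.unusedSectionVars false
set_option linter.unusedSimpArgs false
set_option linter.unusedVariables false

namespace Cfsg.Agent.H140.OreO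

open Polynomial

universe u

variable {F : Type u} [Field F]

/-- Polynomials of degree four must not be biquadratic (odd characteristic). -/
def NB (c : F[X]) : Prop := (2 : F) ≠ 0 → c.natDegree = 4 → c.coeff 1 ≠ 0 ∨ c.coeff 3 ≠ 0

theorem nb_of_deg {c : F[X]} (h : c.natDegree ≠ 4) : NB c := fun _ h4 => absurd h4 h

theorem NB.rev {c : F[X]} (h0 : c.coeff 0 ≠ 0) (h : NB c) : NB c.reverse := by
  intro h2 h4
  rw [natDegree_rev h0] at h4
  rw [coeff_reverse, coeff_reverse, h4, revAt_le (by norm_num), revAt_le (by norm_num)]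
  exact (h h2 h4).symm

theorem exists_good_quartic (F : Type*) [Field F] [Finite F] (hF : 3 ≤ Nat.card F) :
    ∃ c : F[X], GoodPoly 4 c ∧ (c.coeff 1 ≠ 0 ∨ c.coeff 3 ≠ 0) := by
  have hq2 : 9 ≤ Nat.card F ^ 2 := by nlinarith
  have e4 : Nat.card F ^ 4 = Nat.card F ^ 2 * Nat.card F ^ 2 := by ring
  obtain ⟨K, _, _, _, u, hcard, hu, h⟩ := exists_good_gen F 4 (by norm_num) (by nlinarith)
  refine ⟨_, h, ?_⟩
  by_contra hcon
  push Not at hcon
  obtain ⟨h1, h3⟩ := hcon
  have h2 : aeval ((u : K) ^ 2) (X ^ 2 + C ((minpoly F (u : K)).coeff 2) * X +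
      C ((minpoly F (u : K)).coeff 0) : F[X]) = 0 := by
    have h3' := minpoly.aeval F (u : K)
    rw [aeval_eq_sum_range, h.deg] at h3'
    have h4 : (minpoly F (u : K)).coeff 4 = 1 := by
      have := h.monic
      rw [Monic, leadingCoeff, h.deg] at this
      exact this
    simp only [Finset.sum_range_succ, Finset.sum_range_zero, h1, h3, h4, zero_smul, one_smul,
      Algebra.smul_def, pow_zero, mul_one, zero_add, add_zero, map_zero, map_one, zero_mul,
      one_mul] at h3'
    simp only [map_add, map_mul, map_pow, aeval_X, aeval_C]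
    linear_combination h3'
  set a : K := (u : K) ^ 2 with ha
  have ha0 : a ≠ 0 := pow_ne_zero 2 u.ne_zero
  have hint : IsIntegral F a := Algebra.IsIntegral.isIntegral _
  have hdeg : (minpoly F a).natDegree ≤ 2 := by
    have hne : (X ^ 2 + C ((minpoly F (u : K)).coeff 2) * X +
      C ((minpoly F (u : K)).coeff 0) : F[X]) ≠ 0 := by
      intro h0
      have := congrArg (fun p => p.coeff 2) h0
      simp [coeff_X, coeff_C] at this
    refine le_trans (natDegree_le_of_dvd (minpoly.dvd F a h2) hne) ?_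
    compute_degree
  let L := IntermediateField.adjoin F {a}
  have hL : Module.finrank F L ≤ 2 := by
    rw [IntermediateField.adjoin.finrank hint]; exact hdeg
  have : Finite L := inferInstance
  have : Fintype L := Fintype.ofFinite L
  have hLc : Nat.card L ≤ Nat.card F ^ 2 := by
    rw [Module.natCard_eq_pow_finrank (K := F)]
    exact Nat.pow_le_pow_right (by omega) hL
  let a' : L := ⟨a, IntermediateField.mem_adjoin_simple_self F a⟩
  have ha' : a' ≠ 0 := fun h0 => ha0 (congrArg Subtype.val h0)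
  have h5 : a' ^ (Nat.card L - 1) = 1 := by
    rw [Nat.card_eq_fintype_card]
    exact FiniteField.pow_card_sub_one_eq_one a' ha'
  have h6 : u ^ (2 * (Nat.card L - 1)) = 1 := by
    apply Units.ext
    rw [Units.val_pow_eq_pow_val, pow_mul]
    exact congrArg Subtype.val h5
  have h7 : orderOf u = Nat.card Kˣ := orderOf_eq_card_of_forall_mem_zpowers hu
  have h8 : Nat.card Kˣ = Nat.card F ^ 4 - 1 := by rw [Nat.card_units, hcard]
  have hL2 : 2 ≤ Nat.card L := by
    rw [Nat.card_eq_fintype_card]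
    exact Fintype.one_lt_card
  have h9 := Nat.le_of_dvd (by omega) (orderOf_dvd_of_pow_eq_one h6)
  rw [h7, h8, e4] at h9
  have h11 : 9 * Nat.card F ^ 2 ≤ Nat.card F ^ 2 * Nat.card F ^ 2 := Nat.mul_le_mul_right _ hq2
  omega

/-- Good polynomials of degree `m ≥ 4`. -/
theorem exists_good_nb (F : Type*) [Field F] [Finite F] (hF : 3 ≤ Nat.card F) (m : ℕ)
    (hm : 4 ≤ m) : ∃ c : F[X], GoodPoly m c ∧ NB c := by
  obtain rfl | hm4 := eq_or_ne m 4
  · obtain ⟨c, h1, h2⟩ := exists_good_quartic F hF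
    exact ⟨c, h1, fun _ _ => h2⟩
  · obtain ⟨c, hc⟩ := exists_good F m (by omega) (by
      calc 5 ≤ 3 ^ 2 := by norm_num
        _ ≤ Nat.card F ^ 2 := Nat.pow_le_pow_left hF 2
        _ ≤ Nat.card F ^ m := Nat.pow_le_pow_right (by omega) (by omega))
    exact ⟨c, hc, nb_of_deg (by rw [hc.deg]; exact hm4)⟩

end Cfsg.Agent.H140.OreO
end

-- part: H958/Ore/Cover
section
/-!
# Singular vectors are not covered by two proper subspaces

`X` a subspace of a quadratic space over a finite field with `dim X ≥ dim (rad X) + 5`.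
-/

set_option autoImplicit false

namespace Cfsg.Agent.H958.Ore

open Module QuadraticMap Cfsg.Agent.LieClassical.OrthCore Cfsg.Agent.LieClassical.OrthTrans
  Cfsg.Agent.H955

variable {F V : Type*} [Field F] [AddCommGroup V] [Module F V] {Q : QuadraticForm F V}

/-- a complement of `A` in `X` -/
theorem exists_compl_in [FiniteDimensional F V] (X A : Submodule F V) :
    ∃ Y ≤ X, Disjoint Y A ∧ finrank F X = finrank F (X ⊓ A : Submodule F V) + finrank F Y := by
  obtain ⟨C, hC⟩ := Submodule.exists_isCompl ((X ⊓ A).comap X.subtype)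
  refine ⟨C.map X.subtype, Submodule.map_subtype_le X C, ?_, ?_⟩
  · rw [Submodule.disjoint_def]
    rintro _ ⟨y, hy, rfl⟩ hA
    have h1 : y ∈ (X ⊓ A).comap X.subtype := ⟨y.2, hA⟩
    have := Submodule.disjoint_def.1 hC.disjoint y h1 hy
    rw [this]; rfl
  · have h1 := Submodule.finrank_add_eq_of_isCompl hC
    have h2 : finrank F ((X ⊓ A).comap X.subtype) = finrank F (X ⊓ A : Submodule F V) :=
      (Submodule.comapSubtypeEquivOfLe (inf_le_left : X ⊓ A ≤ X)).finrank_eq
    have h3 : finrank F (C.map X.subtype) = finrank F C :=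
      (Submodule.equivSubtypeMap X C).symm.finrank_eq
    rw [h3, ← h2, h1]

/-- a singular vector of `X` outside `A` -/
theorem exists_sing_not_mem [Finite F] [FiniteDimensional F V] {X A : Submodule F V}
    (h : finrank F (X ⊓ A : Submodule F V) + 3 ≤ finrank F X) : ∃ x ∈ X, Q x = 0 ∧ x ∉ A := by
  obtain ⟨Y, hYX, hYA, hY⟩ := exists_compl_in X A
  obtain ⟨w, hw, hw0, hQw⟩ :=
    Cfsg.Agent.LieClassical.OrthFinite.exists_sing_mem (Q := Q) Y (by omega)
  exact ⟨w, hYX hw, hQw, fun hA => hw0 (Submodule.disjoint_def.1 hYA w hw hA)⟩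

/-- A singular vector of `X` not orthogonal to `X` lies in a hyperbolic pair of `X`. -/
theorem exists_hyp_in {X : Submodule F V} {e z : V} (he : e ∈ X) (hz : z ∈ X) (hQ : Q e = 0)
    (h : polar Q e z ≠ 0) : ∃ f ∈ X, Hyp Q e f := by
  obtain ⟨y, hy, h1⟩ : ∃ y ∈ X, polar Q e y = 1 :=
    ⟨(polar Q e z)⁻¹ • z, X.smul_mem _ hz, by rw [polar_smul_right, smul_eq_mul, inv_mul_cancel₀ h]⟩
  refine ⟨y - Q y • e, X.sub_mem hy (X.smul_mem _ he), ⟨hQ, ?_, ?_⟩⟩
  · rw [sub_eq_add_neg, Q_add, QuadraticMap.map_neg, QuadraticMap.map_smul, hQ,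
      polar_neg_right, polar_smul_right, polar_comm, h1]
    simp
  · rw [polar_sub_right, polar_smul_right, h1, polar_self_of_sing hQ]
    simp

theorem exists_hyp_of_rank [Finite F] [FiniteDimensional F V] {X : Submodule F V}
    (h : finrank F (X ⊓ perp Q X : Submodule F V) + 3 ≤ finrank F X) :
    ∃ e ∈ X, ∃ f ∈ X, Hyp Q e f := by
  obtain ⟨e, he, hQe, hne⟩ := exists_sing_not_mem (Q := Q) h
  rw [mem_perp'] at hne
  push Not at hne
  obtain ⟨z, hz, hez⟩ := hne
  obtain ⟨f, hf, hh⟩ := exists_hyp_in he hz hQe hez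
  exact ⟨e, he, f, hf, hh⟩

/-- the span of singular vectors -/
theorem le_of_sing {X A : Submodule F V} {e f : V} (he : e ∈ X) (hf : f ∈ X) (h : Hyp Q e f)
    (hA : ∀ x ∈ X, Q x = 0 → x ∈ A) : X ≤ A := by
  have heA := hA e he h.left
  have hfA := hA f hf h.right
  intro x hx
  -- `z = x - (x,f) e - (x,e) f` is orthogonal to `e`, `f`
  set z := x - polar Q f x • e - polar Q e x • f with hz
  have hzX : z ∈ X := X.sub_mem (X.sub_mem hx (X.smul_mem _ he)) (X.smul_mem _ hf)
  have hze : polar Q e z = 0 := by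
    rw [hz, polar_sub_right, polar_sub_right, polar_smul_right, polar_smul_right,
      h.polar_left, h.pair]
    simp
  have hzf : polar Q f z = 0 := by
    rw [hz, polar_sub_right, polar_sub_right, polar_smul_right, polar_smul_right,
      h.polar_right, h.pair']
    simp
  have h1 : z + (e - Q z • f) ∈ A := by
    apply hA _ (X.add_mem hzX (X.sub_mem he (X.smul_mem _ hf)))
    rw [Q_add, sub_eq_add_neg, Q_add, QuadraticMap.map_neg, QuadraticMap.map_smul, h.left, h.right,
      polar_neg_right, polar_smul_right, h.pair, polar_add_right, polar_neg_right, polar_smul_right,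
      polar_comm Q z e, polar_comm Q z f, hze, hzf]
    simp
  have h2 : z ∈ A := by
    have := A.sub_mem h1 (A.sub_mem heA (A.smul_mem (Q z) hfA))
    simpa using this
  have h3 : x = z + polar Q f x • e + polar Q e x • f := by rw [hz]; abel
  rw [h3]
  exact A.add_mem (A.add_mem h2 (A.smul_mem _ heA)) (A.smul_mem _ hfA)

/-- the part of `X` orthogonal to a hyperbolic pair -/
theorem rank_perp_hyp [FiniteDimensional F V] {X : Submodule F V} {u v : V} (hu : u ∈ X) (hv : v ∈ X)
    (h : Hyp Q u v) {k : ℕ}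
    (hX : finrank F (X ⊓ perp Q X : Submodule F V) + (k + 2) ≤ finrank F X) :
    finrank F ((X ⊓ perp Q (Submodule.span F {u, v})) ⊓
      perp Q (X ⊓ perp Q (Submodule.span F {u, v})) : Submodule F V) + k ≤
      finrank F (X ⊓ perp Q (Submodule.span F {u, v}) : Submodule F V) := by
  set Z : Submodule F V := X ⊓ perp Q (Submodule.span F {u, v}) with hZ
  have hmem : ∀ x, x ∈ Z ↔ x ∈ X ∧ polar Q u x = 0 ∧ polar Q v x = 0 := by
    intro x
    rw [hZ, Submodule.mem_inf, mem_perp]
    refine and_congr_right fun _ => ⟨fun h => ⟨h u (Submodule.subset_span (by simp)),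
      h v (Submodule.subset_span (by simp))⟩, fun h w hw => ?_⟩
    refine Submodule.span_induction (p := fun w _ => polar Q w x = 0) ?_ ?_ ?_ ?_ hw
    · intro y hy
      rcases hy with rfl | hy
      · exact h.1
      · rw [Set.mem_singleton_iff.1 hy]; exact h.2
    · exact polar_zero_left Q x
    · intro a b _ _ ha hb
      rw [polar_add_left, ha, hb, add_zero]
    · intro c a _ ha
      rw [polar_smul_left, ha, smul_zero]
  have hdec : ∀ x ∈ X, x - polar Q v x • u - polar Q u x • v ∈ Z := by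
    intro x hx
    rw [hmem]
    refine ⟨X.sub_mem (X.sub_mem hx (X.smul_mem _ hu)) (X.smul_mem _ hv), ?_, ?_⟩
    · rw [polar_sub_right, polar_sub_right, polar_smul_right, polar_smul_right, h.polar_left, h.pair]
      simp
    · rw [polar_sub_right, polar_sub_right, polar_smul_right, polar_smul_right, h.polar_right,
        h.pair']
      simp
  have h1 : X ≤ Submodule.span F {u, v} ⊔ Z := by
    intro x hx
    have e : x = (polar Q v x • u + polar Q u x • v) +
        (x - polar Q v x • u - polar Q u x • v) := by abel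
    rw [e]
    refine Submodule.add_mem_sup (Submodule.add_mem _ (Submodule.smul_mem _ _ (Submodule.subset_span
      (by simp))) (Submodule.smul_mem _ _ (Submodule.subset_span (by simp)))) (hdec x hx)
  have h2 : finrank F X ≤ 2 + finrank F Z := by
    refine (Submodule.finrank_mono h1).trans ((Submodule.finrank_add_le_finrank_add_finrank _ _).trans ?_)
    have : finrank F (Submodule.span F ({u, v} : Set V)) ≤ 2 := by
      classical
      have := finrank_span_finset_le_card (R := F) ({u, v} : Finset V)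
      rw [Finset.coe_insert, Finset.coe_singleton] at this
      exact this.trans (Finset.card_le_two)
    omega
  have h3 : Z ⊓ perp Q Z ≤ X ⊓ perp Q X := by
    rintro z ⟨hz, hz'⟩
    refine ⟨((hmem z).1 hz).1, ?_⟩
    intro x hx
    have e : x = (polar Q v x • u + polar Q u x • v) +
        (x - polar Q v x • u - polar Q u x • v) := by abel
    rw [e, polar_add_left, hz' _ (hdec x hx), polar_add_left, polar_smul_left, polar_smul_left,
      ((hmem z).1 hz).2.1, ((hmem z).1 hz).2.2]
    simp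
  have h4 := Submodule.finrank_mono h3
  omega

/-- **Covering lemma.** Singular vectors are not covered by two proper subspaces. -/
theorem exists_sing_avoid [Finite F] [FiniteDimensional F V] {X A B : Submodule F V}
    (hX : finrank F (X ⊓ perp Q X : Submodule F V) + 5 ≤ finrank F X) (hA : ¬ X ≤ A) (hB : ¬ X ≤ B) :
    ∃ w ∈ X, Q w = 0 ∧ w ∉ A ∧ w ∉ B := by
  by_contra hcon
  push Not at hcon
  obtain ⟨e, he, f, hf, hef⟩ := exists_hyp_of_rank (Q := Q) (X := X) (by omega)
  obtain ⟨u, huX, hQu, huA⟩ : ∃ u ∈ X, Q u = 0 ∧ u ∉ A := by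
    by_contra h
    push Not at h
    exact hA (le_of_sing he hf hef h)
  obtain ⟨v, hvX, hQv, hvB⟩ : ∃ v ∈ X, Q v = 0 ∧ v ∉ B := by
    by_contra h
    push Not at h
    exact hB (le_of_sing he hf hef h)
  have huB := hcon u huX hQu huA
  have hvA : v ∈ A := by
    by_contra h
    exact hvB (hcon v hvX hQv h)
  have huv : polar Q u v ≠ 0 := by
    intro h
    have h1 : Q (u + v) = 0 := by rw [Q_add, hQu, hQv, h]; simp
    have h2 : u + v ∉ A := fun h => huA (by simpa using A.sub_mem h hvA)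
    have h3 := hcon _ (X.add_mem huX hvX) h1 h2
    exact hvB (by simpa using B.sub_mem h3 huB)
  -- rescale `v`
  set c := polar Q u v with hc
  set v' := c⁻¹ • v with hv'
  have hh : Hyp Q u v' := ⟨hQu, by rw [hv', QuadraticMap.map_smul, hQv, smul_zero],
    by rw [hv', polar_smul_right, ← hc, smul_eq_mul, inv_mul_cancel₀ huv]⟩
  have hv'X : v' ∈ X := X.smul_mem _ hvX
  have hv'A : v' ∈ A := A.smul_mem _ hvA
  have hv'B : v' ∉ B := fun h => hvB (by
    have := B.smul_mem c h
    rwa [hv', smul_smul, mul_inv_cancel₀ huv, one_smul] at this)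
  set Z : Submodule F V := X ⊓ perp Q (Submodule.span F {u, v'}) with hZ
  have hrk := rank_perp_hyp (k := 3) huX hv'X hh (by omega)
  rw [← hZ] at hrk
  have hZu : ∀ z ∈ Z, polar Q u z = 0 := fun z hz => hz.2 u (Submodule.subset_span (by simp))
  have hZv : ∀ z ∈ Z, polar Q v' z = 0 := fun z hz => hz.2 v' (Submodule.subset_span (by simp))
  obtain ⟨e', he', f', hf', hef'⟩ := exists_hyp_of_rank (Q := Q) (X := Z) hrk
  have hZA : Z ≤ A := by
    apply le_of_sing he' hf' hef'
    intro z hz hQz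
    by_contra hzA
    have h1 : Q (v' + z) = 0 := by rw [Q_add, hh.right, hQz, hZv z hz]; simp
    have h2 : v' + z ∉ A := fun h => hzA (by simpa using A.sub_mem h hv'A)
    have h3 := hcon _ (X.add_mem hv'X hz.1) h1 h2
    have h4 := hcon z hz.1 hQz hzA
    exact hv'B (by simpa using B.sub_mem h3 h4)
  have hZB : Z ≤ B := by
    apply le_of_sing he' hf' hef'
    intro z hz hQz
    by_contra hzB
    have h1 : Q (u + z) = 0 := by rw [Q_add, hQu, hQz, hZu z hz]; simp
    have h2 : u + z ∉ B := fun h => hzB (by simpa using B.sub_mem h huB)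
    have h3 : u + z ∈ A := by
      by_contra h
      exact h2 (hcon _ (X.add_mem huX hz.1) h1 h)
    exact huA (by simpa using A.sub_mem h3 (hZA hz))
  -- a nonsingular `z`
  have hsum : Q (e' + f') = 1 := by rw [Q_add, hef'.left, hef'.right, hef'.pair]; simp
  have hzZ : e' + f' ∈ Z := Z.add_mem he' hf'
  have h1 : Q (u + -v' + (e' + f')) = 0 := by
    rw [Q_add, Q_add, QuadraticMap.map_neg, hQu, hh.right, hsum, polar_neg_right, hh.pair,
      polar_add_left, polar_neg_left, hZu _ hzZ, hZv _ hzZ]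
    simp
  have h2 : u + -v' + (e' + f') ∉ A := by
    intro h
    apply huA
    have := A.sub_mem (A.sub_mem h (hZA hzZ)) (A.neg_mem hv'A)
    simpa using this
  have h3 := hcon _ (X.add_mem (X.add_mem huX (X.neg_mem hv'X)) hzZ.1) h1 h2
  apply hv'B
  have := B.sub_mem (B.sub_mem h3 (hZB hzZ)) huB
  rw [← B.neg_mem_iff]
  simpa using this

end Cfsg.Agent.H958.Ore
end

-- part: H958/Ore/Avoid
section
/-!
# Totally singular subspaces meeting given subspaces trivially
-/

set_option autoImplicit false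

namespace Cfsg.Agent.H958.Ore

open Module QuadraticMap Cfsg.Agent.LieClassical.OrthCore Cfsg.Agent.LieClassical.OrthTrans
  Cfsg.Agent.H955

variable {F V : Type*} [Field F] [AddCommGroup V] [Module F V] {Q : QuadraticForm F V}

/-- totally singular -/
def TS (Q : QuadraticForm F V) (W : Submodule F V) : Prop := ∀ x ∈ W, Q x = 0

theorem TS.polar {W : Submodule F V} (h : TS Q W) {x y : V} (hx : x ∈ W) (hy : y ∈ W) :
    polar Q x y = 0 := by
  have h1 := h _ (W.add_mem hx hy)
  rw [Q_add, h x hx, h y hy] at h1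
  simpa using h1

theorem TS.le_perp {W : Submodule F V} (h : TS Q W) : W ≤ perp Q W :=
  fun _ hx _ hy => h.polar hy hx

theorem TS.bot : TS Q (⊥ : Submodule F V) := by
  intro x hx
  rw [(Submodule.mem_bot F).1 hx, QuadraticMap.map_zero]

theorem TS.sup_span {W : Submodule F V} (h : TS Q W) {w : V} (hw : w ∈ perp Q W) (hQ : Q w = 0) :
    TS Q (W ⊔ Submodule.span F {w}) := by
  intro x hx
  obtain ⟨y, hy, z, hz, rfl⟩ := Submodule.mem_sup.1 hx
  obtain ⟨a, rfl⟩ := Submodule.mem_span_singleton.1 hz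
  rw [Q_add, h y hy, QuadraticMap.map_smul, hQ, polar_smul_right, hw y hy]
  simp

theorem finrank_sup_span [FiniteDimensional F V] {W : Submodule F V} {w : V} (hw : w ∉ W) :
    finrank F (W ⊔ Submodule.span F {w} : Submodule F V) = finrank F W + 1 := by
  have hw0 : w ≠ 0 := fun h => hw (h ▸ W.zero_mem)
  have h1 := Submodule.finrank_sup_add_finrank_inf_eq W (Submodule.span F {w})
  have h2 : W ⊓ Submodule.span F {w} = ⊥ := by
    rw [Submodule.eq_bot_iff]
    rintro x ⟨hx, hx'⟩
    obtain ⟨a, rfl⟩ := Submodule.mem_span_singleton.1 hx'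
    by_cases ha : a = 0
    · rw [ha, zero_smul]
    · exact absurd ((W.smul_mem_iff ha).1 hx) hw
  rw [h2, finrank_bot, finrank_span_singleton hw0] at h1
  omega

theorem mem_sup_span {W : Submodule F V} {w x : V} :
    x ∈ W ⊔ Submodule.span F {w} ↔ ∃ y ∈ W, ∃ a : F, x = y + a • w := by
  rw [Submodule.mem_sup]
  constructor
  · rintro ⟨y, hy, z, hz, rfl⟩
    obtain ⟨a, rfl⟩ := Submodule.mem_span_singleton.1 hz
    exact ⟨y, hy, a, rfl⟩
  · rintro ⟨y, hy, a, rfl⟩
    exact ⟨y, hy, a • w, Submodule.smul_mem _ _ (Submodule.mem_span_singleton_self w), rfl⟩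

theorem rank_perp_TS [FiniteDimensional F V] (hQ : Nondeg Q) {W : Submodule F V} (h : TS Q W) {k : ℕ}
    (hk : 2 * finrank F W + k ≤ finrank F V) :
    finrank F (perp Q W ⊓ perp Q (perp Q W) : Submodule F V) + k ≤ finrank F (perp Q W) := by
  rw [perp_perp hQ, inf_eq_right.2 h.le_perp]
  have := finrank_add_perp hQ W
  omega

/-- dimension of an intersection with an orthogonal complement -/
theorem finrank_inf_perp [FiniteDimensional F V] (hQ : Nondeg Q) (A W : Submodule F V) :
    finrank F A ≤ finrank F (A ⊓ perp Q W : Submodule F V) + finrank F W := by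
  have h1 := Submodule.finrank_sup_add_finrank_inf_eq A (perp Q W)
  have h2 := finrank_add_perp hQ W
  have h3 := Submodule.finrank_le (A ⊔ perp Q W)
  omega

theorem perp_sup (A B : Submodule F V) : perp Q (A ⊔ B) = perp Q A ⊓ perp Q B := by
  apply le_antisymm
  · exact le_inf (perp_anti le_sup_left) (perp_anti le_sup_right)
  · rintro x ⟨hx, hx'⟩ y hy
    obtain ⟨a, ha, b, hb, rfl⟩ := Submodule.mem_sup.1 hy
    rw [polar_add_left, hx a ha, hx' b hb, add_zero]

/-- the side condition for avoiding `K` (when `W` also avoids `D`) -/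
def AvCond (Q : QuadraticForm F V) (m : ℕ) (K D : Submodule F V) : Prop :=
  (m ≤ finrank F (perp Q K) ∧ (perp Q K ≤ K ∨ perp Q K ≤ D)) ∨ 2 * m ≤ finrank F (perp Q K)

theorem not_le_of_avCond [FiniteDimensional F V] (hQ : Nondeg Q) {m : ℕ} {K D W : Submodule F V}
    (h : AvCond Q m K D) (hi : finrank F W < m) (hWK : Disjoint W K)
    (hWD : Disjoint W D) : ¬ perp Q W ≤ W ⊔ K := by
  intro hle
  have h1 := perp_anti (Q := Q) hle
  rw [perp_perp hQ, perp_sup] at h1
  have h2 := finrank_inf_perp hQ (perp Q K) W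
  rw [inf_comm] at h2
  rcases h with ⟨h3, h4⟩ | h3
  · have h5 : perp Q W ⊓ perp Q K = ⊥ := by
      rw [Submodule.eq_bot_iff]
      intro x hx
      have hxW := h1 hx
      rcases h4 with h4 | h4
      · exact Submodule.disjoint_def.1 hWK x hxW (h4 hx.2)
      · exact Submodule.disjoint_def.1 hWD x hxW (h4 hx.2)
    rw [h5, finrank_bot] at h2
    omega
  · have h6 := Submodule.finrank_mono h1
    omega

/-- **Avoiding two subspaces.** -/
theorem exists_TS_avoid [Finite F] [FiniteDimensional F V] (hQ : Nondeg Q) {K D : Submodule F V}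
    {m : ℕ} (hN : 2 * m + 3 ≤ finrank F V) (hK : AvCond Q m K D) (hD : AvCond Q m D K) :
    ∀ i ≤ m, ∃ W : Submodule F V, TS Q W ∧ finrank F W = i ∧ Disjoint W K ∧ Disjoint W D := by
  intro i
  induction i with
  | zero => exact fun _ => ⟨⊥, TS.bot, finrank_bot F V, disjoint_bot_left, disjoint_bot_left⟩
  | succ i ih =>
    intro hi
    obtain ⟨W, hW, hd, hWK, hWD⟩ := ih (by omega)
    have h1 := not_le_of_avCond hQ hK (by omega) hWK hWD
    have h2 := not_le_of_avCond hQ hD (by omega) hWD hWK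
    obtain ⟨w, hw, hQw, hA, hB⟩ := exists_sing_avoid (rank_perp_TS hQ hW (k := 5) (by omega)) h1 h2
    have key : ∀ L : Submodule F V, Disjoint W L → w ∉ W ⊔ L →
        Disjoint (W ⊔ Submodule.span F {w}) L := by
      intro L hWL hwL
      rw [Submodule.disjoint_def]
      intro x hx hxL
      obtain ⟨y, hy, a, rfl⟩ := mem_sup_span.1 hx
      by_cases ha : a = 0
      · rw [ha, zero_smul, add_zero] at hxL ⊢
        exact Submodule.disjoint_def.1 hWL y hy hxL
      · exfalso
        apply hwL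
        have : w = a⁻¹ • ((-y) + (y + a • w)) := by
          rw [neg_add_cancel_left, smul_smul, inv_mul_cancel₀ ha, one_smul]
        rw [this]
        exact Submodule.smul_mem _ _ (Submodule.add_mem_sup (W.neg_mem hy) hxL)
    exact ⟨_, hW.sup_span hw hQw, by
      rw [finrank_sup_span (fun h => hA (Submodule.mem_sup_left h)), hd],
      key K hWK hA, key D hWD hB⟩

end Cfsg.Agent.H958.Ore
end

-- part: H958/Ore/Dual
section
/-!
# Dual totally singular families orthogonal to a given subspace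
-/

set_option autoImplicit false

namespace Cfsg.Agent.H958.Ore

open Module QuadraticMap Cfsg.Agent.LieClassical.OrthCore Cfsg.Agent.LieClassical.OrthTrans
  Cfsg.Agent.H955

universe u v

variable {F : Type u} [Field F]

/-- the correction step: `y` singular in `L`, not orthogonal to `x₀ + L` -/
theorem exists_sing_shift {V : Type v} [AddCommGroup V] [Module F V] {Q : QuadraticForm F V}
    {L : Submodule F V} {x₀ y : V} (hy : y ∈ L) (hQy : Q y = 0)
    (h : polar Q y x₀ ≠ 0 ∨ ∃ z ∈ L, polar Q y z ≠ 0) :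
    ∃ x, x - x₀ ∈ L ∧ Q x = 0 ∧ polar Q y x ≠ 0 := by
  obtain ⟨z, hz, hne⟩ : ∃ z ∈ L, polar Q y (x₀ + z) ≠ 0 := by
    by_cases h0 : polar Q y x₀ = 0
    · rcases h with h | ⟨z, hz, hz0⟩
      · exact absurd h0 h
      · exact ⟨z, hz, by rw [polar_add_right, h0, zero_add]; exact hz0⟩
    · exact ⟨0, L.zero_mem, by rw [add_zero]; exact h0⟩
  set x₁ := x₀ + z with hx₁
  set b := -(Q x₁) / polar Q y x₁ with hb
  refine ⟨x₁ + b • y, ?_, ?_, ?_⟩
  · have : x₁ + b • y - x₀ = z + b • y := by rw [hx₁]; abel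
    rw [this]
    exact L.add_mem hz (L.smul_mem _ hy)
  · rw [Q_add, QuadraticMap.map_smul, hQy, polar_smul_right, polar_comm Q x₁ y, smul_zero, add_zero,
      smul_eq_mul, hb, div_mul_cancel₀ _ hne]
    simp
  · rw [polar_add_right, polar_smul_right, polar_self_of_sing hQy, smul_zero, add_zero]
    exact hne

/-- The first dual vector. -/
theorem exists_first [Finite F] {V : Type v} [AddCommGroup V] [Module F V] [FiniteDimensional F V]
    {Q : QuadraticForm F V} (hQ : Nondeg Q) {W₁ D : Submodule F V} {w : V} (hw : Q w = 0)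
    (hW₁ : w ∉ W₁)
    (hdis : Disjoint (W₁ ⊔ Submodule.span F {w}) D)
    (hN : 2 * (finrank F W₁ + 1 + finrank F D) + 2 ≤ finrank F V) :
    ∃ x, Hyp Q w x ∧ x ∈ perp Q W₁ ∧ x ∈ perp Q D ∧ x ∉ (W₁ ⊔ Submodule.span F {w}) ⊔ D := by
  -- the linear conditions
  have hwT : w ∉ W₁ ⊔ D := by
    intro h
    obtain ⟨a, ha, d, hd, e⟩ := Submodule.mem_sup.1 h
    have h1 : d ∈ W₁ ⊔ Submodule.span F {w} := by
      rw [mem_sup_span]
      exact ⟨-a, W₁.neg_mem ha, 1, by rw [one_smul, ← e]; abel⟩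
    have h2 := Submodule.disjoint_def.1 hdis d h1 hd
    rw [h2, add_zero] at e
    exact hW₁ (e ▸ ha)
  obtain ⟨x₀, hx₀, hx₀w⟩ : ∃ x₀ ∈ perp Q (W₁ ⊔ D), polar Q w x₀ = 1 := by
    have h1 : w ∉ perp Q (perp Q (W₁ ⊔ D)) := by rw [perp_perp hQ]; exact hwT
    rw [mem_perp'] at h1
    push Not at h1
    obtain ⟨x, hx, hne⟩ := h1
    exact ⟨(polar Q w x)⁻¹ • x, Submodule.smul_mem _ _ hx, by
      rw [polar_smul_right, smul_eq_mul, inv_mul_cancel₀ hne]⟩
  set T : Submodule F V := (W₁ ⊔ Submodule.span F {w}) ⊔ D with hT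
  have hTd : finrank F T ≤ finrank F W₁ + 1 + finrank F D := by
    refine (Submodule.finrank_add_le_finrank_add_finrank _ _).trans ?_
    have := finrank_sup_span hW₁
    omega
  have hwT' : w ∈ T := Submodule.mem_sup_left (Submodule.mem_sup_right
    (Submodule.mem_span_singleton_self w))
  -- the singular vector `y`
  obtain ⟨y, hy, hQy, hyne⟩ : ∃ y ∈ perp Q T, Q y = 0 ∧
      (polar Q y x₀ ≠ 0 ∨ ∃ z ∈ perp Q T, polar Q y z ≠ 0) := by
    by_cases hwL : w ∈ perp Q T
    · exact ⟨w, hwL, hw, Or.inl (by rw [hx₀w]; exact one_ne_zero)⟩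
    · have h1 := finrank_add_perp hQ T
      have h2 : finrank F (perp Q T ⊓ perp Q (perp Q T) : Submodule F V) + 1 ≤ finrank F T := by
        rw [perp_perp hQ]
        have : finrank F (perp Q T ⊓ T : Submodule F V) < finrank F T := by
          apply Submodule.finrank_lt_finrank_of_lt
          refine lt_of_le_of_ne inf_le_right ?_
          intro h
          exact hwL (inf_eq_right.1 h hwT')
        omega
      obtain ⟨y, hy, hQy, hne⟩ := exists_sing_not_mem (Q := Q) (X := perp Q T)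
        (A := perp Q (perp Q T)) (by omega)
      rw [mem_perp'] at hne
      push Not at hne
      exact ⟨y, hy, hQy, Or.inr hne⟩
  obtain ⟨x, hx, hQx, hyx⟩ := exists_sing_shift hy hQy hyne
  have hTx : ∀ t ∈ T, polar Q t x = polar Q t x₀ := by
    intro t ht
    have := hx t ht
    rw [polar_sub_right, sub_eq_zero] at this
    exact this
  refine ⟨x, ⟨hw, hQx, ?_⟩, ?_, ?_, ?_⟩
  · rw [hTx w hwT', hx₀w]
  · intro a ha
    rw [hTx a (Submodule.mem_sup_left (Submodule.mem_sup_left ha))]
    exact hx₀ a (Submodule.mem_sup_left ha)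
  · intro d hd
    rw [hTx d (Submodule.mem_sup_right hd)]
    exact hx₀ d (Submodule.mem_sup_right hd)
  · intro hxT
    apply hyx
    rw [polar_comm]
    exact hy x hxT

/-- **Dual families orthogonal to `D`.** -/
theorem exists_dual [Finite F] (b a : ℕ) : ∀ {V : Type v} [AddCommGroup V] [Module F V]
    [FiniteDimensional F V] {Q : QuadraticForm F V} (_ : Nondeg Q) (w : Fin a → V)
    (_ : ∀ i, Q (w i) = 0) (_ : ∀ i j, polar Q (w i) (w j) = 0) (_ : LinearIndependent F w)
    (D : Submodule F V) (_ : finrank F D ≤ b)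
    (_ : Disjoint (Submodule.span F (Set.range w)) D) (_ : 2 * a + 2 * b + 2 ≤ finrank F V),
    ∃ w' : Fin a → V, Cfsg.Agent.H140.OreO.Frame Q w w' ∧ ∀ i, w' i ∈ perp Q D := by
  induction a with
  | zero =>
    intro V _ _ _ Q _ w _ _ _ D _ _ _
    exact ⟨w, ⟨fun i => i.elim0, fun i => i.elim0, fun i => i.elim0, fun i => i.elim0,
      fun i => i.elim0⟩, fun i => i.elim0⟩
  | succ a ih =>
    intro V _ _ _ Q hQ w hwQ hww hLI D hD hdis hN
    set W₁ : Submodule F V := Submodule.span F (Set.range fun i : Fin a => w i.succ) with hW₁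
    have hspan : Submodule.span F (Set.range w) = W₁ ⊔ Submodule.span F {w 0} := by
      rw [hW₁, ← Submodule.span_union, Set.union_comm]
      congr 1
      ext x
      simp only [Set.mem_range, Set.mem_union, Set.mem_singleton_iff]
      constructor
      · rintro ⟨i, rfl⟩
        refine Fin.cases (Or.inl rfl) (fun j => Or.inr ⟨j, rfl⟩) i
      · rintro (rfl | ⟨j, rfl⟩)
        · exact ⟨0, rfl⟩
        · exact ⟨j.succ, rfl⟩
    rw [hspan] at hdis
    have hLI' : LinearIndependent F (fun i : Fin a => w i.succ) :=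
      hLI.comp _ (Fin.succ_injective a)
    have hd1 : finrank F W₁ = a := by
      rw [hW₁, finrank_span_eq_card hLI', Fintype.card_fin]
    have hperp : ∀ x ∈ W₁, ∀ i, polar Q x (w i) = 0 := by
      intro x hx i
      refine Submodule.span_induction (p := fun x _ => polar Q x (w i) = 0) ?_ ?_ ?_ ?_ hx
      · rintro _ ⟨j, rfl⟩; exact hww _ _
      · exact polar_zero_left Q _
      · intro x y _ _ h1 h2; rw [polar_add_left, h1, h2, add_zero]
      · intro c x _ h1; rw [polar_smul_left, h1, smul_zero]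
    have h0W : w 0 ∉ W₁ := by
      have := hLI.notMem_span_image (s := Set.range (Fin.succ : Fin a → Fin (a + 1))) (x := 0)
        (by rintro ⟨j, hj⟩; exact Fin.succ_ne_zero j hj)
      rwa [← Set.range_comp] at this
    obtain ⟨x, hh, hxW, hxD, hxT⟩ := exists_first hQ (hwQ 0)
      h0W hdis (by omega)
    -- the complement of the hyperbolic pair
    set P : Submodule F V := Submodule.span F {w 0, x} with hP
    have hwP : w 0 ∈ P := Submodule.subset_span (by simp)
    have hxP : x ∈ P := Submodule.subset_span (by simp)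
    have hmemP : ∀ z, z ∈ perp Q P ↔ polar Q (w 0) z = 0 ∧ polar Q x z = 0 := by
      intro z
      refine ⟨fun h => ⟨h _ hwP, h _ hxP⟩, fun h y hy => ?_⟩
      refine Submodule.span_induction (p := fun y _ => polar Q y z = 0) ?_ ?_ ?_ ?_ hy
      · intro y hy
        rcases hy with rfl | hy
        · exact h.1
        · rw [Set.mem_singleton_iff.1 hy]; exact h.2
      · exact polar_zero_left Q z
      · intro a b _ _ ha hb
        rw [polar_add_left, ha, hb, add_zero]
      · intro c a _ ha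
        rw [polar_smul_left, ha, smul_zero]
    have hPnd : Nondeg (res Q P) := by
      rw [nondeg_res_iff]
      intro y hy hyz
      obtain ⟨α, β, rfl⟩ := Submodule.mem_span_pair.1 hy
      have h1 := hyz _ hwP
      have h2 := hyz _ hxP
      rw [polar_add_left, polar_smul_left, polar_smul_left, hh.polar_left, hh.pair'] at h1
      rw [polar_add_left, polar_smul_left, polar_smul_left, hh.polar_right, hh.pair] at h2
      simp only [smul_eq_mul, mul_zero, mul_one, zero_add, add_zero] at h1 h2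
      rw [h1, h2]; simp
    have hPd : finrank F P = 2 := by
      have h1 : LinearIndependent F ![w 0, x] := by
        rw [LinearIndependent.pair_iff]
        intro s t hst
        have h2 : polar Q (s • w 0 + t • x) x = 0 := by rw [hst]; exact polar_zero_left Q x
        have h3 : polar Q (s • w 0 + t • x) (w 0) = 0 := by rw [hst]; exact polar_zero_left Q _
        rw [polar_add_left, polar_smul_left, polar_smul_left, hh.polar_right, hh.pair] at h2
        rw [polar_add_left, polar_smul_left, polar_smul_left, hh.polar_left, hh.pair'] at h3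
        simp only [smul_eq_mul, mul_zero, mul_one, zero_add, add_zero] at h2 h3
        exact ⟨h2, h3⟩
      have h2 := finrank_span_eq_card h1
      rw [Matrix.range_cons, Matrix.range_cons, Matrix.range_empty, Set.union_empty,
        Set.singleton_union, Fintype.card_fin] at h2
      exact h2
    have hVd := finrank_add_perp hQ P
    -- the projection
    have hIC := isCompl_perp (Q := Q) hPnd
    let pr : V →ₗ[F] perp Q P := (perp Q P).projectionOnto P hIC.symm
    have hpr : ∀ z, ∃ α β : F, (pr z : V) = z - α • w 0 - β • x ∧ β = polar Q (w 0) z ∧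
        α = polar Q x z := by
      intro z
      refine ⟨polar Q x z, polar Q (w 0) z, ?_, rfl, rfl⟩
      have h1 : z - polar Q x z • w 0 - polar Q (w 0) z • x ∈ perp Q P := by
        rw [hmemP]
        constructor
        · rw [polar_sub_right, polar_sub_right, polar_smul_right, polar_smul_right, hh.polar_left,
            hh.pair]
          simp
        · rw [polar_sub_right, polar_sub_right, polar_smul_right, polar_smul_right, hh.polar_right,
            hh.pair']
          simp
      have h2 : pr z = pr (z - polar Q x z • w 0 - polar Q (w 0) z • x) := by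
        have e : z = (z - polar Q x z • w 0 - polar Q (w 0) z • x) +
          (polar Q x z • w 0 + polar Q (w 0) z • x) := by abel
        conv_lhs => rw [e, map_add]
        have h3 : pr (polar Q x z • w 0 + polar Q (w 0) z • x) = 0 := by
          rw [← LinearMap.mem_ker, Submodule.ker_projectionOnto]
          exact P.add_mem (P.smul_mem _ hwP) (P.smul_mem _ hxP)
        rw [h3, add_zero]
      rw [h2]
      have h3 : pr ((⟨_, h1⟩ : perp Q P) : V) = ⟨_, h1⟩ :=
        Submodule.projectionOnto_apply_left hIC.symm _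
      exact congrArg Subtype.val h3
    let w₁ : Fin a → perp Q P := fun i => ⟨w i.succ, by
      rw [hmemP]
      exact ⟨hww _ _, by rw [polar_comm]; exact hxW _ (Submodule.subset_span ⟨i, rfl⟩)⟩⟩
    obtain ⟨w₁', hf, hD'⟩ := ih (nondeg_perp hQ hPnd) w₁ (fun i => hwQ i.succ)
      (fun i j => hww i.succ j.succ)
      (by
        have h1 : LinearIndependent F (fun i => (perp Q P).subtype (w₁ i)) := hLI'
        exact LinearIndependent.of_comp _ h1)
      (D.map pr) ((Submodule.finrank_map_le _ _).trans hD)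
      (by
        rw [Submodule.disjoint_def]
        rintro y hy ⟨d, hd, hdy⟩
        have hyW : (y : V) ∈ W₁ := by
          have h1 : (y : V) ∈ (Submodule.span F (Set.range w₁)).map (perp Q P).subtype :=
            ⟨y, hy, rfl⟩
          rw [Submodule.map_span] at h1
          refine (Submodule.span_mono ?_) h1
          rintro _ ⟨_, ⟨i, rfl⟩, rfl⟩
          exact ⟨i, rfl⟩
        obtain ⟨α, β, hz, hβ, hα⟩ := hpr d
        have hα0 : α = 0 := by rw [hα, polar_comm]; exact hxD d hd
        rw [hdy, hα0, zero_smul, sub_zero] at hz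
        have hβ0 : β = 0 := by
          by_contra hne
          apply hxT
          have e : x = β⁻¹ • (-(y : V) + d) := by
            rw [hz]
            have : -(d - β • x) + d = β • x := by abel
            rw [this, smul_smul, inv_mul_cancel₀ hne, one_smul]
          rw [e]
          exact Submodule.smul_mem _ _ (Submodule.add_mem_sup
            (Submodule.mem_sup_left (W₁.neg_mem hyW)) hd)
        rw [hβ0, zero_smul, sub_zero] at hz
        apply Subtype.ext
        refine Submodule.disjoint_def.1 hdis (y : V) (Submodule.mem_sup_left hyW) ?_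
        rw [hz]; exact hd)
      (by omega)
    have hc : ∀ i, polar Q (w 0) (w₁' i : V) = 0 ∧ polar Q x (w₁' i : V) = 0 := fun i =>
      (hmemP _).1 (w₁' i).2
    refine ⟨Fin.cons x (fun i => (w₁' i : V)), ⟨hwQ, ?_, hww, ?_, ?_⟩, ?_⟩
    · intro i
      refine Fin.cases ?_ (fun j => ?_) i
      · exact hh.right
      · exact hf.sr j
    · intro i j
      refine Fin.cases ?_ (fun i => ?_) i
      · refine Fin.cases ?_ (fun j => ?_) j
        · exact hh.polar_right
        · exact (hc j).2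
      · refine Fin.cases ?_ (fun j => ?_) j
        · simp only [Fin.cons_succ, Fin.cons_zero]
          rw [polar_comm]; exact (hc i).2
        · exact hf.rr i j
    · intro i j
      refine Fin.cases ?_ (fun i => ?_) i
      · refine Fin.cases ?_ (fun j => ?_) j
        · simp only [Fin.cons_zero, if_true]; exact hh.pair
        · simp only [Fin.cons_succ]
          rw [if_neg (Fin.succ_ne_zero j).symm]; exact (hc j).1
      · refine Fin.cases ?_ (fun j => ?_) j
        · simp only [Fin.cons_zero]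
          rw [if_neg (Fin.succ_ne_zero i)]
          exact hxW _ (Submodule.subset_span ⟨i, rfl⟩)
        · simp only [Fin.cons_succ, Fin.succ_inj]
          exact hf.lr i j
    · intro i
      refine Fin.cases ?_ (fun j => ?_) i
      · exact hxD
      · simp only [Fin.cons_succ]
        intro d hd
        have h1 := hD' j (pr d) ⟨d, hd, rfl⟩
        have h2 : polar Q (pr d : V) (w₁' j : V) = 0 := h1
        obtain ⟨α, β, hz, -, -⟩ := hpr d
        rw [hz, polar_sub_left, polar_sub_left, polar_smul_left, polar_smul_left, (hc j).1,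
          (hc j).2] at h2
        simpa using h2

end Cfsg.Agent.H958.Ore
end

-- part: H958/Ore/Generic
section
/-!
# Totally singular `W` with `W ∩ (g - 1) W = 0`
-/

set_option autoImplicit false

namespace Cfsg.Agent.H958.Ore

open Module QuadraticMap Cfsg.Agent.LieClassical.OrthCore Cfsg.Agent.LieClassical.OrthTrans
  Cfsg.Agent.H955

variable {F V : Type*} [Field F] [AddCommGroup V] [Module F V] {Q : QuadraticForm F V}

/-- `W ∩ (g - 1) W = 0` -/
def NoRet (g : V ≃ₗ[F] V) (W : Submodule F V) : Prop := ∀ x ∈ W, g x - x ∈ W → g x = x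

theorem stuck_pair {g : V ≃ₗ[F] V} {X E : Submodule F V}
    (hst : ∀ w ∈ X, Q w = 0 → w ∉ E → ∃ d : F, g w - d • w ∈ E) {u v : V} {c : F} (huX : u ∈ X)
    (hvX : v ∈ X) (hu : Q u = 0) (hv : Q v = 0) (huv : polar Q u v = 0) (huE : u ∉ E)
    (hvE : v ∉ E ⊔ Submodule.span F {u}) (hc : g u - c • u ∈ E) : g v - c • v ∈ E := by
  have hvE0 : v ∉ E := fun h => hvE (Submodule.mem_sup_left h)
  obtain ⟨d, hd⟩ := hst v hvX hv hvE0
  have h1 : Q (u + v) = 0 := by rw [Q_add, hu, hv, huv]; simp
  have h2 : u + v ∉ E := by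
    intro h
    apply hvE
    have : v = (u + v) + (-1 : F) • u := by rw [neg_smul, one_smul]; abel
    rw [this]
    exact mem_sup_span.2 ⟨_, h, -1, rfl⟩
  obtain ⟨e, he⟩ := hst (u + v) (X.add_mem huX hvX) h1 h2
  have h3 : (c - e) • u + (d - e) • v ∈ E := by
    have := E.sub_mem he (E.add_mem hc hd)
    rw [map_add] at this
    have e1 : (c - e) • u + (d - e) • v = g u + g v - e • (u + v) - (g u - c • u + (g v - d • v)) := by
      module
    rw [e1]; exact this
  have h4 : d = e := by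
    by_contra hne
    apply hvE
    have hne' : d - e ≠ 0 := sub_ne_zero.2 hne
    rw [mem_sup_span]
    refine ⟨(d - e)⁻¹ • ((c - e) • u + (d - e) • v), E.smul_mem _ h3, -((d - e)⁻¹ * (c - e)), ?_⟩
    rw [smul_add, smul_smul, smul_smul, inv_mul_cancel₀ hne']
    module
  have h5 : c = e := by
    by_contra hne
    apply huE
    rw [h4, sub_self, zero_smul, add_zero] at h3
    exact (E.smul_mem_iff (sub_ne_zero.2 hne)).1 h3
  rw [h5, ← h4]; exact hd

/-- the stuck analysis -/
theorem stuck [Finite F] [FiniteDimensional F V] (hQ : Nondeg Q) {g : V ≃ₗ[F] V} {W E : Submodule F V}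
    (hW : TS Q W) {i : ℕ} (hi : finrank F W = i) (hE : finrank F E ≤ 2 * i)
    (hN : 3 * i + 7 ≤ finrank F V)
    (hst : ∀ w ∈ perp Q W, Q w = 0 → w ∉ E → ∃ d : F, g w - d • w ∈ E) :
    ∃ c : F, ∀ x ∈ perp Q W, g x - c • x ∈ E := by
  have hX := finrank_add_perp hQ W
  have hXE : finrank F (perp Q W ⊓ E : Submodule F V) ≤ finrank F E :=
    Submodule.finrank_mono inf_le_right
  obtain ⟨u, huX, hu, huE⟩ := exists_sing_not_mem (Q := Q) (X := perp Q W) (A := E) (by omega)
  obtain ⟨c, hc⟩ := hst u huX hu huE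
  refine ⟨c, ?_⟩
  have hall : ∀ v ∈ perp Q W, Q v = 0 → v ∉ E → g v - c • v ∈ E := by
    intro v hvX hv hvE
    -- a common neighbour `z`
    set S : Submodule F V := Submodule.span F {u} ⊔ Submodule.span F {v} with hS
    have hSd : finrank F S ≤ 2 := by
      refine (Submodule.finrank_add_le_finrank_add_finrank _ _).trans ?_
      have h1 := finrank_span_le_card (R := F) ({u} : Set V)
      have h2 := finrank_span_le_card (R := F) ({v} : Set V)
      simp only [Set.toFinset_singleton, Finset.card_singleton] at h1 h2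
      omega
    have h1 := finrank_inf_perp hQ (perp Q W) S
    have h2 : finrank F ((perp Q W ⊓ perp Q S) ⊓ (E ⊔ S) : Submodule F V) ≤ finrank F E + finrank F S :=
      (Submodule.finrank_mono inf_le_right).trans (Submodule.finrank_add_le_finrank_add_finrank _ _)
    obtain ⟨z, ⟨hzX, hzS⟩, hz, hzE⟩ := exists_sing_not_mem (Q := Q) (X := perp Q W ⊓ perp Q S)
      (A := E ⊔ S) (by omega)
    have huS : u ∈ S := Submodule.mem_sup_left (Submodule.mem_span_singleton_self u)
    have hvS : v ∈ S := Submodule.mem_sup_right (Submodule.mem_span_singleton_self v)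
    have hzu : z ∉ E ⊔ Submodule.span F {u} := fun h => hzE (by
      rw [hS, ← sup_assoc]; exact Submodule.mem_sup_left h)
    have hcz := stuck_pair hst huX hzX hu hz (hzS u huS) huE hzu hc
    have hzE0 : z ∉ E := fun h => hzE (Submodule.mem_sup_left h)
    refine stuck_pair hst hzX hvX hz hv (by rw [polar_comm]; exact hzS v hvS) hzE0 ?_ hcz
    intro h
    obtain ⟨y, hy, a, hya⟩ := mem_sup_span.1 h
    have ha : a ≠ 0 := by
      rintro rfl
      rw [zero_smul, add_zero] at hya
      exact hvE (hya ▸ hy)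
    apply hzE
    have : z = (-(a⁻¹ • y)) + a⁻¹ • v := by
      rw [hya, smul_add, smul_smul, inv_mul_cancel₀ ha, one_smul]; abel
    rw [this]
    exact Submodule.add_mem_sup (E.neg_mem (E.smul_mem _ hy)) (S.smul_mem _ hvS)
  -- the covering lemma
  by_contra hcon
  have hA : ¬ perp Q W ≤ E := by
    intro h
    have := Submodule.finrank_mono h
    omega
  have hB : ¬ perp Q W ≤ E.comap ((g : V →ₗ[F] V) - c • LinearMap.id) := by
    intro h
    exact hcon fun x hx => h hx
  obtain ⟨w, hw, hQw, hwA, hwB⟩ := exists_sing_avoid (rank_perp_TS hQ hW (k := 5) (by omega)) hA hB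
  exact hwB (hall w hw hQw hwA)

/-- rank of `g - c` when `(g - c) W^⊥ ≤ E` -/
theorem finrank_range_le [FiniteDimensional F V] (hQ : Nondeg Q) (f : V →ₗ[F] V) {W E : Submodule F V}
    (h : ∀ x ∈ perp Q W, f x ∈ E) : finrank F (LinearMap.range f) ≤ finrank F W + finrank F E := by
  obtain ⟨C, hC⟩ := Submodule.exists_isCompl (perp Q W)
  have h1 : LinearMap.range f ≤ E ⊔ C.map f := by
    rintro _ ⟨x, rfl⟩
    obtain ⟨a, ha, b, hb, rfl⟩ := Submodule.mem_sup.1 (hC.sup_eq_top ▸ Submodule.mem_top : x ∈ perp Q W ⊔ C)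
    rw [map_add]
    exact Submodule.add_mem_sup (h a ha) (Submodule.mem_map_of_mem hb)
  have h2 := Submodule.finrank_mono h1
  have h3 := Submodule.finrank_add_le_finrank_add_finrank E (C.map f)
  have h4 := Submodule.finrank_map_le f C
  have h5 := Submodule.finrank_add_eq_of_isCompl hC
  have h6 := finrank_add_perp hQ W
  omega

/-- one greedy step -/
theorem greedy_step [Finite F] [FiniteDimensional F V] (hQ : Nondeg Q) {g : V ≃ₗ[F] V}
    {W : Submodule F V} (hW : TS Q W) {i : ℕ} (hi : finrank F W = i) (hN : 3 * i + 7 ≤ finrank F V)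
    (hg : NoRet g W) (hr : ∀ c : F, 3 * i < finrank F (LinearMap.range ((g : V →ₗ[F] V) - c • LinearMap.id))) :
    ∃ W' : Submodule F V, TS Q W' ∧ finrank F W' = i + 1 ∧ NoRet g W' := by
  set E : Submodule F V := W ⊔ W.map (g : V →ₗ[F] V) with hE
  have hEd : finrank F E ≤ 2 * i := by
    refine (Submodule.finrank_add_le_finrank_add_finrank _ _).trans ?_
    have := Submodule.finrank_map_le (g : V →ₗ[F] V) W
    omega
  have hWE : W ≤ E := le_sup_left
  have hgE : ∀ x ∈ W, g x ∈ E := fun x hx => Submodule.mem_sup_right (Submodule.mem_map_of_mem hx)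
  obtain ⟨w, hw, hQw, hwE, hwd⟩ : ∃ w ∈ perp Q W, Q w = 0 ∧ w ∉ E ∧ ∀ d : F, g w - d • w ∉ E := by
    by_contra hcon
    push Not at hcon
    obtain ⟨c, hc⟩ := stuck hQ hW hi hEd hN hcon
    have h1 := finrank_range_le hQ ((g : V →ₗ[F] V) - c • LinearMap.id) (W := W) (E := E)
      (fun x hx => hc x hx)
    have h2 := hr c
    omega
  refine ⟨W ⊔ Submodule.span F {w}, hW.sup_span hw hQw, by
    rw [finrank_sup_span (fun h => hwE (hWE h)), hi], ?_⟩
  intro x hx hgx
  obtain ⟨y, hy, b, rfl⟩ := mem_sup_span.1 hx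
  obtain ⟨y', hy', a, hya⟩ := mem_sup_span.1 hgx
  have hb : b = 0 := by
    by_contra hb
    apply hwd (b⁻¹ * (a + b))
    have e1 : g w - (b⁻¹ * (a + b)) • w = b⁻¹ • (y' + y - g y) := by
      have e2 : b • g w = y' + a • w + y + b • w - g y := by
        rw [map_add, map_smul] at hya
        rw [← hya]; abel
      have e3 : g w = b⁻¹ • (b • g w) := by rw [smul_smul, inv_mul_cancel₀ hb, one_smul]
      rw [e3, e2]
      module
    rw [e1]
    exact E.smul_mem _ (E.sub_mem (E.add_mem (hWE hy') (hWE hy)) (hgE y hy))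
  subst hb
  rw [zero_smul, add_zero] at hya ⊢
  have ha : a = 0 := by
    by_contra ha
    apply hwE
    have e1 : w = a⁻¹ • (g y - y - y') := by
      rw [hya, add_sub_cancel_left, smul_smul, inv_mul_cancel₀ ha, one_smul]
    rw [e1]
    exact E.smul_mem _ (E.sub_mem (E.sub_mem (hgE y hy) (hWE hy)) (hWE hy'))
  subst ha
  rw [zero_smul, add_zero] at hya
  exact hg y hy (hya ▸ hy')

theorem perp_range [FiniteDimensional F V] {g : V ≃ₗ[F] V} (hg : g ∈ O Q) (hQ : Nondeg Q) {c : F}
    (hc : c ≠ 0) : perp Q (LinearMap.range ((g : V →ₗ[F] V) - c • LinearMap.id)) =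
      LinearMap.ker ((g : V →ₗ[F] V) - c⁻¹ • LinearMap.id) := by
  ext x
  rw [mem_perp, LinearMap.mem_ker]
  have key : ∀ y, polar Q (g y - c • y) (g x) = - c * polar Q y (g x - c⁻¹ • x) := by
    intro y
    rw [polar_sub_left, polar_map hg, polar_smul_left, polar_sub_right, polar_smul_right]
    simp only [smul_eq_mul]
    field_simp
    ring
  constructor
  · intro h
    have h0 : ∀ y, polar Q y (g x - c⁻¹ • x) = 0 := by
      intro y
      have h1 := key (y)
      have h2 : polar Q (g y - c • y) x = 0 := h _ ⟨y, rfl⟩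
      -- `polar (g y - c y) x = polar y (g⁻¹ x) - c polar y x`
      have h3 : ∀ y, polar Q (g y) x = c * polar Q y x := by
        intro y
        have := h _ ⟨y, rfl⟩
        have h4 : polar Q (g y - c • y) x = 0 := this
        rw [polar_sub_left, polar_smul_left, smul_eq_mul, sub_eq_zero] at h4
        exact h4
      obtain ⟨y', rfl⟩ := g.surjective y
      rw [polar_sub_right, polar_map hg, polar_smul_right, h3, smul_eq_mul, ← mul_assoc,
        inv_mul_cancel₀ hc, one_mul, sub_self]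
    have := hQ (g x - c⁻¹ • x) (fun y => by rw [polar_comm]; exact h0 y)
    exact this
  · intro h w hw
    obtain ⟨y, rfl⟩ := hw
    have h1 : g x = c⁻¹ • x := sub_eq_zero.1 h
    have h2 := key y
    rw [h1, sub_self, polar_zero_right, mul_zero, polar_smul_right, smul_eq_mul] at h2
    rcases mul_eq_zero.1 h2 with h3 | h3
    · exact absurd h3 (inv_ne_zero hc)
    · exact h3

theorem perp_ker [FiniteDimensional F V] {g : V ≃ₗ[F] V} (hg : g ∈ O Q) (hQ : Nondeg Q) {c : F}
    (hc : c ≠ 0) : perp Q (LinearMap.ker ((g : V →ₗ[F] V) - c • LinearMap.id)) =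
      LinearMap.range ((g : V →ₗ[F] V) - c⁻¹ • LinearMap.id) := by
  have h := perp_range hg hQ (inv_ne_zero hc)
  rw [inv_inv] at h
  rw [← h, perp_perp hQ]

theorem TS_ker {g : V ≃ₗ[F] V} (hg : g ∈ O Q) {c : F} (hc : c * c ≠ 1) :
    TS Q (LinearMap.ker ((g : V →ₗ[F] V) - c • LinearMap.id)) := by
  intro x hx
  have h1 : g x = c • x := sub_eq_zero.1 (LinearMap.mem_ker.1 hx)
  have h2 : Q (g x) = Q x := hg x
  rw [h1, QuadraticMap.map_smul, smul_eq_mul] at h2
  have h3 : (c * c - 1) * Q x = 0 := by linear_combination h2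
  rcases mul_eq_zero.1 h3 with h4 | h4
  · exact absurd (sub_eq_zero.1 h4) hc
  · exact h4

/-- enlarging a subspace -/
theorem exists_ge_finrank [FiniteDimensional F V] (D : Submodule F V) {m : ℕ} (h1 : finrank F D ≤ m)
    (h2 : m ≤ finrank F V) : ∃ D' ≥ D, finrank F D' = m := by
  induction m, h1 using Nat.le_induction with
  | base => exact ⟨D, le_rfl, rfl⟩
  | succ m hm ih =>
    obtain ⟨D', hD', hd⟩ := ih (by omega)
    obtain ⟨w, hw⟩ : ∃ w, w ∉ D' := by
      by_contra hcon
      push Not at hcon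
      have : D' = ⊤ := by rw [eq_top_iff]; exact fun x _ => hcon x
      rw [this, finrank_top] at hd
      omega
    exact ⟨D' ⊔ Submodule.span F {w}, hD'.trans le_sup_left, by rw [finrank_sup_span hw, hd]⟩

/-- **IB1.** -/
theorem exists_TS_noRet [Finite F] [FiniteDimensional F V] (hQ : Nondeg Q) {g : V ≃ₗ[F] V}
    (hg : g ∈ O Q) {m : ℕ} (hN : 4 * m + 1 ≤ finrank F V) (hN3 : 3 * m + 4 ≤ finrank F V)
    (hm : (2 : F) ≠ 0 → m ≤ finrank F (LinearMap.range ((g : V →ₗ[F] V) + 1))) :
    ∃ W : Submodule F V, TS Q W ∧ finrank F W = m ∧ NoRet g W := by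
  rcases Nat.eq_zero_or_pos m with rfl | hm0
  · refine ⟨⊥, TS.bot, finrank_bot F V, ?_⟩
    intro x hx _
    rw [(Submodule.mem_bot F).1 hx, map_zero]
  by_cases hr : ∀ c : F, 3 * (m - 1) < finrank F (LinearMap.range ((g : V →ₗ[F] V) - c • LinearMap.id))
  · -- greedy
    have key : ∀ i ≤ m, ∃ W : Submodule F V, TS Q W ∧ finrank F W = i ∧ NoRet g W := by
      intro i
      induction i with
      | zero =>
        refine fun _ => ⟨⊥, TS.bot, finrank_bot F V, ?_⟩
        intro x hx _
        rw [(Submodule.mem_bot F).1 hx, map_zero]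
      | succ i ih =>
        intro hi
        obtain ⟨W, hW, hd, hgW⟩ := ih (by omega)
        exact greedy_step hQ hW hd (by omega) hgW (fun c => by have := hr c; omega)
    exact key m le_rfl
  · push Not at hr
    obtain ⟨c, hc⟩ := hr
    have hc0 : c ≠ 0 := by
      rintro rfl
      rw [zero_smul, sub_zero, LinearEquiv.range, finrank_top] at hc
      omega
    set D := LinearMap.range ((g : V →ₗ[F] V) - c • LinearMap.id) with hD
    set K := LinearMap.ker ((g : V →ₗ[F] V) - c • LinearMap.id) with hK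
    have hKD : finrank F D + finrank F K = finrank F V := LinearMap.finrank_range_add_finrank_ker _
    by_cases hc1 : c = 1
    · -- only `D` matters
      obtain ⟨D', hDD', hd'⟩ := exists_ge_finrank D (m := max m (finrank F D)) (le_max_right _ _)
        (by omega)
      have hpd := finrank_add_perp hQ D'
      have hmm : max m (finrank F D) ≤ 3 * (m - 1) ∨ max m (finrank F D) = m := by omega
      obtain ⟨W, hW, hWd, -, hWD⟩ := exists_TS_avoid hQ (K := perp Q D') (D := D') (m := m) (by omega)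
        (Or.inl ⟨by rw [perp_perp hQ]; omega, Or.inr (by rw [perp_perp hQ])⟩)
        (Or.inl ⟨by omega, Or.inr le_rfl⟩) m le_rfl
      refine ⟨W, hW, hWd, ?_⟩
      intro x hx hgx
      have h1 : g x - x ∈ D := by
        refine ⟨x, ?_⟩
        rw [hc1, one_smul]; rfl
      exact sub_eq_zero.1 (Submodule.disjoint_def.1 hWD _ hgx (hDD' h1))
    · have hfin : ∀ W : Submodule F V, Disjoint W K → Disjoint W D → NoRet g W := by
        intro W hWK hWD x hx hgx
        have h1 : g x - c • x ∈ D := ⟨x, rfl⟩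
        have h2 : g x - c • x ∈ W := by
          have := W.sub_mem hgx (W.smul_mem (c - 1) hx)
          have e : g x - x - (c - 1) • x = g x - c • x := by module
          rw [e] at this; exact this
        have h3 := Submodule.disjoint_def.1 hWD _ h2 h1
        have h4 : x ∈ K := h3
        rw [Submodule.disjoint_def.1 hWK _ hx h4, map_zero]
      suffices h : AvCond Q m K D ∧ AvCond Q m D K by
        obtain ⟨W, hW, hWd, hWK, hWD⟩ := exists_TS_avoid hQ (by omega) h.1 h.2 m le_rfl
        exact ⟨W, hW, hWd, hfin W hWK hWD⟩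
      by_cases hcc : c * c = 1
      · have hcm : c = -1 := by
          rcases mul_self_eq_one_iff.1 hcc with h | h
          · exact absurd h hc1
          · exact h
        have hinv : c⁻¹ = c := inv_eq_of_mul_eq_one_left hcc
        have h2 : (2 : F) ≠ 0 := by
          intro h2
          apply hc1
          rw [hcm]
          linear_combination -h2
        have hmD : m ≤ finrank F D := by
          have h3 := hm h2
          have e : (g : V →ₗ[F] V) - c • LinearMap.id = (g : V →ₗ[F] V) + 1 := by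
            rw [hcm, neg_smul, one_smul, sub_neg_eq_add]; rfl
          rw [hD, e]; exact h3
        constructor
        · refine Or.inl ⟨?_, Or.inr ?_⟩
          · rw [hK, perp_ker hg hQ hc0, hinv]; exact hmD
          · rw [hK, perp_ker hg hQ hc0, hinv]
        · refine Or.inl ⟨?_, Or.inr ?_⟩
          · rw [hD, perp_range hg hQ hc0, hinv, ← hK]; omega
          · rw [hD, perp_range hg hQ hc0, hinv]
      · have hKTS := TS_ker (Q := Q) hg hcc
        rw [← hK] at hKTS
        have h1 := Submodule.finrank_mono hKTS.le_perp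
        have h2 := finrank_add_perp hQ K
        have hcc' : c⁻¹ * c⁻¹ ≠ 1 := by
          intro h
          apply hcc
          have := congrArg (fun t => c * c * t) h
          simp only [mul_one] at this
          rw [← this]
          field_simp
        have hK'TS := TS_ker (Q := Q) hg hcc'
        constructor
        · right
          omega
        · left
          have h3 := finrank_add_perp hQ D
          refine ⟨by omega, Or.inl ?_⟩
          have h4 : perp Q D = LinearMap.ker ((g : V →ₗ[F] V) - c⁻¹ • LinearMap.id) := perp_range hg hQ hc0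
          rw [h4]
          intro x hx
          have h5 := hK'TS.le_perp hx
          rw [← h4, perp_perp hQ] at h5
          exact h5

end Cfsg.Agent.H958.Ore
end

-- part: H958/Ore/IB
section
/-!
# Identity blocks (IB) and splitting off `-1` (R2)
-/

set_option autoImplicit false

namespace Cfsg.Agent.H958.Ore

open Module QuadraticMap Cfsg.Agent.LieClassical.OrthCore Cfsg.Agent.LieClassical.OrthTrans
  Cfsg.Agent.H955

variable {F V : Type*} [Field F] [AddCommGroup V] [Module F V] {Q : QuadraticForm F V}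

/-- **(IB)** identity block of size `m`, any finite field. -/
theorem idFrame [Finite F] [FiniteDimensional F V] (hQ : Nondeg Q) {g : V ≃ₗ[F] V}
    (hg : g ∈ O Q) {m : ℕ} (hN : 4 * m + 2 ≤ finrank F V) (hN3 : 3 * m + 4 ≤ finrank F V)
    (hm : (2 : F) ≠ 0 → m ≤ finrank F (LinearMap.range ((g : V →ₗ[F] V) + 1))) :
    Cfsg.Agent.H140.OreO.IdFrame m Q g := by
  obtain ⟨W, hW, hWd, hgW⟩ := exists_TS_noRet hQ hg (by omega) hN3 hm
  let bs := finBasisOfFinrankEq F W hWd
  let w : Fin m → V := fun i => bs i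
  have hwW : ∀ i, w i ∈ W := fun i => (bs i).2
  have hLI : LinearIndependent F w :=
    bs.linearIndependent.map' W.subtype (Submodule.ker_subtype W)
  have hspan : Submodule.span F (Set.range w) = W := by
    have h1 : Set.range w = W.subtype '' Set.range bs := by
      rw [← Set.range_comp]; rfl
    rw [h1, ← Submodule.map_span, bs.span_eq, Submodule.map_subtype_top]
  obtain ⟨w', hf, hD⟩ := exists_dual (Q := Q) m m hQ w (fun i => hW _ (hwW i))
    (fun i j => hW.polar (hwW i) (hwW j)) hLI (W.map ((g : V →ₗ[F] V) - 1))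
    ((Submodule.finrank_map_le _ _).trans hWd.le)
    (by
      rw [hspan, Submodule.disjoint_def]
      rintro x hx ⟨y, hy, hyx⟩
      have h1 : g y - y = x := hyx
      have h2 := hgW y hy (by rw [h1]; exact hx)
      rw [← h1, h2, sub_self]) (by omega)
  refine ⟨w, w', hf, ?_⟩
  ext i j
  rw [Cfsg.Agent.H140.OreO.corner_apply, Matrix.one_apply]
  have h1 : polar Q (g (w j) - w j) (w' i) = 0 := hD i _ ⟨w j, hwW j, rfl⟩
  have h2 : g (w j) = w j + (g (w j) - w j) := by abel
  rw [h2, polar_add_left, h1, add_zero, hf.lr]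
  simp only [eq_comm]

/-- rank of the form on a large subspace -/
theorem rank_of_large [FiniteDimensional F V] (hQ : Nondeg Q) {X : Submodule F V} {k : ℕ}
    (h : finrank F V + k ≤ 2 * finrank F X) :
    finrank F (X ⊓ perp Q X : Submodule F V) + k ≤ finrank F X := by
  have h1 := finrank_add_perp hQ X
  have h2 : finrank F (X ⊓ perp Q X : Submodule F V) ≤ finrank F (perp Q X) :=
    Submodule.finrank_mono inf_le_right
  omega

/-- Two orthogonal hyperbolic pairs in a large subspace. -/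
theorem exists_frame_two [Finite F] [FiniteDimensional F V] {X : Submodule F V}
    (h : finrank F (X ⊓ perp Q X : Submodule F V) + 5 ≤ finrank F X) :
    ∃ w w' : Fin 2 → V, Cfsg.Agent.H140.OreO.Frame Q w w' ∧ ∀ i, w i ∈ X ∧ w' i ∈ X := by
  obtain ⟨e, he, f, hf, hh⟩ := exists_hyp_of_rank (Q := Q) (X := X) (by omega)
  have hrk := rank_perp_hyp (k := 3) he hf hh (by omega)
  set Z : Submodule F V := X ⊓ perp Q (Submodule.span F {e, f}) with hZ
  obtain ⟨e', he', f', hf', hh'⟩ := exists_hyp_of_rank (Q := Q) (X := Z) hrk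
  have h1 : ∀ z ∈ Z, polar Q e z = 0 := fun z hz => hz.2 e (Submodule.subset_span (by simp))
  have h2 : ∀ z ∈ Z, polar Q f z = 0 := fun z hz => hz.2 f (Submodule.subset_span (by simp))
  refine ⟨![e, e'], ![f, f'], ⟨?_, ?_, ?_, ?_, ?_⟩, ?_⟩
  · intro i; fin_cases i
    · exact hh.left
    · exact hh'.left
  · intro i; fin_cases i
    · exact hh.right
    · exact hh'.right
  · intro i j; fin_cases i <;> fin_cases j
    · exact hh.polar_left
    · exact h1 e' he'
    · exact (polar_comm Q _ _).trans (h1 e' he')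
    · exact hh'.polar_left
  · intro i j; fin_cases i <;> fin_cases j
    · exact hh.polar_right
    · exact h2 f' hf'
    · exact (polar_comm Q _ _).trans (h2 f' hf')
    · exact hh'.polar_right
  · intro i j; fin_cases i <;> fin_cases j
    · exact hh.pair
    · exact h1 f' hf'
    · exact (polar_comm Q _ _).trans (h2 e' he')
    · exact hh'.pair
  · intro i; fin_cases i
    · exact ⟨he, hf⟩
    · exact ⟨he'.1, hf'.1⟩

/-- **(R2)** `g = -1` on a four-dimensional space of plus type. -/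
theorem exists_neg_frame [Finite F] [FiniteDimensional F V] (hQ : Nondeg Q) {g : V ≃ₗ[F] V} {m : ℕ}
    (hr : finrank F (LinearMap.range ((g : V →ₗ[F] V) + 1)) < m) (hN : 2 * m + 3 ≤ finrank F V) :
    ∃ w w' : Fin 2 → V, Cfsg.Agent.H140.OreO.Frame Q w w' ∧ ∀ i, g (w i) = - w i ∧ g (w' i) = - w' i := by
  have h1 := LinearMap.finrank_range_add_finrank_ker ((g : V →ₗ[F] V) + 1)
  obtain ⟨w, w', hf, hX⟩ := exists_frame_two (Q := Q) (X := LinearMap.ker ((g : V →ₗ[F] V) + 1))
    (rank_of_large hQ (by omega))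
  refine ⟨w, w', hf, fun i => ⟨?_, ?_⟩⟩
  · have h2 : g (w i) + w i = 0 := (hX i).1
    exact eq_neg_of_add_eq_zero_left h2
  · have h2 : g (w' i) + w' i = 0 := (hX i).2
    exact eq_neg_of_add_eq_zero_left h2

end Cfsg.Agent.H958.Ore
end

-- part: H140/OreO/Rec
section
/-!
# The recursion `T(N)`
-/

set_option autoImplicit false
set_option linter.unusedSectionVars false
set_option linter.unusedSimpArgs false
set_option linter.unusedVariables false

namespace Cfsg.Agent.H140.OreO

open Polynomial Matrix QuadraticMap Cfsg.Agent.LieClassical.OrthCore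
  Cfsg.Agent.LieClassical.OrthTrans Cfsg.Agent.LieClassical.OrthFinite
open scoped commutatorElement

universe u v

variable {F : Type u} [Field F]

/-- Admissible one-dimensional blocks. -/
def LinOK (β : F) : Prop := β ≠ 0 ∧ β ≠ 1 ∧ ((2 : F) ≠ 0 → β = -1)

/-- Spectral control on `y` in dimension `N`. -/
structure Out (N : ℕ) {V : Type*} [AddCommGroup V] [Module F V] (y : V ≃ₗ[F] V) : Prop where
  low : ∀ c : F[X], Irreducible c → 3 < c.natDegree → (N - 2) / 4 < c.natDegree → NB c →
    Un (y : Module.End F V) c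
  cub : N ≤ 14 → ∃ c : F[X], GoodPoly 3 c ∧ IsSquare (- c.coeff 0) ∧
    Un (y : Module.End F V) c ∧ Un (y : Module.End F V) c.reverse
  quad : N ≤ 10 → ∀ c : F[X], Irreducible c → c.natDegree = 2 → c.coeff 1 ≠ 0 →
    Un (y : Module.End F V) c
  lin : N ≤ 8 → ∀ β : F, LinOK β → Un (y : Module.End F V) (X - C β)

section

variable {V V' : Type*} [AddCommGroup V] [Module F V] [AddCommGroup V'] [Module F V']

theorem Out.conj {N : ℕ} {y : V ≃ₗ[F] V} (h : Out N y) (g : V ≃ₗ[F] V) : Out N (g * y * g⁻¹) where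
  low := fun c h1 h2 h3 h4 => (h.low c h1 h2 h3 h4).conj' g
  cub := fun hN => by
    obtain ⟨c, h1, h2, h3, h4⟩ := h.cub hN
    exact ⟨c, h1, h2, h3.conj' g, h4.conj' g⟩
  quad := fun hN c h1 h2 h3 => (h.quad hN c h1 h2 h3).conj' g
  lin := fun hN β h1 => (h.lin hN β h1).conj' g

theorem Out.of_autE {N : ℕ} {e : V ≃ₗ[F] V'} {y : V ≃ₗ[F] V} (h : Out N (autE e y)) : Out N y where
  low := fun c h1 h2 h3 h4 => (h.low c h1 h2 h3 h4).of_autE
  cub := fun hN => by
    obtain ⟨c, h1, h2, h3, h4⟩ := h.cub hN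
    exact ⟨c, h1, h2, h3.of_autE, h4.of_autE⟩
  quad := fun hN c h1 h2 h3 => (h.quad hN c h1 h2 h3).of_autE
  lin := fun hN β h1 => (h.lin hN β h1).of_autE

/-- The corner in the model. -/
theorem corner_model {n : ℕ} {Q : QuadraticForm F V} {w w' : Fin n → V} (hf : Frame Q w w')
    (g : V ≃ₗ[F] V) (a : Fin n → F) :
    (autE hf.toModel g (a, 0, 0)).1 = corner Q g w w' *ᵥ a := by
  ext i
  rw [autE_apply, hf.toModel_fst, hf.toModel_symm_apply]
  simp only [ZeroMemClass.coe_zero, Pi.zero_apply, zero_smul, Finset.sum_const_zero, add_zero,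
    map_sum, map_smul]
  rw [← polarBilin_apply_apply, map_sum, LinearMap.sum_apply]
  simp only [map_smul, LinearMap.smul_apply, polarBilin_apply_apply, smul_eq_mul, mulVec,
    dotProduct, corner_apply]
  exact Finset.sum_congr rfl fun j _ => mul_comm _ _

theorem schur_model {n : ℕ} {Q : QuadraticForm F V} {w w' : Fin n → V} (hf : Frame Q w w')
    {g : V ≃ₗ[F] V} (hS : SchurOne Q g w w') (v : perp Q w w') :
    ∃ c d, autE hf.toModel g (c, v, 0) = (0, v, d) := by
  obtain ⟨c, d, h⟩ := hS v v.2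
  refine ⟨c, d, ?_⟩
  have h1 : hf.toModel.symm (c, v, 0) = (v : V) + ∑ i, c i • w i := by
    rw [hf.toModel_symm_apply]
    simp [add_comm]
  have h2 : hf.toModel.symm (0, v, d) = (v : V) + ∑ i, d i • w' i := by
    rw [hf.toModel_symm_apply]
    simp
  rw [autE_apply, h1, h, ← h2, LinearEquiv.apply_symm_apply]

end

/-- The statement `T(N)`. -/
def TT (F : Type u) [Field F] (N : ℕ) : Prop :=
  ∀ (V : Type v) [AddCommGroup V] [Module F V] [FiniteDimensional F V] (Q : QuadraticForm F V),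
    Nondeg Q → Module.finrank F V = N → ∀ g ∈ Om Q, ∀ s : Fˣ, Sol Q g s (Out N)

/-- Identity block. -/
theorem idblock [Finite F] {N N₁ m : ℕ} (hN : N = N₁ + 2 * m) (hm : 0 < m) (hN₁ : 7 ≤ N₁)
    (hT : TT.{u, v} F N₁) {V : Type v} [AddCommGroup V] [Module F V] [FiniteDimensional F V]
    {Q : QuadraticForm F V} (hQ : Nondeg Q) (hd : Module.finrank F V = N) {g : V ≃ₗ[F] V}
    (hg : g ∈ Om Q) (hI : IdFrame m Q g) (s s₀ : Fˣ) (P : GL (Fin m) F → Prop)
    (h1 : ∀ {V₁ : Type v} [AddCommGroup V₁] [Module F V₁] [FiniteDimensional F V₁]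
      (y : V₁ ≃ₗ[F] V₁), Out N₁ y → ∃ (X : GL (Fin m) F) (a : Fˣ),
        (X : Matrix (Fin m) (Fin m) F).det = ((s₀ * (a * a) : Fˣ) : F) ∧ P X ∧
        ∀ k : V₁ ≃ₗ[F] V₁, Cop X (k * y * k⁻¹))
    (h2 : ∀ {V₁ : Type v} [AddCommGroup V₁] [Module F V₁] [FiniteDimensional F V₁]
      (y : V₁ ≃ₗ[F] V₁) (X : GL (Fin m) F), Out N₁ y → P X → Out N (lev X y)) :
    Sol Q g s (Out N) := by
  obtain ⟨w, w', hf, hc⟩ := hI
  have he : ∀ v, MQ m (res Q w w') (hf.toModel v) = Q v := hf.MQ_toModel
  have hV1 : Module.finrank F (perp Q w w') = N₁ := by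
    have := hf.finrank_perp; omega
  have hQ1 := hf.nondeg_res hQ
  have hG : Good (MQ m (res Q w w')) := by
    apply good_of_finite (nondeg_MQ hQ1)
    rw [← hf.toModel.finrank_eq, hd]; omega
  have hG1 : Good (res Q w w') := good_of_finite hQ1 (by omega)
  refine Sol.of_autE he (R' := Out N) ?_ (fun y h => h.of_autE)
  have key := block hG hm hG1.exists_hyp ((autE_mem_Om he).2 hg)
    (fun a => by rw [corner_model, hc, one_mulVec])
    (fun g₁ h h' => H141.SpinFacts.Om_of_lev hQ1 (by omega) h h') (s := s₀) (t := s₀⁻¹ * s)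
    (Out N₁) (fun g₁ hg₁ => hT _ _ hQ1 hV1 g₁ hg₁ _) (fun X _ => P X) (fun y hy => h1 y hy)
  rw [mul_inv_cancel_left] at key
  obtain ⟨k, hk, y, hy, e, y₁, v, X, hR, hP, rfl⟩ := key
  exact ⟨k, hk, _, hy, e, (h2 y₁ X hR hP).conj v⟩

/-! ### Tools for the blocks -/

section

variable {V : Type*} [AddCommGroup V] [Module F V] {m : ℕ}

theorem un_X {X : GL (Fin m) F} {c : F[X]}
    (h : IsCoprime c (X : Matrix (Fin m) (Fin m) F).charpoly) :
    Un (Matrix.toLin' (X : Matrix (Fin m) (Fin m) F)) c :=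
  Un.of_coprime_mat (aeval_self_charpoly _) h

theorem un_tiX {X : GL (Fin m) F} {c : F[X]}
    (h : IsCoprime c (X : Matrix (Fin m) (Fin m) F).charpoly.reverse) :
    Un (Matrix.toLin' (ti X : Matrix (Fin m) (Fin m) F)) c :=
  Un.of_coprime_mat (aeval_ti_reverse X) h

/-- `c` prime to the block by degree. -/
theorem un_lev_of_deg [FiniteDimensional F V] {X : GL (Fin m) F} {y : V ≃ₗ[F] V} {c : F[X]}
    (hc : Irreducible c) (hX : Irreducible (X : Matrix (Fin m) (Fin m) F).charpoly)
    (hX0 : (X : Matrix (Fin m) (Fin m) F).charpoly.coeff 0 ≠ 0) (hcm : c.natDegree ≠ m)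
    (hy : Un (y : Module.End F V) c) :
    Un ((lev X y : M F V m ≃ₗ[F] M F V m) : Module.End F (M F V m)) c := by
  have hdeg : (X : Matrix (Fin m) (Fin m) F).charpoly.natDegree = m := by
    rw [charpoly_natDegree_eq_dim, Fintype.card_fin]
  refine un_lev (un_X (coprime_of_deg_ne hc hX (by rw [hdeg]; exact hcm.symm))) hy
    (un_tiX (coprime_of_deg_ne hc (irreducible_rev hX hX0) ?_))
  rw [natDegree_rev hX0, hdeg]
  exact hcm.symm

theorem charpoly_coeff_zero_ne (X : GL (Fin m) F) :
    (X : Matrix (Fin m) (Fin m) F).charpoly.coeff 0 ≠ 0 := by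
  intro h
  have h1 := det_eq_sign_charpoly_coeff (X : Matrix (Fin m) (Fin m) F)
  rw [h, mul_zero] at h1
  exact ((Matrix.isUnit_iff_isUnit_det _).1 X.isUnit).ne_zero h1

end

/-- The step with a good polynomial of degree `m ≥ 2` fixed in advance. -/
theorem good_step [Finite F] {N N₁ m : ℕ} (hN : N = N₁ + 2 * m) (hm : 2 ≤ m) (hN₁ : 7 ≤ N₁)
    (hN9 : 11 ≤ N)
    (hmN : m ≤ 3 ∨ m ≤ (N - 2) / 4) (hT : TT.{u, v} F N₁) {V : Type v} [AddCommGroup V]
    [Module F V] [FiniteDimensional F V] {Q : QuadraticForm F V} (hQ : Nondeg Q)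
    (hd : Module.finrank F V = N) {g : V ≃ₗ[F] V} (hg : g ∈ Om Q) (hI : IdFrame m Q g) (s : Fˣ)
    (c : F[X]) (hc : GoodPoly m c) (hm3 : N ≤ 14 → m ≠ 3)
    (h1 : ∀ {V₁ : Type v} [AddCommGroup V₁] [Module F V₁] [FiniteDimensional F V₁]
      (y : V₁ ≃ₗ[F] V₁), Out N₁ y → Un (y : Module.End F V₁) c ∧ Un (y : Module.End F V₁) c.reverse) :
    Sol Q g s (Out N) := by
  have h0 : c.coeff 0 ≠ 0 := coeff_zero_ne hc.irr (by rw [hc.deg]; exact hm)
  obtain ⟨X, hX⟩ := exists_matrix c hc.monic h0 hc.deg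
  have hdet : (X : Matrix (Fin m) (Fin m) F).det ≠ 0 :=
    ((Matrix.isUnit_iff_isUnit_det _).1 X.isUnit).ne_zero
  refine idblock hN (by omega) hN₁ hT hQ hd hg hI s (Units.mk0 _ hdet)
    (fun X => (X : Matrix (Fin m) (Fin m) F).charpoly = c) ?_ ?_
  · intro V₁ _ _ _ y hy
    refine ⟨X, 1, by simp, hX, fun k => ?_⟩
    obtain ⟨h2, h3⟩ := h1 y hy
    apply cop_of_charpoly
    · rw [hX]; exact h2.conj' k
    · rw [hX]; exact h3.conj' k
    · rw [hX]; exact hc.cop
  · intro V₁ _ _ _ y X hy hX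
    have hirr : Irreducible (X : Matrix (Fin m) (Fin m) F).charpoly := by rw [hX]; exact hc.irr
    refine ⟨fun c' h1 h2 h3 h4 => ?_, fun hN' => ?_, fun h => by omega, fun h => by omega⟩
    · refine un_lev_of_deg h1 hirr (charpoly_coeff_zero_ne X) (by omega) (hy.low c' h1 h2 ?_ h4)
      omega
    · obtain ⟨c₃, h3, h4, h5, h6⟩ := hy.cub (by omega)
      have h7 : c₃.coeff 0 ≠ 0 := coeff_zero_ne h3.irr (by rw [h3.deg]; norm_num)
      refine ⟨c₃, h3, h4, un_lev_of_deg h3.irr hirr (charpoly_coeff_zero_ne X) ?_ h5,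
        un_lev_of_deg (irreducible_rev h3.irr h7) hirr (charpoly_coeff_zero_ne X) ?_ h6⟩
      · rw [h3.deg]; exact (hm3 hN').symm
      · rw [natDegree_rev h7, h3.deg]; exact (hm3 hN').symm

end Cfsg.Agent.H140.OreO
end

-- part: H140/OreO/RecB
section
/-!
# The steps of the recursion
-/

set_option autoImplicit false
set_option linter.unusedSectionVars false
set_option linter.unusedSimpArgs false
set_option linter.unusedVariables false

namespace Cfsg.Agent.H140.OreO

open Polynomial Matrix QuadraticMap Cfsg.Agent.LieClassical.OrthCore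
  Cfsg.Agent.LieClassical.OrthTrans Cfsg.Agent.LieClassical.OrthFinite
open scoped commutatorElement

universe u v

variable {F : Type u} [Field F]

theorem irr_rev_quad {c : F[X]} (hc : Irreducible c) (hd : c.natDegree = 2) (h1 : c.coeff 1 ≠ 0) :
    Irreducible c.reverse ∧ c.reverse.natDegree = 2 ∧ c.reverse.coeff 1 ≠ 0 := by
  have h0 : c.coeff 0 ≠ 0 := coeff_zero_ne hc (by omega)
  refine ⟨irreducible_rev hc h0, by rw [natDegree_rev h0, hd], ?_⟩
  rw [coeff_one_reverse, nextCoeff_of_natDegree_pos (by omega), hd]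
  exact h1

/-- `11 ≤ N ≤ 14`. -/
theorem step_two [Finite F] (hF : 3 ≤ Nat.card F) {N : ℕ} (h1 : 11 ≤ N) (h2 : N ≤ 14)
    (hT : TT.{u, v} F (N - 4)) {V : Type v} [AddCommGroup V]
    [Module F V] [FiniteDimensional F V] {Q : QuadraticForm F V} (hQ : Nondeg Q)
    (hd : Module.finrank F V = N) {g : V ≃ₗ[F] V} (hg : g ∈ Om Q) (hI : IdFrame 2 Q g) (s : Fˣ) :
    Sol Q g s (Out N) := by
  obtain ⟨c, hc, hc1⟩ := exists_good_quad F hF
  refine good_step (N₁ := N - 4) (m := 2) (by omega) le_rfl (by omega) h1 (Or.inl (by norm_num)) hT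
    hQ hd hg hI s c hc (by omega) ?_
  intro V₁ _ _ _ y hy
  obtain ⟨h3, h4, h5⟩ := irr_rev_quad hc.irr hc.deg hc1
  exact ⟨hy.quad (by omega) c hc.irr hc.deg hc1, hy.quad (by omega) _ h3 h4 h5⟩

/-- `18 ≤ N`. -/
theorem step_big [Finite F] (hF : 3 ≤ Nat.card F) {N : ℕ} (h1 : 18 ≤ N)
    (hT : TT.{u, v} F (N - 2 * ((N - 2) / 4))) {V : Type v} [AddCommGroup V]
    [Module F V] [FiniteDimensional F V] {Q : QuadraticForm F V} (hQ : Nondeg Q)
    (hd : Module.finrank F V = N) {g : V ≃ₗ[F] V} (hg : g ∈ Om Q)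
    (hI : IdFrame ((N - 2) / 4) Q g) (s : Fˣ) :
    Sol Q g s (Out N) := by
  obtain ⟨c, hc, hnb⟩ := exists_good_nb F hF ((N - 2) / 4) (by omega)
  have h0 : c.coeff 0 ≠ 0 := coeff_zero_ne hc.irr (by rw [hc.deg]; omega)
  refine good_step (N₁ := N - 2 * ((N - 2) / 4)) (m := (N - 2) / 4) (by omega) (by omega) (by omega)
    (by omega) (Or.inr le_rfl) hT hQ hd hg hI s c hc (by omega) ?_
  intro V₁ _ _ _ y hy
  refine ⟨hy.low c hc.irr (by rw [hc.deg]; omega) (by rw [hc.deg]; omega) hnb,
    hy.low _ (irreducible_rev hc.irr h0) ?_ ?_ (hnb.rev h0)⟩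
  · rw [natDegree_rev h0, hc.deg]; omega
  · rw [natDegree_rev h0, hc.deg]; omega

/-- `15 ≤ N ≤ 17`. -/
theorem step_three [Finite F] (hF : 3 ≤ Nat.card F) {N : ℕ} (h1 : 15 ≤ N) (h2 : N ≤ 17)
    (hT : TT.{u, v} F (N - 6)) {V : Type v} [AddCommGroup V]
    [Module F V] [FiniteDimensional F V] {Q : QuadraticForm F V} (hQ : Nondeg Q)
    (hd : Module.finrank F V = N) {g : V ≃ₗ[F] V} (hg : g ∈ Om Q) (hI : IdFrame 3 Q g) (s : Fˣ) :
    Sol Q g s (Out N) := by
  refine idblock (N₁ := N - 6) (m := 3) (by omega) (by norm_num) (by omega) hT hQ hd hg hI s 1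
    (fun X => Irreducible (X : Matrix (Fin 3) (Fin 3) F).charpoly) ?_ ?_
  · intro V₁ _ _ _ y hy
    obtain ⟨c, hc, ⟨r, hr⟩, h3, h4⟩ := hy.cub (by omega)
    have h0 : c.coeff 0 ≠ 0 := coeff_zero_ne hc.irr (by rw [hc.deg]; norm_num)
    obtain ⟨X, hX⟩ := exists_matrix c hc.monic h0 hc.deg
    have hr0 : r ≠ 0 := by
      rintro rfl
      apply h0
      rw [mul_zero, neg_eq_zero] at hr
      exact hr
    have hdet : (X : Matrix (Fin 3) (Fin 3) F).det = r * r := by
      rw [det_eq_sign_charpoly_coeff, hX, Fintype.card_fin, ← hr]; ring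
    refine ⟨X, Units.mk0 r hr0, ?_, by rw [hX]; exact hc.irr, fun k => ?_⟩
    · rw [hdet]; simp
    · apply cop_of_charpoly
      · rw [hX]; exact h3.conj' k
      · rw [hX]; exact h4.conj' k
      · rw [hX]; exact hc.cop
  · intro V₁ _ _ _ y X hy hX
    refine ⟨fun c' h3 h4 h5 h6 => ?_, fun hN' => by omega, fun h => by omega, fun h => by omega⟩
    refine un_lev_of_deg h3 hX (charpoly_coeff_zero_ne X) (by omega) (hy.low c' h3 h4 ?_ h6)
    omega

/-! ### One-dimensional blocks -/

theorem charpoly_one (X : GL (Fin 1) F) :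
    (X : Matrix (Fin 1) (Fin 1) F).charpoly = Polynomial.X - C ((X : Matrix (Fin 1) (Fin 1) F) 0 0) := by
  rw [Matrix.charpoly, det_fin_one, charmatrix_apply_eq]

theorem ti_one_apply {X : GL (Fin 1) F} {β : F} (hβ : β ≠ 0)
    (hX : (X : Matrix (Fin 1) (Fin 1) F) 0 0 = β) :
    (ti X : Matrix (Fin 1) (Fin 1) F) 0 0 = β⁻¹ := by
  rw [ti_coe, transpose_apply]
  have h1 : ((X : Matrix (Fin 1) (Fin 1) F) * ((X⁻¹ : GL (Fin 1) F) : Matrix (Fin 1) (Fin 1) F)) 0 0
      = 1 := by
    rw [← Units.val_mul, mul_inv_cancel]; simp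
  rw [Matrix.mul_apply, Fin.sum_univ_one, hX] at h1
  exact eq_inv_of_mul_eq_one_right h1

section

variable {V : Type*} [AddCommGroup V] [Module F V]

theorem mulVec_one_eq (A : Matrix (Fin 1) (Fin 1) F) (a : Fin 1 → F) : A *ᵥ a = A 0 0 • a := by
  ext i
  obtain rfl := Subsingleton.elim i 0
  simp [mulVec, dotProduct]

theorem cop_one {X : GL (Fin 1) F} {β : F} (hβ : β ≠ 0)
    (hX : (X : Matrix (Fin 1) (Fin 1) F) 0 0 = β) {h : V ≃ₗ[F] V}
    (h1 : Un (h : Module.End F V) (Polynomial.X - C β))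
    (h2 : Un (h : Module.End F V) (Polynomial.X - C β⁻¹)) : Cop X h := by
  have alt : ∀ f : (Fin 1 → F) →ₗ[F] (Fin 1 → F), (∀ a, a ⬝ᵥ f a = 0) → f = 0 := by
    intro f hf
    apply LinearMap.ext
    intro a
    have e1 : f (fun _ => 1) = 0 := by
      ext i
      obtain rfl := Subsingleton.elim i 0
      have := hf (fun _ => 1)
      simpa [dotProduct] using this
    have e2 : a = a 0 • (fun _ => (1 : F)) := by
      ext i
      obtain rfl := Subsingleton.elim i 0
      simp
    rw [e2, map_smul, e1]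
    simp
  have ev : ∀ (γ : F) (v : V), aeval (h : Module.End F V) (Polynomial.X - C γ) v = h v - γ • v := by
    intro γ v
    simp [Module.algebraMap_end_apply]
  have hti := ti_one_apply hβ hX
  have A : ∀ γ : F, Un (h : Module.End F V) (Polynomial.X - C γ) →
      ∀ f : (Fin 1 → F) →ₗ[F] V, (∀ a, f (γ • a) = h (f a)) → f = 0 := by
    intro γ hγ f hf
    apply LinearMap.ext
    intro a
    apply inj_of_unit hγ
    rw [ev, ← hf, map_smul, sub_self]
  have B : ∀ γ : F, Un (h : Module.End F V) (Polynomial.X - C γ) →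
      ∀ f : V →ₗ[F] (Fin 1 → F), (∀ v, f (h v) = γ • f v) → f = 0 := by
    intro γ hγ f hf
    apply LinearMap.ext
    intro v
    obtain ⟨w, rfl⟩ := surj_of_unit hγ v
    rw [ev, map_sub, hf, map_smul, sub_self]; rfl
  refine ⟨fun f hf => A β h1 f fun a => ?_, fun f hf => B β⁻¹ h2 f fun v => ?_,
    fun f hf _ => alt f hf, fun f hf => A β⁻¹ h2 f fun a => ?_, fun f hf => B β h1 f fun v => ?_,
    fun f hf _ => alt f hf⟩
  · rw [← hf, mulVec_one_eq, hX]
  · rw [hf, mulVec_one_eq, hti]
  · rw [← hf, mulVec_one_eq, hti]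
  · rw [hf, mulVec_one_eq, hX]

end

theorem linOK_inv {β : F} (h : LinOK β) : LinOK β⁻¹ :=
  ⟨inv_ne_zero h.1, fun h1 => h.2.1 (by rw [inv_eq_one] at h1; exact h1), fun h2 => by
    rw [h.2.2 h2]; norm_num⟩

theorem exists_linOK [Finite F] (hF : 3 ≤ Nat.card F) : ∃ β : F, LinOK β := by
  by_cases h2 : (2 : F) = 0
  · classical
    have := Fintype.ofFinite F
    rw [Nat.card_eq_fintype_card] at hF
    have : ∃ γ ∈ (Finset.univ : Finset F), γ ∉ ({0, 1} : Finset F) := by
      apply Finset.exists_mem_notMem_of_card_lt_card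
      rw [Finset.card_univ]
      exact lt_of_le_of_lt (Finset.card_le_two) (by omega)
    obtain ⟨γ, -, hγ⟩ := this
    simp only [Finset.mem_insert, Finset.mem_singleton, not_or] at hγ
    exact ⟨γ, hγ.1, hγ.2, fun h => absurd h2 h⟩
  · refine ⟨-1, by simp, fun h => h2 ?_, fun _ => rfl⟩
    linear_combination -h

/-- `N = 9, 10`. -/
theorem step_one [Finite F] (hF : 3 ≤ Nat.card F) {N : ℕ} (h1 : 9 ≤ N) (h2 : N ≤ 10)
    (hT : TT.{u, v} F (N - 2)) {V : Type v} [AddCommGroup V]
    [Module F V] [FiniteDimensional F V] {Q : QuadraticForm F V} (hQ : Nondeg Q)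
    (hd : Module.finrank F V = N) {g : V ≃ₗ[F] V} (hg : g ∈ Om Q) (hI : IdFrame 1 Q g) (s : Fˣ) :
    Sol Q g s (Out N) := by
  obtain ⟨β, hβ⟩ := exists_linOK hF
  let X : GL (Fin 1) F := dg 0 (Units.mk0 β hβ.1)
  have hX : (X : Matrix (Fin 1) (Fin 1) F) 0 0 = β := by
    show (diagonal (Function.update 1 0 ((Units.mk0 β hβ.1 : Fˣ) : F)) : Matrix _ _ F) 0 0 = β
    simp
  refine idblock (N₁ := N - 2) (m := 1) (by omega) (by norm_num) (by omega) hT hQ hd hg hI s
    (Units.mk0 β hβ.1) (fun X' => (X' : Matrix (Fin 1) (Fin 1) F) 0 0 = β) ?_ ?_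
  · intro V₁ _ _ _ y hy
    refine ⟨X, 1, ?_, hX, fun k => ?_⟩
    · rw [det_fin_one, hX]; simp
    · exact cop_one hβ.1 hX ((hy.lin (by omega) β hβ).conj' k)
        ((hy.lin (by omega) β⁻¹ (linOK_inv hβ)).conj' k)
  · intro V₁ _ _ _ y X' hy hX'
    have hirr : Irreducible (X' : Matrix (Fin 1) (Fin 1) F).charpoly := by
      rw [charpoly_one]; exact irreducible_X_sub_C _
    have h0 := charpoly_coeff_zero_ne X'
    refine ⟨fun c' h3 h4 h5 h6 => ?_, fun hN' => ?_, fun h c' h3 h4 h5 => ?_, fun h => by omega⟩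
    · exact un_lev_of_deg h3 hirr h0 (by omega) (hy.low c' h3 h4 (by omega) h6)
    · obtain ⟨c₃, h3, h4, h5, h6⟩ := hy.cub (by omega)
      have h7 : c₃.coeff 0 ≠ 0 := coeff_zero_ne h3.irr (by rw [h3.deg]; norm_num)
      refine ⟨c₃, h3, h4, un_lev_of_deg h3.irr hirr h0 ?_ h5,
        un_lev_of_deg (irreducible_rev h3.irr h7) hirr h0 ?_ h6⟩
      · rw [h3.deg]; norm_num
      · rw [natDegree_rev h7, h3.deg]; norm_num
    · exact un_lev_of_deg h3 hirr h0 (by omega) (hy.quad (by omega) c' h3 h4 h5)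

end Cfsg.Agent.H140.OreO
end

-- part: H140/OreO/GL3
section
/-!
# The `GL_3` lemma

`F` finite with at least three elements, `A ∈ SL_3(F)` not scalar with `rank (A - 1) ≥ 2`, `s ≠ 0`:
there is `Y ∈ GL_3(F)` with `charpoly Y = charpoly (A * Y)` irreducible and `det Y * s` a square.
-/

set_option autoImplicit false
set_option linter.unusedSectionVars false
set_option linter.unusedSimpArgs false
set_option linter.unusedVariables false

namespace Cfsg.Agent.H140.OreO.GL3

open Polynomial Matrix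

variable {F : Type*} [Field F]

/-- Matrices similar. -/
def Sim (A B : Matrix (Fin 3) (Fin 3) F) : Prop := ∃ P : Matrix (Fin 3) (Fin 3) F, P.det ≠ 0 ∧ A * P = P * B

theorem Sim.symm {A B : Matrix (Fin 3) (Fin 3) F} (h : Sim A B) : Sim B A := by
  obtain ⟨P, hP, e⟩ := h
  have hu : IsUnit P.det := hP.isUnit
  refine ⟨P⁻¹, ?_, ?_⟩
  · rw [det_nonsing_inv]
    simpa using hP
  · have h1 : P⁻¹ * (A * P) * P⁻¹ = P⁻¹ * (P * B) * P⁻¹ := by rw [e]
    rw [← Matrix.mul_assoc, Matrix.mul_assoc (P⁻¹ * A), mul_nonsing_inv _ hu, Matrix.mul_one,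
      ← Matrix.mul_assoc, nonsing_inv_mul _ hu, Matrix.one_mul] at h1
    exact h1.symm

theorem Sim.trans {A B C : Matrix (Fin 3) (Fin 3) F} (h : Sim A B) (h' : Sim B C) : Sim A C := by
  obtain ⟨P, hP, e⟩ := h
  obtain ⟨P', hP', e'⟩ := h'
  refine ⟨P * P', by rw [det_mul]; exact mul_ne_zero hP hP', ?_⟩
  rw [← Matrix.mul_assoc, e, Matrix.mul_assoc, e', Matrix.mul_assoc]

theorem charpoly_of_sim {A B P : Matrix (Fin 3) (Fin 3) F} (hP : P.det ≠ 0) (e : A * P = P * B) :
    A.charpoly = B.charpoly := by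
  have hu : IsUnit P.det := hP.isUnit
  have : A = P * B * P⁻¹ := by
    rw [← e, Matrix.mul_assoc, mul_nonsing_inv _ hu, Matrix.mul_one]
  rw [this]
  exact Matrix.charpoly_units_conj (M := (Matrix.nonsingInvUnit P hu)) B

/-- The goal for a matrix `A`. -/
def Goal (A : Matrix (Fin 3) (Fin 3) F) (s : F) : Prop :=
  ∃ Y : Matrix (Fin 3) (Fin 3) F, Y.det ≠ 0 ∧ Y.charpoly = (A * Y).charpoly ∧
    Irreducible Y.charpoly ∧ IsSquare (Y.det * s)

theorem Goal.of_sim {A B : Matrix (Fin 3) (Fin 3) F} {s : F} (h : Sim A B) (hB : Goal B s) :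
    Goal A s := by
  obtain ⟨P, hP, e⟩ := h
  obtain ⟨Y, hY, hc, hi, hs⟩ := hB
  have hu : IsUnit P.det := hP.isUnit
  have e1 : (P * Y * P⁻¹) * P = P * Y := by
    rw [Matrix.mul_assoc, nonsing_inv_mul _ hu, Matrix.mul_one]
  have e2 : (A * (P * Y * P⁻¹)) * P = P * (B * Y) := by
    rw [Matrix.mul_assoc, e1, ← Matrix.mul_assoc, e, Matrix.mul_assoc]
  have d : (P * Y * P⁻¹).det = Y.det := by
    rw [det_mul, det_mul, det_nonsing_inv, Ring.inverse_eq_inv', mul_right_comm,
      mul_inv_cancel₀ hP, one_mul]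
  refine ⟨P * Y * P⁻¹, by rwa [d], ?_, ?_, by rwa [d]⟩
  · rw [charpoly_of_sim hP e1, charpoly_of_sim hP e2, hc]
  · rw [charpoly_of_sim hP e1]; exact hi

/-- second coefficient -/
def e2 (A : Matrix (Fin 3) (Fin 3) F) : F :=
  A 0 0 * A 1 1 - A 0 1 * A 1 0 + (A 0 0 * A 2 2 - A 0 2 * A 2 0) + (A 1 1 * A 2 2 - A 1 2 * A 2 1)

theorem cayley (A : Matrix (Fin 3) (Fin 3) F) :
    A * A * A = A.trace • (A * A) - e2 A • A + A.det • (1 : Matrix (Fin 3) (Fin 3) F) := by
  ext i j
  fin_cases i <;> fin_cases j <;>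
    simp [Matrix.mul_apply, Fin.sum_univ_three, det_fin_three, trace_fin_three, e2] <;> ring

theorem charpoly_three (A : Matrix (Fin 3) (Fin 3) F) :
    A.charpoly = X ^ 3 - C A.trace * X ^ 2 + C (e2 A) * X - C A.det := by
  rw [Matrix.charpoly, det_fin_three]
  simp [charmatrix_apply, trace_fin_three, e2, det_fin_three, Matrix.diagonal]
  ring

/-- The matrix with columns `u v w`. -/
def cols (u v w : Fin 3 → F) : Matrix (Fin 3) (Fin 3) F :=
  of ![![u 0, v 0, w 0], ![u 1, v 1, w 1], ![u 2, v 2, w 2]]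

theorem det_cols (u v w : Fin 3 → F) : (cols u v w).det =
    u 0 * v 1 * w 2 - u 0 * w 1 * v 2 - v 0 * u 1 * w 2 + v 0 * w 1 * u 2 + w 0 * u 1 * v 2
      - w 0 * v 1 * u 2 := by
  simp [cols, det_fin_three]

theorem mul_cols (A : Matrix (Fin 3) (Fin 3) F) (u v w : Fin 3 → F) :
    A * cols u v w = cols (A *ᵥ u) (A *ᵥ v) (A *ᵥ w) := by
  ext i j
  fin_cases i <;> fin_cases j <;>
    simp [cols, Matrix.mul_apply, Fin.sum_univ_three, mulVec, dotProduct]

theorem cols_mul (u v w : Fin 3 → F) (M : Matrix (Fin 3) (Fin 3) F) :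
    cols u v w * M = cols (M 0 0 • u + M 1 0 • v + M 2 0 • w) (M 0 1 • u + M 1 1 • v + M 2 1 • w)
      (M 0 2 • u + M 1 2 • v + M 2 2 • w) := by
  ext i j
  fin_cases i <;> fin_cases j <;>
    simp [cols, Matrix.mul_apply, Fin.sum_univ_three] <;> ring

theorem cols_mulVec (u v w c : Fin 3 → F) :
    cols u v w *ᵥ c = c 0 • u + c 1 • v + c 2 • w := by
  ext i
  fin_cases i <;> simp [cols, mulVec, dotProduct, Fin.sum_univ_three] <;> ring

/-- Cyclic matrices with the same invariants are similar. -/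
theorem sim_of_cyclic {A : Matrix (Fin 3) (Fin 3) F} {v : Fin 3 → F}
    (h : (cols v (A *ᵥ v) (A *ᵥ (A *ᵥ v))).det ≠ 0) :
    Sim A (of ![![0, 0, A.det], ![1, 0, - e2 A], ![0, 1, A.trace]]) := by
  refine ⟨_, h, ?_⟩
  rw [mul_cols, cols_mul]
  have h1 : A *ᵥ (A *ᵥ (A *ᵥ v)) =
      A.det • v + (- e2 A) • (A *ᵥ v) + A.trace • (A *ᵥ (A *ᵥ v)) := by
    have := congrArg (fun M => M *ᵥ v) (cayley A)
    simp only [add_mulVec, sub_mulVec, smul_mulVec, one_mulVec, ← mulVec_mulVec] at this
    rw [this]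
    module
  rw [h1]
  simp

/-- Every vector has a relation of length two iff the matrix is quadratic. -/
theorem cyclic_or_quadratic (A : Matrix (Fin 3) (Fin 3) F) :
    (∃ v, (cols v (A *ᵥ v) (A *ᵥ (A *ᵥ v))).det ≠ 0) ∨ ∃ α β : F, A * A = α • A + β • (1 : Matrix _ _ F) := by
  obtain ⟨v₀, hv₀⟩ := Module.exists_ker_toSpanSingleton_eq_annihilator F[X]
    (Module.AEval' (Matrix.toLin' A))
  obtain ⟨v, hv⟩ : ∃ v : Fin 3 → F, ∀ p : F[X], aeval (Matrix.toLin' A) p v = 0 →
      minpoly F (Matrix.toLin' A) ∣ p := by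
    refine ⟨(Module.AEval'.of (Matrix.toLin' A)).symm v₀, fun p hp => ?_⟩
    have h1 : p • v₀ = 0 := by
      obtain ⟨w, rfl⟩ := (Module.AEval'.of (Matrix.toLin' A)).surjective v₀
      rw [LinearEquiv.symm_apply_apply] at hp
      rw [← Module.AEval.of_aeval_smul]
      have : (aeval (Matrix.toLin' A) p • w : Fin 3 → F) = aeval (Matrix.toLin' A) p w := rfl
      rw [this, hp, map_zero]
    have h2 : p ∈ LinearMap.ker (LinearMap.toSpanSingleton F[X]
        (Module.AEval' (Matrix.toLin' A)) v₀) := by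
      rw [LinearMap.mem_ker, LinearMap.toSpanSingleton_apply, h1]
    rw [hv₀, ← span_minpoly_eq_annihilator, Ideal.mem_span_singleton] at h2
    exact h2
  by_cases hdet : (cols v (A *ᵥ v) (A *ᵥ (A *ᵥ v))).det = 0
  · right
    obtain ⟨c, hc0, hc⟩ := Matrix.exists_mulVec_eq_zero_iff.2 hdet
    have hrel : c 0 • v + c 1 • (A *ᵥ v) + c 2 • (A *ᵥ (A *ᵥ v)) = 0 := by
      rw [← cols_mulVec]
      exact hc
    let p : F[X] := C (c 0) + C (c 1) * X + C (c 2) * X ^ 2
    have hp : aeval (Matrix.toLin' A) p v = 0 := by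
      simp only [p, map_add, map_mul, aeval_C, aeval_X, map_pow, LinearMap.add_apply,
        Module.End.mul_apply, Module.algebraMap_end_apply, pow_two, Matrix.toLin'_apply]
      exact hrel
    have hp2 : aeval (Matrix.toLin' A) p = 0 := by
      obtain ⟨r, hr⟩ := hv p hp
      rw [hr, map_mul, minpoly.aeval, zero_mul]
    have hp3 : c 0 • (1 : Matrix (Fin 3) (Fin 3) F) + c 1 • A + c 2 • (A * A) = 0 := by
      apply Matrix.toLin'.injective
      rw [map_zero, ← hp2]
      simp only [p, map_add, map_mul, aeval_C, aeval_X, map_pow, map_smul, Matrix.toLin'_one,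
        Matrix.toLin'_mul]
      apply LinearMap.ext
      intro w
      simp [pow_two, Module.algebraMap_end_apply]
    by_cases h2 : c 2 = 0
    · by_cases h1 : c 1 = 0
      · exfalso
        rw [h1, h2, zero_smul, zero_smul, add_zero, add_zero] at hp3
        have h0 : c 0 = 0 := by
          have := congrFun (congrFun hp3 0) 0
          simpa using this
        apply hc0
        ext i
        fin_cases i
        · exact h0
        · exact h1
        · exact h2
      · rw [h2, zero_smul, add_zero] at hp3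
        have hA : A = (-(c 1)⁻¹ * c 0) • (1 : Matrix (Fin 3) (Fin 3) F) := by
          have h3 : c 1 • A = - (c 0 • (1 : Matrix (Fin 3) (Fin 3) F)) :=
            eq_neg_of_add_eq_zero_right hp3
          have h4 : (c 1)⁻¹ • c 1 • A = (c 1)⁻¹ • - (c 0 • (1 : Matrix (Fin 3) (Fin 3) F)) := by
            rw [h3]
          rw [inv_smul_smul₀ h1] at h4
          rw [h4, smul_neg, smul_smul, neg_mul, neg_smul]
        refine ⟨-(c 1)⁻¹ * c 0, 0, ?_⟩
        nth_rewrite 1 [hA]
        rw [smul_mul, Matrix.one_mul, zero_smul, add_zero]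
    · refine ⟨-(c 2)⁻¹ * c 1, -(c 2)⁻¹ * c 0, ?_⟩
      have h3 : c 2 • (A * A) = - (c 0 • (1 : Matrix (Fin 3) (Fin 3) F) + c 1 • A) :=
        eq_neg_of_add_eq_zero_right hp3
      have h4 : (c 2)⁻¹ • c 2 • (A * A) =
          (c 2)⁻¹ • - (c 0 • (1 : Matrix (Fin 3) (Fin 3) F) + c 1 • A) := by rw [h3]
      rw [inv_smul_smul₀ h2] at h4
      rw [h4]
      module
  · exact Or.inl ⟨v, hdet⟩

/-- There is an irreducible cubic with prescribed trace and determinant. -/
theorem exists_cubic [Finite F] (z₁ z₃ : F) (h1 : z₁ ≠ 0) :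
    ∃ z₂ : F, Irreducible (X ^ 3 - C z₃ * X ^ 2 - C z₂ * X - C z₁ : F[X]) := by
  classical
  have := Fintype.ofFinite F
  -- the values `(r^3 - z₃ r^2 - z₁) / r` do not exhaust `F`
  have hns : ∃ z₂ : F, ∀ r : F, r ≠ 0 → (r ^ 3 - z₃ * r ^ 2 - z₁) / r ≠ z₂ := by
    by_contra hcon
    push Not at hcon
    choose f hf0 hf using hcon
    have hinj : Function.Injective f := fun a b hab => by rw [← hf a, ← hf b, hab]
    obtain ⟨a, ha⟩ := (Finite.injective_iff_surjective.1 hinj) 0
    exact hf0 a ha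
  obtain ⟨z₂, hz₂⟩ := hns
  refine ⟨z₂, ?_⟩
  have hdeg : (X ^ 3 - C z₃ * X ^ 2 - C z₂ * X - C z₁ : F[X]).natDegree = 3 := by
    compute_degree!
  rw [Polynomial.irreducible_iff_roots_eq_zero_of_degree_le_three (by rw [hdeg]; norm_num)
    (by rw [hdeg])]
  rw [Multiset.eq_zero_iff_forall_notMem]
  intro r hr
  have hr' := (mem_roots'.1 hr).2
  rw [IsRoot.def] at hr'
  simp only [eval_sub, eval_mul, eval_pow, eval_C, eval_X] at hr'
  have hr0 : r ≠ 0 := by
    rintro rfl
    apply h1
    simpa using hr'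
  apply hz₂ r hr0
  rw [div_eq_iff hr0]
  linear_combination hr'

/-- the companion matrix -/
def yy (z₁ z₂ z₃ : F) : Matrix (Fin 3) (Fin 3) F := of ![![0, 0, z₁], ![1, 0, z₂], ![0, 1, z₃]]

theorem det_yy (z₁ z₂ z₃ : F) : (yy z₁ z₂ z₃).det = z₁ := by
  simp [yy, det_fin_three]

theorem charpoly_yy (z₁ z₂ z₃ : F) :
    (yy z₁ z₂ z₃).charpoly = X ^ 3 - C z₃ * X ^ 2 - C z₂ * X - C z₁ := by
  rw [charpoly_three, det_yy]
  simp [yy, e2, trace_fin_three]
  ring

/-- The commutator matrix. -/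
def aa (a c z₁ z₃ : F) : Matrix (Fin 3) (Fin 3) F :=
  of ![![1 + (a ^ 2 * c + a ^ 2 * z₃) / z₁, a, - a ^ 2],
    ![(a * c + a * z₃ - c ^ 2) / z₁, 1, c - a], ![- c / z₁, 0, 1]]

theorem goal_aa {a c z₁ z₂ z₃ s : F} (h1 : z₁ ≠ 0) (hs : IsSquare (z₁ * s))
    (hi : Irreducible (X ^ 3 - C z₃ * X ^ 2 - C z₂ * X - C z₁ : F[X])) : Goal (aa a c z₁ z₃) s := by
  refine ⟨yy z₁ z₂ z₃, by rwa [det_yy], ?_, by rwa [charpoly_yy], by rwa [det_yy]⟩
  refine (charpoly_of_sim (P := of ![![1, a, 0], ![0, 1, c], ![0, 0, 1]]) ?_ ?_).symm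
  · simp [det_fin_three]
  · ext i j
    fin_cases i <;> fin_cases j <;>
      simp [aa, yy, Matrix.mul_apply, Fin.sum_univ_three] <;> field_simp <;> ring

theorem aa_cyclic {a c z₁ z₃ : F} (h1 : z₁ ≠ 0) (ha : a ≠ 0) (hac : a ≠ c) :
    ∃ v, (cols v (aa a c z₁ z₃ *ᵥ v) (aa a c z₁ z₃ *ᵥ (aa a c z₁ z₃ *ᵥ v))).det ≠ 0 := by
  rcases cyclic_or_quadratic (aa a c z₁ z₃) with h | ⟨α, β, h⟩
  · exact h
  · exfalso
    have h21 := congrFun (congrFun h 2) 1
    have h01 := congrFun (congrFun h 0) 1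
    have h02 := congrFun (congrFun h 0) 2
    simp [aa, Matrix.mul_apply, Fin.sum_univ_three] at h21 h01 h02
    have hc : c = 0 := by
      rcases h21 with h | h
      · rcases h with h | h
        · exact h
        · exact absurd h h1
      · exact absurd h ha
    subst hc
    have e1 : α = 1 + (a ^ 2 * 0 + a ^ 2 * z₃) / z₁ + 1 := by
      apply mul_right_cancel₀ ha
      rw [← h01]; ring
    have e2 : α = 1 + (a ^ 2 * 0 + a ^ 2 * z₃) / z₁ + 2 := by
      apply mul_right_cancel₀ (pow_ne_zero 2 ha)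
      linear_combination h02
    rw [e1] at e2
    have : (1 : F) = 0 := by linear_combination -e2
    exact one_ne_zero this

theorem det_aa {a c z₁ z₃ : F} (h1 : z₁ ≠ 0) : (aa a c z₁ z₃).det = 1 := by
  simp [aa, det_fin_three]
  field_simp
  ring

theorem trace_aa (a c z₁ z₃ : F) :
    (aa a c z₁ z₃).trace = 3 + (a ^ 2 * c + a ^ 2 * z₃) / z₁ := by
  simp [aa, trace_fin_three]
  ring

theorem e2_aa {a c z₁ z₃ : F} (h1 : z₁ ≠ 0) :
    e2 (aa a c z₁ z₃) = 3 + (a ^ 2 * z₃ + a * c ^ 2) / z₁ := by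
  simp [aa, e2]
  field_simp
  ring

theorem goal_of_cyclic [Finite F] (hF : 3 ≤ Nat.card F) {A : Matrix (Fin 3) (Fin 3) F}
    (hdet : A.det = 1) {s : F} (hs : s ≠ 0)
    (hc : ∃ v, (cols v (A *ᵥ v) (A *ᵥ (A *ᵥ v))).det ≠ 0) : Goal A s := by
  -- parameters
  obtain ⟨a, c, z₁, z₃, h1, ha, hac, hsq, hT1, hT2⟩ : ∃ a c z₁ z₃ : F, z₁ ≠ 0 ∧ a ≠ 0 ∧ a ≠ c ∧
      IsSquare (z₁ * s) ∧ 3 + (a ^ 2 * c + a ^ 2 * z₃) / z₁ = A.trace ∧
      3 + (a ^ 2 * z₃ + a * c ^ 2) / z₁ = e2 A := by
    by_cases hT : A.trace = e2 A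
    · refine ⟨1, 0, s, s * (A.trace - 3), hs, one_ne_zero, one_ne_zero, ⟨s, rfl⟩, ?_, ?_⟩
      · field_simp; ring
      · rw [← hT]; field_simp; ring
    · have hΔ : A.trace - e2 A ≠ 0 := sub_ne_zero.2 hT
      obtain ⟨γ, hγ0, hγ1⟩ : ∃ γ : F, γ ≠ 0 ∧ γ ≠ 1 := by
        classical
        have := Fintype.ofFinite F
        rw [Nat.card_eq_fintype_card] at hF
        have : ∃ γ ∈ (Finset.univ : Finset F), γ ∉ ({0, 1} : Finset F) := by
          apply Finset.exists_mem_notMem_of_card_lt_card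
          rw [Finset.card_univ]
          exact lt_of_le_of_lt (Finset.card_le_two) (by omega)
        obtain ⟨γ, -, hγ⟩ := this
        simp only [Finset.mem_insert, Finset.mem_singleton, not_or] at hγ
        exact ⟨γ, hγ⟩
      have hγ1' : 1 - γ ≠ 0 := sub_ne_zero.2 (Ne.symm hγ1)
      set Δ := A.trace - e2 A with hΔdef
      have hv0 : γ * (1 - γ) / Δ ≠ 0 := div_ne_zero (mul_ne_zero hγ0 hγ1') hΔ
      set v₀ := γ * (1 - γ) / Δ with hv₀def
      have hl : s * v₀ ≠ 0 := mul_ne_zero hs hv0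
      set l := s * v₀ with hldef
      have hz : l ^ 3 * v₀ ≠ 0 := mul_ne_zero (pow_ne_zero 3 hl) hv0
      have hvΔ : v₀ * Δ = γ * (1 - γ) := by rw [hv₀def]; field_simp
      have hT2 : e2 A = A.trace - Δ := by rw [hΔdef]; ring
      refine ⟨l, l * γ, l ^ 3 * v₀, (l ^ 3 * v₀ * (A.trace - 3) - l ^ 2 * (l * γ)) / l ^ 2, hz, hl,
        ?_, ?_, ?_, ?_⟩
      · intro h
        apply hγ1
        have : l * (1 - γ) = 0 := by linear_combination h
        rcases mul_eq_zero.1 this with h | h
        · exact absurd h hl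
        · linear_combination -h
      · refine ⟨s ^ 2 * v₀ ^ 2, ?_⟩
        rw [hldef]; ring
      · field_simp
        ring
      · rw [hT2]
        have e : 3 + (l ^ 2 * ((l ^ 3 * v₀ * (A.trace - 3) - l ^ 2 * (l * γ)) / l ^ 2) +
            l * (l * γ) ^ 2) / (l ^ 3 * v₀) = A.trace - (γ * (1 - γ)) / v₀ := by
          field_simp
          ring
        rw [e, ← hvΔ]
        field_simp
  obtain ⟨z₂, hi⟩ := exists_cubic z₁ z₃ h1
  refine Goal.of_sim ?_ (goal_aa (a := a) (c := c) h1 hsq hi)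
  obtain ⟨v, hv⟩ := hc
  obtain ⟨v', hv'⟩ := aa_cyclic (z₃ := z₃) h1 ha hac
  have s1 := sim_of_cyclic hv
  have s2 := sim_of_cyclic hv'
  rw [det_aa h1, trace_aa, e2_aa h1, hT1, hT2] at s2
  rw [hdet] at s1
  exact s1.trans s2.symm

/-! ### The quadratic case -/

/-- normal form -/
def nn (l d : F) : Matrix (Fin 3) (Fin 3) F := of ![![l + d, 1, 0], ![0, l, 0], ![0, 0, l]]

theorem exists_cols {A : Matrix (Fin 3) (Fin 3) F}
    (hns : ∀ c : F, A ≠ c • (1 : Matrix (Fin 3) (Fin 3) F)) :
    ∃ v w, (cols v (A *ᵥ v) w).det ≠ 0 := by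
  by_contra hcon
  push Not at hcon
  apply hns (A 0 0)
  have k1 := hcon ![1, 0, 0] ![0, 0, 1]
  have k2 := hcon ![1, 0, 0] ![0, 1, 0]
  have k3 := hcon ![0, 1, 0] ![1, 0, 0]
  have k4 := hcon ![0, 1, 0] ![0, 0, 1]
  have k5 := hcon ![0, 0, 1] ![1, 0, 0]
  have k6 := hcon ![0, 0, 1] ![0, 1, 0]
  have k7 := hcon ![1, 1, 0] ![0, 0, 1]
  have k8 := hcon ![1, 0, 1] ![0, 1, 0]
  simp [det_cols, mulVec, dotProduct, Fin.sum_univ_three] at k1 k2 k3 k4 k5 k6 k7 k8
  ext i j
  fin_cases i <;> fin_cases j <;> simp <;> grind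

theorem sim_nn_of_quadratic {A : Matrix (Fin 3) (Fin 3) F}
    (hns : ∀ c : F, A ≠ c • (1 : Matrix (Fin 3) (Fin 3) F)) {α β : F}
    (h : A * A = α • A + β • (1 : Matrix (Fin 3) (Fin 3) F)) : ∃ l d, Sim A (nn l d) := by
  obtain ⟨v, w, hvw⟩ := exists_cols hns
  have hu : IsUnit (cols v (A *ᵥ v) w).det := hvw.isUnit
  -- coordinates of `A w`
  obtain ⟨x, hx⟩ : ∃ x, cols v (A *ᵥ v) w *ᵥ x = A *ᵥ w :=
    ⟨(cols v (A *ᵥ v) w)⁻¹ *ᵥ (A *ᵥ w), by
      rw [mulVec_mulVec, mul_nonsing_inv _ hu, one_mulVec]⟩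
  let M : Matrix (Fin 3) (Fin 3) F := of ![![0, β, x 0], ![1, α, x 1], ![0, 0, x 2]]
  have hM : A * cols v (A *ᵥ v) w = cols v (A *ᵥ v) w * M := by
    rw [mul_cols, cols_mul, ← hx, cols_mulVec]
    have h1 : A *ᵥ (A *ᵥ v) = β • v + α • (A *ᵥ v) := by
      rw [mulVec_mulVec, h, add_mulVec, smul_mulVec, smul_mulVec, one_mulVec, add_comm]
    rw [h1]
    simp [M]
  have hM2 : M * M = α • M + β • (1 : Matrix (Fin 3) (Fin 3) F) := by
    have h1 : cols v (A *ᵥ v) w * (M * M) =
        cols v (A *ᵥ v) w * (α • M + β • (1 : Matrix (Fin 3) (Fin 3) F)) := by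
      rw [← Matrix.mul_assoc, ← hM, Matrix.mul_assoc, ← hM, ← Matrix.mul_assoc, h, Matrix.add_mul,
        Matrix.mul_add, smul_mul, Matrix.mul_smul, ← hM, smul_mul, Matrix.mul_smul, Matrix.one_mul,
        Matrix.mul_one]
    have h2 := congrArg (fun N => (cols v (A *ᵥ v) w)⁻¹ * N) h1
    simpa only [← Matrix.mul_assoc, nonsing_inv_mul _ hu, Matrix.one_mul] using h2
  have m22 := congrFun (congrFun hM2 2) 2
  have m12 := congrFun (congrFun hM2 1) 2
  simp [M, Matrix.mul_apply, Fin.sum_univ_three] at m22 m12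
  have hx0 : x 0 = - (x 2 * x 1) := by linear_combination m12
  have hβ : β = - (x 2 * (α - x 2)) := by linear_combination -m22
  refine ⟨x 2, (α - x 2) - x 2, ?_⟩
  refine Sim.trans ⟨_, hvw, hM⟩ ⟨of ![![- x 2, 1, - x 1], ![1, 0, 0], ![0, 0, 1]], ?_, ?_⟩
  · simp [det_fin_three]
  · ext i j
    fin_cases i <;> fin_cases j <;>
      simp [M, nn, Matrix.mul_apply, Fin.sum_univ_three, hx0, hβ] <;> ring

/-- rank one perturbation of a scalar with first vector `e₁` -/
def pp (l d f g : F) : Matrix (Fin 3) (Fin 3) F := of ![![l + d, f, g], ![0, l, 0], ![0, 0, l]]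

theorem sim_pp {l d f g : F} (hf : f ≠ 0) : Sim (nn l d) (pp l d f g) := by
  refine ⟨of ![![1, 0, 0], ![0, f, g], ![0, 0, 1]], ?_, ?_⟩
  · simpa [det_fin_three] using hf
  · ext i j
    fin_cases i <;> fin_cases j <;>
      simp [nn, pp, Matrix.mul_apply, Fin.sum_univ_three] <;> ring

theorem goal_nn [Finite F] {l d s : F} (hs : s ≠ 0) (hdet : l ^ 2 * (l + d) = 1) (hl : l ≠ 1) :
    Goal (nn l d) s := by
  have hl0 : l ≠ 0 := by rintro rfl; simp at hdet
  obtain ⟨z₂, hi⟩ := exists_cubic s 1 hs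
  refine Goal.of_sim (sim_pp (f := 1 - l) (g := (1 - l) + (1 - l ^ 2) * z₂ / l)
    (sub_ne_zero.2 (Ne.symm hl))) ?_
  refine ⟨yy s z₂ 1, by rwa [det_yy], ?_, by rwa [charpoly_yy], by rw [det_yy]; exact ⟨s, rfl⟩⟩
  rw [charpoly_yy, charpoly_three]
  have e1 : (pp l d (1 - l) ((1 - l) + (1 - l ^ 2) * z₂ / l) * yy s z₂ 1).trace = 1 := by
    simp [pp, yy, trace_fin_three, Matrix.mul_apply, Fin.sum_univ_three]
  have e2' : e2 (pp l d (1 - l) ((1 - l) + (1 - l ^ 2) * z₂ / l) * yy s z₂ 1) = - z₂ := by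
    simp [pp, yy, e2, Matrix.mul_apply, Fin.sum_univ_three]
    field_simp
    ring
  have e3 : (pp l d (1 - l) ((1 - l) + (1 - l ^ 2) * z₂ / l) * yy s z₂ 1).det = s := by
    rw [det_mul, det_yy]
    have : (pp l d (1 - l) ((1 - l) + (1 - l ^ 2) * z₂ / l)).det = 1 := by
      rw [← hdet]
      simp [pp, det_fin_three]
      ring
    rw [this, one_mul]
  rw [e1, e2', e3]
  simp only [map_neg, map_one]
  ring

/-- **The `GL_3` lemma.** -/
theorem main [Finite F] (hF : 3 ≤ Nat.card F) {A : Matrix (Fin 3) (Fin 3) F} (hdet : A.det = 1)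
    (hns : ∀ c : F, A ≠ c • (1 : Matrix (Fin 3) (Fin 3) F)) (hr : 2 ≤ (A - 1).rank) {s : F}
    (hs : s ≠ 0) : Goal A s := by
  rcases cyclic_or_quadratic A with h | ⟨α, β, h⟩
  · exact goal_of_cyclic hF hdet hs h
  · obtain ⟨l, d, P, hP, e⟩ := sim_nn_of_quadratic hns h
    have hu : IsUnit P.det := hP.isUnit
    have hd : l ^ 2 * (l + d) = 1 := by
      have h1 := congrArg Matrix.det e
      rw [det_mul, det_mul, hdet, one_mul] at h1
      have h2 : (nn l d).det = 1 := mul_left_cancel₀ hP (by rw [← h1, mul_one])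
      rw [← h2]
      simp [nn, det_fin_three]
      ring
    have hl : l ≠ 1 := by
      rintro rfl
      have h1 : (A - 1) * P = P * (nn 1 d - 1) := by
        rw [Matrix.sub_mul, Matrix.mul_sub, e, Matrix.one_mul, Matrix.mul_one]
      have h2 : (A - 1).rank = (nn 1 d - 1 : Matrix (Fin 3) (Fin 3) F).rank := by
        rw [← rank_mul_eq_left_of_isUnit_det P (A - 1) hu, h1, rank_mul_eq_right_of_isUnit_det _ _ hu]
      have h3 : (nn 1 d - 1 : Matrix (Fin 3) (Fin 3) F) = vecMulVec ![1, 0, 0] ![d, 1, 0] := by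
        ext i j
        fin_cases i <;> fin_cases j <;> simp [nn, vecMulVec]
      have h4 := rank_vecMulVec_le (![1, 0, 0] : Fin 3 → F) ![d, 1, 0]
      rw [h2, h3] at hr
      omega
    exact Goal.of_sim ⟨P, hP, e⟩ (goal_nn hs hd hl)

end Cfsg.Agent.H140.OreO.GL3
end

-- part: H140/OreO/BaseT
section
/-!
# The base cases from a corner in `SL_3`, and splitting off `-1`
-/

set_option autoImplicit false
set_option linter.unusedSectionVars false
set_option linter.unusedSimpArgs false
set_option linter.unusedVariables false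

namespace Cfsg.Agent.H140.OreO

open Polynomial Matrix QuadraticMap Cfsg.Agent.LieClassical.OrthCore
  Cfsg.Agent.LieClassical.OrthTrans Cfsg.Agent.LieClassical.OrthFinite
open scoped commutatorElement

universe u v

/-! ### The `GL_3` lemma, scalar case included -/

namespace GL3

variable {F : Type*} [Field F]

theorem main' [Finite F] (hF : 3 ≤ Nat.card F) {A : Matrix (Fin 3) (Fin 3) F} (hdet : A.det = 1)
    (hr : 2 ≤ (A - 1).rank) {s : F} (hs : s ≠ 0) : Goal A s := by
  by_cases hns : ∀ c : F, A ≠ c • (1 : Matrix (Fin 3) (Fin 3) F)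
  · exact main hF hdet hns hr hs
  push Not at hns
  obtain ⟨c, rfl⟩ := hns
  have hc3 : c ^ 3 = 1 := by
    rw [det_smul, det_one, mul_one, Fintype.card_fin] at hdet
    exact hdet
  have hc1 : c ≠ 1 := by
    rintro rfl
    rw [one_smul, sub_self, rank_zero] at hr
    omega
  have hc0 : c ≠ 0 := by rintro rfl; simp at hc3
  -- a noncube in the class of `s`
  have hnc : ∃ u : F, ∀ x : F, x ^ 3 ≠ u := by
    by_contra hcon
    push Not at hcon
    have hsurj : Function.Surjective (fun x : F => x ^ 3) := hcon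
    have hinj := (Finite.injective_iff_surjective.2 hsurj)
    exact hc1 (hinj (by simpa using hc3))
  obtain ⟨u, hu⟩ := hnc
  have hu0 : u ≠ 0 := fun h => hu 0 (by rw [h]; simp)
  obtain ⟨z, hz0, hzs, hz⟩ : ∃ z : F, z ≠ 0 ∧ IsSquare (z * s) ∧ ∀ x : F, x ^ 3 ≠ z := by
    by_cases h : ∃ r, r ^ 3 = s
    · obtain ⟨r, rfl⟩ := h
      have hr0 : r ≠ 0 := by rintro rfl; simp at hs
      refine ⟨r ^ 3 * u ^ 2, mul_ne_zero hs (pow_ne_zero 2 hu0), ⟨r ^ 3 * u, by ring⟩, ?_⟩
      intro x hx
      have hx0 : x ≠ 0 := by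
        rintro rfl
        rw [zero_pow (by norm_num)] at hx
        exact mul_ne_zero hs (pow_ne_zero 2 hu0) hx.symm
      apply hu (u * r / x)
      rw [div_pow, hx]
      field_simp
    · push Not at h
      exact ⟨s, hs, ⟨s, rfl⟩, h⟩
  have hirr : Irreducible (X ^ 3 - C (0 : F) * X ^ 2 - C 0 * X - C z : F[X]) := by
    have e : (X ^ 3 - C (0 : F) * X ^ 2 - C 0 * X - C z : F[X]) = X ^ 3 - C z := by simp
    have hdeg : (X ^ 3 - C z : F[X]).natDegree = 3 := natDegree_X_pow_sub_C
    rw [e, Polynomial.irreducible_iff_roots_eq_zero_of_degree_le_three (by rw [hdeg]; norm_num)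
      (by rw [hdeg]), Multiset.eq_zero_iff_forall_notMem]
    intro r hr'
    have h1 := (mem_roots'.1 hr').2
    rw [IsRoot.def, eval_sub, eval_pow, eval_X, eval_C, sub_eq_zero] at h1
    exact hz r h1
  refine ⟨yy z 0 0, by rwa [det_yy], ?_, by rwa [charpoly_yy], by rwa [det_yy]⟩
  rw [charpoly_yy, charpoly_three, smul_mul, Matrix.one_mul, det_smul, det_yy, Fintype.card_fin, hc3]
  simp [yy, e2, trace_fin_three]

end GL3

variable {F : Type u} [Field F]

section

variable {V : Type*} [AddCommGroup V] [Module F V]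

theorem un_one {c : F[X]} (h : c.eval 1 ≠ 0) : Un ((1 : V ≃ₗ[F] V) : Module.End F V) c := by
  have e : aeval ((1 : V ≃ₗ[F] V) : Module.End F V) c = algebraMap F (Module.End F V) (c.eval 1) := by
    have h1 : ((1 : V ≃ₗ[F] V) : Module.End F V) = algebraMap F (Module.End F V) 1 := by
      rw [map_one]; rfl
    rw [h1, aeval_algebraMap_apply]
    rfl
  rw [Un, e]
  exact h.isUnit.map _

theorem eval_ne_zero {c : F[X]} (hc : Irreducible c) (hd : 2 ≤ c.natDegree) (x : F) :
    c.eval x ≠ 0 := by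
  intro hx
  have h1 : X - C x ∣ c := dvd_iff_isRoot.2 hx
  obtain ⟨k, hk⟩ := h1
  rcases hc.isUnit_or_isUnit hk with h2 | h2
  · have := natDegree_eq_zero_of_isUnit h2
    rw [natDegree_X_sub_C] at this
    omega
  · have h3 := natDegree_eq_zero_of_isUnit h2
    have h4 : c.natDegree ≤ 1 := by
      rw [hk]
      refine le_trans natDegree_mul_le ?_
      rw [natDegree_X_sub_C, h3]
    omega

theorem out_base [Finite F] (hF : 3 ≤ Nat.card F) [FiniteDimensional F V] {N : ℕ} {Y : GL (Fin 3) F}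
    (hY : Irreducible (Y : Matrix (Fin 3) (Fin 3) F).charpoly) :
    Out N (lev Y (1 : V ≃ₗ[F] V)) := by
  have hd : (Y : Matrix (Fin 3) (Fin 3) F).charpoly.natDegree = 3 := by
    rw [charpoly_natDegree_eq_dim, Fintype.card_fin]
  have h0 := charpoly_coeff_zero_ne Y
  refine ⟨fun c h1 h2 _ _ => ?_, fun _ => ?_, fun _ c h1 h2 _ => ?_, fun _ β hβ => ?_⟩
  · exact un_lev_of_deg h1 hY h0 (by omega) (un_one (eval_ne_zero h1 (by omega) 1))
  · obtain ⟨c, hc, hsq, c1, c2, c3, c4⟩ := exists_good_cubic_sq F hF _ hY hd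
    have hc0 : c.coeff 0 ≠ 0 := coeff_zero_ne hc.irr (by rw [hc.deg]; norm_num)
    have hcr := irreducible_rev hc.irr hc0
    refine ⟨c, hc, hsq, ?_, ?_⟩
    · exact un_lev (un_X c1) (un_one (eval_ne_zero hc.irr (by rw [hc.deg]; norm_num) 1)) (un_tiX c2)
    · exact un_lev (un_X c3) (un_one (eval_ne_zero hcr (by rw [natDegree_rev hc0, hc.deg]; norm_num) 1))
        (un_tiX c4)
  · exact un_lev_of_deg h1 hY h0 (by omega) (un_one (eval_ne_zero h1 (by omega) 1))
  · refine un_lev_of_deg (irreducible_X_sub_C β) hY h0 (by rw [natDegree_X_sub_C]; norm_num)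
      (un_one ?_)
    rw [eval_sub, eval_X, eval_C]
    exact sub_ne_zero.2 (Ne.symm hβ.2.1)

end

/-- The base condition. -/
def BC3 {V : Type*} [AddCommGroup V] [Module F V] (Q : QuadraticForm F V) (g : V → V) : Prop :=
  ∃ w w' : Fin 3 → V, Frame Q w w' ∧ SchurOne Q g w w' ∧ (corner Q g w w').det = 1 ∧
    (corner Q g w w' = 1 ∨ 2 ≤ (corner Q g w w' - 1).rank)

theorem goal_one [Finite F] {s : F} (hs : s ≠ 0) :
    GL3.Goal (1 : Matrix (Fin 3) (Fin 3) F) s := by
  obtain ⟨z₂, hi⟩ := GL3.exists_cubic s 0 hs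
  exact ⟨GL3.yy s z₂ 0, by rwa [GL3.det_yy], by rw [Matrix.one_mul], by rwa [GL3.charpoly_yy],
    by rw [GL3.det_yy]; exact ⟨s, rfl⟩⟩

/-- **The base.** -/
theorem base_T [Finite F] (hF : 3 ≤ Nat.card F) {N : ℕ} (hN : 5 ≤ N) {V : Type v} [AddCommGroup V]
    [Module F V] [FiniteDimensional F V] {Q : QuadraticForm F V} (hQ : Nondeg Q)
    (hd : Module.finrank F V = N) {g : V ≃ₗ[F] V} (hg : g ∈ O Q) (hB : BC3 Q g) (s : Fˣ) :
    Sol Q g s (Out N) := by
  obtain ⟨w, w', hf, hS, hdet, hA⟩ := hB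
  have he : ∀ v, MQ 3 (res Q w w') (hf.toModel v) = Q v := hf.MQ_toModel
  have hQ1 := hf.nondeg_res hQ
  have hG : Good (MQ 3 (res Q w w')) := by
    apply good_of_finite (nondeg_MQ hQ1)
    rw [← hf.toModel.finrank_eq, hd]; omega
  obtain ⟨Ym, hY0, hYc, hYi, hYs⟩ : GL3.Goal (corner Q g w w') (s : F) := by
    rcases hA with h | h
    · rw [h]; exact goal_one s.ne_zero
    · exact GL3.main' hF hdet h s.ne_zero
  let A : GL (Fin 3) F := Matrix.GeneralLinearGroup.mkOfDetNeZero (corner Q g w w')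
    (by rw [hdet]; exact one_ne_zero)
  let Y : GL (Fin 3) F := Matrix.GeneralLinearGroup.mkOfDetNeZero Ym hY0
  have hAc : (A : Matrix (Fin 3) (Fin 3) F) = corner Q g w w' := rfl
  have hYm : (Y : Matrix (Fin 3) (Fin 3) F) = Ym := rfl
  have hXY : ((A * Y : GL (Fin 3) F) : Matrix (Fin 3) (Fin 3) F).charpoly =
      (Y : Matrix (Fin 3) (Fin 3) F).charpoly := by
    rw [Units.val_mul, hAc, hYm, hYc]
  obtain ⟨K, hK, hKdet⟩ := exists_conj_matrix (A * Y) Y hXY (by rw [hYm]; exact hYi) 1 one_ne_zero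
  obtain ⟨r, hr⟩ := hYs
  have hr0 : r ≠ 0 := by
    rintro rfl
    rw [mul_zero] at hr
    exact mul_ne_zero hY0 s.ne_zero hr
  have hYd : (Y : Matrix (Fin 3) (Fin 3) F).charpoly.natDegree = 3 := by
    rw [charpoly_natDegree_eq_dim, Fintype.card_fin]
  have hYi' : Irreducible (Y : Matrix (Fin 3) (Fin 3) F).charpoly := by rw [hYm]; exact hYi
  have hYm' : (Y : Matrix (Fin 3) (Fin 3) F).charpoly.Monic := charpoly_monic _
  have h0 := charpoly_coeff_zero_ne Y
  have hcop : ∀ X : GL (Fin 3) F, (X : Matrix (Fin 3) (Fin 3) F).charpoly =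
      (Y : Matrix (Fin 3) (Fin 3) F).charpoly → Cop X (1 : perp Q w w' ≃ₗ[F] perp Q w w') := by
    intro X hX
    apply cop_of_charpoly
    · rw [hX]; exact un_one (eval_ne_zero hYi' (by omega) 1)
    · rw [hX]
      exact un_one (eval_ne_zero (irreducible_rev hYi' h0) (by rw [natDegree_rev h0]; omega) 1)
    · rw [hX]; exact cubic_coprime_rev hYi' hYm' hYd
  refine Sol.of_autE he (R' := Out N) ?_ (fun y h => h.of_autE)
  have key := base hG (by norm_num) ((autE_mem_O he).2 hg) (A := A) (Y := Y) (K := K)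
    (s := Units.mk0 _ ((Matrix.isUnit_iff_isUnit_det _).1 Y.isUnit).ne_zero)
    (fun a => corner_model hf g a) (schur_model hf hS)
    (by rw [← hK, mul_inv_cancel_right]) hKdet rfl (hcop _ (by rw [← hK]; exact hXY)) (hcop _ rfl)
  obtain ⟨k, hk, y, hy, e, v, rfl⟩ := key
  refine ⟨k, hk, _, ?_, e, (out_base hF hYi').conj v⟩
  -- adjust the class
  have hy2 := hy.sq hG (t := s * (Units.mk0 r hr0)⁻¹)
  convert hy2 using 1
  apply Units.ext
  simp only [Units.val_mul, Units.val_inv_eq_inv_val, Units.val_mk0]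
  rw [hYm]
  have hs0 := s.ne_zero
  have : Ym.det = r * r * (s : F)⁻¹ := by rw [← hr]; field_simp
  rw [this]
  field_simp

end Cfsg.Agent.H140.OreO
end
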