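import Mathlib
import Cfsg.Agent.H140.OreO.RecC
import Cfsg.Agent.H141.Red43
import Cfsg.Agent.H141.SpinOdd
import Cfsg.Agent.H953.Rcf
import Cfsg.Agent.H140.OreO.PolyB
import Cfsg.Agent.H140.OreO.GLConj
import Cfsg.Agent.H141.SpinLev
import Cfsg.Agent.H434.CornMain
import Cfsg.Agent.H140.OreO.BaseT
import Cfsg.Agent.LieClassical.OrthFinite
set_option linter.all false

-- part: H140/OreO/NegEight
section
/-!
# The element `-1` in dimension `8`
-/

set_option autoImplicit false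
set_option linter.unusedSectionVars false
set_option linter.unusedSimpArgs false
set_option linter.unusedVariables false

namespace Cfsg.Agent.H140.OreO

open Polynomial Matrix QuadraticMap Cfsg.Agent.LieClassical.OrthCore
  Cfsg.Agent.LieClassical.OrthTrans Cfsg.Agent.LieClassical.OrthFinite
open scoped commutatorElement

universe u v

variable {F : Type u} [Field F]

/-! ### Biquadratic polynomials -/

/-- `t⁴ - τ t² + δ`. -/
noncomputable def BP (τ δ : F) : F[X] := X ^ 4 - C τ * X ^ 2 + C δ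

theorem BP_coeff_four (τ δ : F) : (BP τ δ).coeff 4 = 1 := by simp [BP, coeff_X, coeff_C]
theorem BP_coeff_three (τ δ : F) : (BP τ δ).coeff 3 = 0 := by simp [BP, coeff_X, coeff_C]
theorem BP_coeff_two (τ δ : F) : (BP τ δ).coeff 2 = -τ := by simp [BP, coeff_X, coeff_C]
theorem BP_coeff_one (τ δ : F) : (BP τ δ).coeff 1 = 0 := by simp [BP, coeff_X, coeff_C]
theorem BP_coeff_zero (τ δ : F) : (BP τ δ).coeff 0 = δ := by simp [BP, coeff_X, coeff_C]

theorem BP_natDegree (τ δ : F) : (BP τ δ).natDegree = 4 := by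
  rw [BP]
  compute_degree!

theorem BP_ne (τ δ : F) : BP τ δ ≠ 0 := by
  intro h
  have := BP_coeff_four τ δ
  rw [h] at this
  simp at this

theorem BP_eval (τ δ x : F) : (BP τ δ).eval x = x ^ 4 - τ * x ^ 2 + δ := by simp [BP]

/-- The conditions on the coefficients. -/
structure BQ (τ δ : F) : Prop where
  two : (2 : F) ≠ 0
  ne : δ ≠ 0
  sq : ¬ IsSquare δ ∨ (δ = 1 ∧ τ = -2)
  one : 1 - τ + δ ≠ 0

theorem BQ.inv {τ δ : F} (h : BQ τ δ) : BQ (τ * δ⁻¹) δ⁻¹ where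
  two := h.two
  ne := inv_ne_zero h.ne
  sq := by
    rcases h.sq with h1 | ⟨rfl, rfl⟩
    · left
      rintro ⟨r, hr⟩
      apply h1
      refine ⟨r⁻¹, ?_⟩
      rw [← _root_.mul_inv, ← hr, inv_inv]
    · right; simp
  one := by
    have h1 := h.ne
    have : 1 - τ * δ⁻¹ + δ⁻¹ = (1 - τ + δ) * δ⁻¹ := by field_simp; ring
    rw [this]
    exact mul_ne_zero h.one (inv_ne_zero h1)

theorem BQ.coprime_four {τ δ : F} (h : BQ τ δ) {c : F[X]} (hc : Irreducible c)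
    (hd : 3 < c.natDegree) (hn : NB c) : IsCoprime c (BP τ δ) := by
  rw [hc.coprime_iff_not_dvd]
  rintro ⟨d, hcd⟩
  have hd0 : d ≠ 0 := by
    rintro rfl
    rw [mul_zero] at hcd
    exact BP_ne _ _ hcd
  have h1 : c.natDegree + d.natDegree = 4 := by
    rw [← natDegree_mul hc.ne_zero hd0, ← hcd, BP_natDegree]
  have h2 : d.natDegree = 0 := by omega
  obtain ⟨k, rfl⟩ := natDegree_eq_zero.1 h2
  have hk : k ≠ 0 := by rintro rfl; simp at hd0
  rcases hn h.two (by omega) with h3 | h3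
  · apply h3
    have := congrArg (fun p => p.coeff 1) hcd
    simp only [BP_coeff_one, coeff_mul_C] at this
    exact (mul_eq_zero.1 this.symm).resolve_right hk
  · apply h3
    have := congrArg (fun p => p.coeff 3) hcd
    simp only [BP_coeff_three, coeff_mul_C] at this
    exact (mul_eq_zero.1 this.symm).resolve_right hk

theorem BQ.coprime_three {τ δ : F} (h : BQ τ δ) {c : F[X]} (hc : Irreducible c)
    (hd : c.natDegree = 3) : IsCoprime c (BP τ δ) := by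
  rw [hc.coprime_iff_not_dvd]
  rintro ⟨d, hcd⟩
  have hd0 : d ≠ 0 := by
    rintro rfl
    rw [mul_zero] at hcd
    exact BP_ne _ _ hcd
  have h1 : c.natDegree + d.natDegree = 4 := by
    rw [← natDegree_mul hc.ne_zero hd0, ← hcd, BP_natDegree]
  obtain ⟨r, hr⟩ := exists_root_of_degree_eq_one
    (degree_eq_iff_natDegree_eq_of_pos (by norm_num) |>.2 (show d.natDegree = 1 by omega))
  have h3 : (BP τ δ).eval r = 0 := by rw [hcd, eval_mul, hr, mul_zero]
  have hr0 : r ≠ 0 := by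
    rintro rfl
    rw [BP_eval] at h3
    apply h.ne
    linear_combination h3
  have h4 : (BP τ δ).eval (-r) = 0 := by
    rw [BP_eval] at h3 ⊢
    linear_combination h3
  rw [hcd, eval_mul] at h4
  rcases mul_eq_zero.1 h4 with h5 | h5
  · exact eval_ne_zero hc (by omega) _ h5
  · -- both `r` and `-r` are roots of the linear `d`
    have h6 : X - C r ∣ d := dvd_iff_isRoot.2 hr
    obtain ⟨e, he⟩ := h6
    have he0 : e ≠ 0 := by rintro rfl; rw [mul_zero] at he; exact hd0 he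
    have h7 : e.natDegree = 0 := by
      have := natDegree_mul (X_sub_C_ne_zero r) he0
      rw [← he, natDegree_X_sub_C] at this
      omega
    obtain ⟨k, rfl⟩ := natDegree_eq_zero.1 h7
    have hk : k ≠ 0 := by rintro rfl; simp at he0
    rw [he, eval_mul, eval_sub, eval_X, eval_C, eval_C] at h5
    have h8 := (mul_eq_zero.1 h5).resolve_right hk
    apply mul_ne_zero h.two hr0
    linear_combination -h8

theorem BQ.coprime_two {τ δ : F} (h : BQ τ δ) {c : F[X]} (hc : Irreducible c)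
    (hd : c.natDegree = 2) (hc1 : c.coeff 1 ≠ 0) : IsCoprime c (BP τ δ) := by
  rw [hc.coprime_iff_not_dvd]
  intro hdvd
  have hcq : c = C (c.coeff 2) * X ^ 2 + C (c.coeff 1) * X + C (c.coeff 0) :=
    eq_quadratic_of_degree_le_two (degree_le_of_natDegree_le (n := 2) (by omega))
  have hc2 : c.coeff 2 ≠ 0 := by
    have := leadingCoeff_ne_zero.2 hc.ne_zero
    rwa [leadingCoeff, hd] at this
  rcases h.sq with h1 | ⟨rfl, rfl⟩
  · obtain ⟨d, hcd⟩ := hdvd
    have hd0 : d ≠ 0 := by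
      rintro rfl
      rw [mul_zero] at hcd
      exact BP_ne _ _ hcd
    have h2 : c.natDegree + d.natDegree = 4 := by
      rw [← natDegree_mul hc.ne_zero hd0, ← hcd, BP_natDegree]
    have hdq : d = C (d.coeff 2) * X ^ 2 + C (d.coeff 1) * X + C (d.coeff 0) :=
      eq_quadratic_of_degree_le_two (degree_le_of_natDegree_le (n := 2) (by omega))
    set a := c.coeff 2
    set b := c.coeff 1
    set e := c.coeff 0
    set d2 := d.coeff 2
    set d1 := d.coeff 1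
    set d0 := d.coeff 0
    have hprod : c * d = C (a * d2) * X ^ 4 + C (a * d1 + b * d2) * X ^ 3 +
        C (a * d0 + b * d1 + e * d2) * X ^ 2 + C (b * d0 + e * d1) * X + C (e * d0) := by
      rw [hcq, hdq]
      simp only [map_mul, map_add]
      ring
    rw [← hcd] at hprod
    have c4 := congrArg (fun p => p.coeff 4) hprod
    have c3 := congrArg (fun p => p.coeff 3) hprod
    have c1 := congrArg (fun p => p.coeff 1) hprod
    have c0 := congrArg (fun p => p.coeff 0) hprod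
    simp only [BP_coeff_four, BP_coeff_three, BP_coeff_one, BP_coeff_zero] at c4 c3 c1 c0
    simp [coeff_X, coeff_C, -map_mul, -map_add] at c4 c3 c1 c0
    apply h1
    refine ⟨e * a⁻¹, ?_⟩
    have h5 : a * d0 = e * d2 := by
      apply mul_left_cancel₀ hc1
      linear_combination a * (-c1) + e * c3
    have h6 : a * a * δ = e * e := by
      rw [c0]
      linear_combination (e * a) * h5 - e * e * c4
    field_simp
    linear_combination h6
  · have hBP : BP (-2 : F) 1 = (X ^ 2 + 1) ^ 2 := by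
      rw [BP]
      simp only [map_neg, map_ofNat, map_one]
      ring
    rw [hBP] at hdvd
    obtain ⟨d, hcd⟩ := hc.prime.dvd_of_dvd_pow hdvd
    have hne : (X ^ 2 + 1 : F[X]) ≠ 0 := by
      intro h0
      have := congrArg (fun p => p.coeff 2) h0
      simp [coeff_X, coeff_one] at this
    have hd0 : d ≠ 0 := by
      rintro rfl
      rw [mul_zero] at hcd
      exact hne hcd
    have h2 : c.natDegree + d.natDegree = 2 := by
      rw [← natDegree_mul hc.ne_zero hd0, ← hcd]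
      compute_degree!
    have h3 : d.natDegree = 0 := by omega
    obtain ⟨k, rfl⟩ := natDegree_eq_zero.1 h3
    have hk : k ≠ 0 := by rintro rfl; simp at hd0
    apply hc1
    have := congrArg (fun p => p.coeff 1) hcd
    simp only [coeff_mul_C, coeff_add, coeff_X_pow, coeff_one] at this
    simp at this
    exact this.resolve_right hk

theorem BQ.coprime_neg_one {τ δ : F} (h : BQ τ δ) : IsCoprime (X - C (-1)) (BP τ δ) := by
  rw [(irreducible_X_sub_C (-1 : F)).coprime_iff_not_dvd, dvd_iff_isRoot, IsRoot.def, BP_eval]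
  intro h1
  apply h.one
  linear_combination h1

/-! ### The matrix -/

/-- The companion matrix of `t⁴ - τ t² + δ`. -/
def cmx (τ δ : F) : Matrix (Fin 4) (Fin 4) F := !![0, 0, 0, -δ; 1, 0, 0, 0; 0, 1, 0, τ; 0, 0, 1, 0]

theorem cmx_sq (τ δ : F) : cmx τ δ * cmx τ δ =
    !![0, 0, -δ, 0; 0, 0, 0, -δ; 1, 0, τ, 0; 0, 1, 0, τ] := by
  ext i j
  fin_cases i <;> fin_cases j <;> simp [cmx, Matrix.mul_apply, Fin.sum_univ_four]

theorem cmx_four (τ δ : F) : cmx τ δ * cmx τ δ * (cmx τ δ * cmx τ δ) =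
    τ • (cmx τ δ * cmx τ δ) - δ • (1 : Matrix (Fin 4) (Fin 4) F) := by
  rw [cmx_sq]
  ext i j
  fin_cases i <;> fin_cases j <;> simp [Matrix.mul_apply, Fin.sum_univ_four] <;> ring

theorem det_cmx (τ δ : F) : (cmx τ δ).det = δ := by
  simp [cmx, Matrix.det_succ_row_zero, Fin.sum_univ_succ, Fin.succAbove]
  ring

/-- `cmx` in `GL_4`. -/
noncomputable def cmG {τ δ : F} (h : δ ≠ 0) : GL (Fin 4) F :=
  Matrix.GeneralLinearGroup.mkOfDetNeZero (cmx τ δ) (by rwa [det_cmx])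

theorem aeval_BP {A : Type*} [Ring A] [Algebra F A] (x : A) (τ δ : F) :
    aeval x (BP τ δ) = x * x * (x * x) - τ • (x * x) + δ • (1 : A) := by
  rw [BP]
  simp only [map_add, map_sub, map_mul, map_pow, aeval_X, aeval_C, Algebra.algebraMap_eq_smul_one,
    smul_mul_assoc, one_mul]
  congr 2
  · rw [pow_succ, pow_succ, pow_two]; simp only [mul_assoc]
  · rw [pow_two]

theorem aeval_cmG {τ δ : F} (h : δ ≠ 0) :
    aeval ((cmG (τ := τ) h : GL (Fin 4) F) : Matrix (Fin 4) (Fin 4) F) (BP τ δ) = 0 := by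
  rw [aeval_BP]
  show cmx τ δ * cmx τ δ * (cmx τ δ * cmx τ δ) - τ • (cmx τ δ * cmx τ δ) + δ • 1 = 0
  rw [cmx_four]
  abel

theorem aeval_ti_cmG {τ δ : F} (h : δ ≠ 0) :
    aeval (ti (cmG (τ := τ) h) : Matrix (Fin 4) (Fin 4) F) (BP (τ * δ⁻¹) δ⁻¹) = 0 := by
  rw [aeval_BP]
  set B := (ti (cmG (τ := τ) h) : Matrix (Fin 4) (Fin 4) F) with hB
  have h1 : B * (cmx τ δ)ᵀ = 1 := by
    have : (ti (cmG (τ := τ) h) : Matrix (Fin 4) (Fin 4) F) *
      (((ti (cmG (τ := τ) h))⁻¹ : GL (Fin 4) F) : Matrix (Fin 4) (Fin 4) F) = 1 := by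
      rw [← Units.val_mul, mul_inv_cancel]; rfl
    exact this
  have h2 : (cmx τ δ)ᵀ * (cmx τ δ)ᵀ * ((cmx τ δ)ᵀ * (cmx τ δ)ᵀ) =
      τ • ((cmx τ δ)ᵀ * (cmx τ δ)ᵀ) - δ • 1 := by
    have := congrArg transpose (cmx_four τ δ)
    simpa only [transpose_mul, transpose_sub, transpose_smul, transpose_one] using this
  set A := (cmx τ δ)ᵀ
  have h3 : B * B * (A * A) = 1 := by
    calc B * B * (A * A) = B * (B * A) * A := by simp only [mul_assoc]
      _ = 1 := by rw [h1, mul_one, h1]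
  have h4 : B * B * (B * B) * (A * A * (A * A)) = 1 := by
    calc B * B * (B * B) * (A * A * (A * A)) = B * B * (B * B * (A * A)) * (A * A) := by
          simp only [mul_assoc]
      _ = 1 := by rw [h3, mul_one, h3]
  rw [h2, mul_sub, mul_smul_comm, mul_smul_comm, mul_one, mul_assoc, h3, mul_one] at h4
  -- `τ B² - δ B⁴ = 1`
  have h5 : B * B * (B * B) = (τ * δ⁻¹) • (B * B) - δ⁻¹ • (1 : Matrix (Fin 4) (Fin 4) F) := by
    rw [← h4, smul_sub, smul_smul, smul_smul, inv_mul_cancel₀ h, one_smul, mul_comm τ]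
    simp
  rw [h5]
  abel

/-- Output. -/
theorem out_cm [Finite F] (hF : 3 ≤ Nat.card F) {V : Type*} [AddCommGroup V] [Module F V]
    [FiniteDimensional F V] (hV : Subsingleton V) {τ δ : F} (h : BQ τ δ) :
    Out 8 (lev (cmG (τ := τ) h.ne) (1 : V ≃ₗ[F] V)) := by
  have hsub : Subsingleton (Module.End F V) := ⟨fun a b => LinearMap.ext fun v => Subsingleton.elim _ _⟩
  have key : ∀ c : F[X], IsCoprime c (BP τ δ) → IsCoprime c (BP (τ * δ⁻¹) δ⁻¹) →
      Un ((lev (cmG (τ := τ) h.ne) (1 : V ≃ₗ[F] V) : M F V 4 ≃ₗ[F] M F V 4) :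
        Module.End F (M F V 4)) c := by
    intro c h1 h2
    exact un_lev (Un.of_coprime_mat (aeval_cmG h.ne) h1) (isUnit_of_subsingleton _)
      (Un.of_coprime_mat (aeval_ti_cmG h.ne) h2)
  have hi := h.inv
  refine ⟨fun c h1 h2 h3 h4 => ?_, fun _ => ?_, fun _ c h1 h2 h3 => ?_, fun _ β hβ => ?_⟩
  · exact key c (h.coprime_four h1 h2 h4) (hi.coprime_four h1 h2 h4)
  · obtain ⟨p, hp⟩ := exists_good F 3 (by norm_num) (by
      calc 5 ≤ 3 ^ 3 := by norm_num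
        _ ≤ Nat.card F ^ 3 := Nat.pow_le_pow_left hF 3)
    obtain ⟨c, hc, hsq, -⟩ := exists_good_cubic_sq F hF p hp.irr hp.deg
    have hc0 : c.coeff 0 ≠ 0 := coeff_zero_ne hc.irr (by rw [hc.deg]; norm_num)
    have hcr := irreducible_rev hc.irr hc0
    have hcd : c.reverse.natDegree = 3 := by rw [natDegree_rev hc0, hc.deg]
    exact ⟨c, hc, hsq, key c (h.coprime_three hc.irr hc.deg) (hi.coprime_three hc.irr hc.deg),
      key _ (h.coprime_three hcr hcd) (hi.coprime_three hcr hcd)⟩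
  · exact key c (h.coprime_two h1 h2 h3) (hi.coprime_two h1 h2 h3)
  · rw [hβ.2.2 h.two]
    exact key _ h.coprime_neg_one hi.coprime_neg_one

theorem exists_BQ [Finite F] (h2 : (2 : F) ≠ 0) (s : Fˣ) :
    ∃ (τ δ : F) (h : BQ τ δ) (a : Fˣ), (s : F) = δ * (a * a) := by
  by_cases hs : IsSquare (s : F)
  · obtain ⟨r, hr⟩ := hs
    have hr0 : r ≠ 0 := by rintro rfl; rw [mul_zero] at hr; exact s.ne_zero hr
    refine ⟨-2, 1, ⟨h2, one_ne_zero, Or.inr ⟨rfl, rfl⟩, ?_⟩, Units.mk0 r hr0, by rw [hr]; simp⟩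
    have : (1 : F) - -2 + 1 = 2 * 2 := by ring
    rw [this]
    exact mul_ne_zero h2 h2
  · by_cases h1 : 1 + (s : F) = 0
    · refine ⟨1, s, ⟨h2, s.ne_zero, Or.inl hs, ?_⟩, 1, by simp⟩
      have : (1 : F) - 1 + s = s := by ring
      rw [this]
      exact s.ne_zero
    · exact ⟨0, s, ⟨h2, s.ne_zero, Or.inl hs, by rwa [sub_zero]⟩, 1, by simp⟩

/-- The matrix `diag(1, -1, 1, -1)`. -/
def kmx : GL (Fin 4) F where
  val := diagonal ![1, -1, 1, -1]
  inv := diagonal ![1, -1, 1, -1]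
  val_inv := by
    rw [diagonal_mul_diagonal, ← diagonal_one]
    congr 1
    ext i
    fin_cases i <;> simp
  inv_val := by
    rw [diagonal_mul_diagonal, ← diagonal_one]
    congr 1
    ext i
    fin_cases i <;> simp

theorem neg_eight [Finite F] (hF : 3 ≤ Nat.card F) (h2 : (2 : F) ≠ 0) {V : Type v}
    [AddCommGroup V] [Module F V] [FiniteDimensional F V] {Q : QuadraticForm F V} (hQ : Nondeg Q)
    (hd : Module.finrank F V = 8) {g : V ≃ₗ[F] V} (hg : ∀ v, g v = - v)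
    (hI : ∃ w w' : Fin 4 → V, Frame Q w w') (s : Fˣ) : Sol Q g s (Out 8) := by
  obtain ⟨w, w', hf⟩ := hI
  have he : ∀ v, MQ 4 (res Q w w') (hf.toModel v) = Q v := hf.MQ_toModel
  have hV1 : Module.finrank F (perp Q w w') = 0 := by
    have := hf.finrank_perp; omega
  have hsub : Subsingleton (perp Q w w') := Module.finrank_zero_iff.1 hV1
  have hQ1 := hf.nondeg_res hQ
  have hG : Good (MQ 4 (res Q w w')) := by
    apply good_of_finite (nondeg_MQ hQ1)
    rw [← hf.toModel.finrank_eq, hd]; omega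
  refine Sol.of_autE he (R' := Out 8) ?_ (fun y h => h.of_autE)
  obtain ⟨τ, δ, hB, a, ha⟩ := exists_BQ h2 s
  have hKY : (kmx : GL (Fin 4) F) * cmG (τ := τ) hB.ne = -1 * cmG (τ := τ) hB.ne * kmx := by
    apply Units.ext
    rw [Units.val_mul, Units.val_mul, Units.val_mul]
    show diagonal ![1, -1, 1, -1] * cmx τ δ = -1 * cmx τ δ * diagonal ![1, -1, 1, -1]
    rw [neg_mul, one_mul]
    ext i j
    rw [diagonal_mul, mul_diagonal]
    fin_cases i <;> fin_cases j <;> simp [cmx]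
  have hKd : ((kmx : GL (Fin 4) F) : Matrix (Fin 4) (Fin 4) F).det = 1 := by
    show (diagonal ![(1 : F), -1, 1, -1]).det = 1
    rw [det_diagonal, Fin.prod_univ_four]
    simp
  have hYd : ((cmG (τ := τ) hB.ne : GL (Fin 4) F) : Matrix (Fin 4) (Fin 4) F).det =
      ((Units.mk0 δ hB.ne : Fˣ) : F) := det_cmx τ δ
  refine ⟨lev kmx 1, lev_det_one_mem hG hKd, lev (cmG (τ := τ) hB.ne) 1, ?_, ?_, out_cm hF hsub hB⟩
  · have h3 := (lev_cl (V := perp Q w w') hG (by norm_num) hYd).sq hG (t := a)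
    convert h3 using 1
    apply Units.ext
    simp [ha]
  · rw [← lev_inv, ← lev_inv, ← lev_mul, ← lev_mul, ← lev_mul, hKY]
    have e1 : (-1 : GL (Fin 4) F) * cmG (τ := τ) hB.ne * kmx * kmx⁻¹ * (cmG (τ := τ) hB.ne)⁻¹ = -1 := by
      group
    rw [e1]
    apply LinearEquiv.ext
    intro x
    rw [autE_apply, hg, map_neg, LinearEquiv.apply_symm_apply, lev_apply]
    have hti : (ti (-1 : GL (Fin 4) F) : Matrix (Fin 4) (Fin 4) F) = -1 := by
      have : (-1 : GL (Fin 4) F)⁻¹ = -1 := by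
        rw [inv_eq_iff_mul_eq_one, neg_mul_neg, one_mul]
      rw [ti_coe, this]
      show (-1 : Matrix (Fin 4) (Fin 4) F)ᵀ = -1
      rw [transpose_neg, transpose_one]
    rw [hti]
    refine Prod.ext ?_ (Prod.ext (Subsingleton.elim _ _) ?_)
    · show - x.1 = (-1 : Matrix (Fin 4) (Fin 4) F) *ᵥ x.1
      rw [neg_mulVec, one_mulVec]
    · show - x.2.2 = (-1 : Matrix (Fin 4) (Fin 4) F) *ᵥ x.2.2
      rw [neg_mulVec, one_mulVec]

end Cfsg.Agent.H140.OreO
end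

-- part: H140/OreO/Even
section
/-!
# Even dimension
-/

set_option autoImplicit false
set_option linter.unusedSectionVars false
set_option linter.unusedSimpArgs false
set_option linter.unusedVariables false

namespace Cfsg.Agent.H140.OreO

open Polynomial Matrix QuadraticMap Cfsg.Agent.LieClassical.OrthCore
  Cfsg.Agent.LieClassical.OrthTrans Cfsg.Agent.LieClassical.OrthFinite
open scoped commutatorElement

universe u v

variable {F : Type u} [Field F]

theorem neg_mem_of {V : Type*} [AddCommGroup V] [Module F V] {Q : QuadraticForm F V}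
    {g : V ≃ₗ[F] V} (hg : g ∈ Om Q) (h : ∀ v, g v = - v) :
    (LinearEquiv.neg F : V ≃ₗ[F] V) ∈ Om Q := by
  have : g = LinearEquiv.neg F := LinearEquiv.ext fun v => by rw [h]; rfl
  rwa [this] at hg

/-- `N = 8`, modulo the existence of frames of length four. -/
theorem TT_eight_of [Finite F] (hF : 3 ≤ Nat.card F)
    (hfour : (2 : F) ≠ 0 → ∀ (V : Type v) [AddCommGroup V] [Module F V] [FiniteDimensional F V]
      (Q : QuadraticForm F V), Nondeg Q → Module.finrank F V = 8 →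
      (LinearEquiv.neg F : V ≃ₗ[F] V) ∈ Om Q → ∃ w w' : Fin 4 → V, Frame Q w w') :
    TT.{u, v} F 8 := by
  intro V _ _ _ Q hQ hd g hg s
  by_cases h : ∃ c : F, ∀ v, g v = c • v
  · obtain ⟨c, hc⟩ := h
    have hcc := scalar_sq hQ (by omega) (Om_le hg) hc
    have hone : c = 1 → Sol Q g s (Out 8) := by
      rintro rfl
      have : g = 1 := by
        apply LinearEquiv.ext
        intro v
        rw [hc, one_smul]; rfl
      refine base_T hF (by norm_num) hQ hd (Om_le hg) ?_ s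
      rw [this]
      exact bc3_one hQ (by omega)
    by_cases h2 : (2 : F) = 0
    · apply hone
      have : (c - 1) * (c - 1) = 0 := by linear_combination hcc + (1 - c) * h2
      exact sub_eq_zero.1 (mul_self_eq_zero.1 this)
    · rcases mul_self_eq_one_iff.1 hcc with h1 | h1
      · exact hone h1
      · have hg' : ∀ v, g v = - v := fun v => by rw [hc, h1, neg_smul, one_smul]
        exact neg_eight hF h2 hQ hd hg' (hfour h2 V Q hQ hd (neg_mem_of hg hg')) s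
  · refine base_T hF (by norm_num) hQ hd (Om_le hg) ?_ s
    push Not at h
    obtain ⟨m, h1, h2, h3, hB⟩ := H434.Corn.exists_baseCorner hQ (by omega) hg h
    obtain rfl | rfl : m = 3 ∨ m = 4 := by omega
    · obtain ⟨w, w', hf, hS, hdet, hA⟩ := hB
      exact ⟨w, w', hf, hS, hdet, hA.imp id fun h => h.2⟩
    · exact H141.Red43.baseCorner_three hd (Om_le hg) hB

/-- Output for elements of order four. -/
theorem out_four [Finite F] (hF : 3 ≤ Nat.card F) (h2 : (2 : F) ≠ 0) {V : Type*} [AddCommGroup V]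
    [Module F V] [FiniteDimensional F V] {y : V ≃ₗ[F] V} (hy : y * y * (y * y) = 1) {N : ℕ}
    (hN : 9 ≤ N) : Out N y := by
  have hP : aeval (y : Module.End F V) ((X - C 1) * (X - C (-1)) * (X ^ 2 + 1) : F[X]) = 0 := by
    have e1 : ((X - C 1) * (X - C (-1)) * (X ^ 2 + 1) : F[X]) = X ^ 4 - 1 := by
      simp only [map_one, map_neg]; ring
    rw [e1]
    apply LinearMap.ext
    intro v
    simp only [map_sub, map_pow, aeval_X, map_one, LinearMap.sub_apply, LinearMap.zero_apply,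
      Module.End.one_apply]
    have h1 : ((y : Module.End F V) ^ 4) v = v := by
      have := LinearEquiv.congr_fun hy v
      rw [pow_succ, pow_succ, pow_succ, pow_one]
      exact this
    rw [h1, sub_self]
  have hq : (X ^ 2 + 1 : F[X]) ≠ 0 := by
    intro h0
    have := congrArg (fun p => p.coeff 2) h0
    simp [coeff_X, coeff_one] at this
  have hqd : (X ^ 2 + 1 : F[X]).natDegree = 2 := by compute_degree!
  have key : ∀ c : F[X], Irreducible c → 2 ≤ c.natDegree → IsCoprime c (X ^ 2 + 1) →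
      Un (y : Module.End F V) c := by
    intro c h1 h2 h3
    refine un_of_coprime hP (IsCoprime.mul_right (IsCoprime.mul_right ?_ ?_) h3)
    · exact coprime_of_deg h1 (X_sub_C_ne_zero 1) (by rw [natDegree_X_sub_C]; omega)
    · exact coprime_of_deg h1 (X_sub_C_ne_zero (-1)) (by rw [natDegree_X_sub_C]; omega)
  refine ⟨fun c h1 h2 h3 h4 => ?_, fun _ => ?_, fun _ c h1 h2 h3 => ?_, fun h => by omega⟩
  · exact key c h1 (by omega) (coprime_of_deg h1 hq (by omega))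
  · obtain ⟨p, hp⟩ := exists_good F 3 (by norm_num) (by
      calc 5 ≤ 3 ^ 3 := by norm_num
        _ ≤ Nat.card F ^ 3 := Nat.pow_le_pow_left hF 3)
    obtain ⟨c, hc, hsq, -⟩ := exists_good_cubic_sq F hF p hp.irr hp.deg
    have hc0 : c.coeff 0 ≠ 0 := coeff_zero_ne hc.irr (by rw [hc.deg]; norm_num)
    have hcr := irreducible_rev hc.irr hc0
    have hcd : c.reverse.natDegree = 3 := by rw [natDegree_rev hc0, hc.deg]
    have hd := hc.deg
    exact ⟨c, hc, hsq, key c hc.irr (by omega) (coprime_of_deg hc.irr hq (by omega)),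
      key _ hcr (by omega) (coprime_of_deg hcr hq (by omega))⟩
  · refine key c h1 (by omega) ?_
    rw [h1.coprime_iff_not_dvd]
    rintro ⟨d, hcd⟩
    have hd0 : d ≠ 0 := by
      rintro rfl
      rw [mul_zero] at hcd
      exact hq hcd
    have h5 : c.natDegree + d.natDegree = 2 := by
      rw [← natDegree_mul h1.ne_zero hd0, ← hcd, hqd]
    obtain ⟨k, rfl⟩ := natDegree_eq_zero.1 (show d.natDegree = 0 by omega)
    have hk : k ≠ 0 := by rintro rfl; simp at hd0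
    apply h3
    have := congrArg (fun p => p.coeff 1) hcd
    simp only [coeff_mul_C, coeff_add, coeff_X_pow, coeff_one] at this
    simp at this
    exact this.resolve_right hk

/-- `N = 10`, modulo `-1`. -/
theorem TT_ten_of [Finite F] (hF : 3 ≤ Nat.card F) (h8 : TT.{u, v} F 8)
    (hten : (2 : F) ≠ 0 → ∀ (V : Type v) [AddCommGroup V] [Module F V] [FiniteDimensional F V]
      (Q : QuadraticForm F V), Nondeg Q → Module.finrank F V = 10 →
      (LinearEquiv.neg F : V ≃ₗ[F] V) ∈ Om Q → ∀ s : Fˣ, ∃ k ∈ Om Q, ∃ y, Cl Q s y ∧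
        (LinearEquiv.neg F : V ≃ₗ[F] V) = k * y * k⁻¹ * y⁻¹ ∧ y * y * (y * y) = 1) :
    TT.{u, v} F 10 := by
  intro V _ _ _ Q hQ hd g hg s
  by_cases h : (2 : F) ≠ 0 ∧ ∀ v, g v = - v
  · obtain ⟨h2, hg'⟩ := h
    obtain ⟨k, hk, y, hy, e, h4⟩ := hten h2 V Q hQ hd (neg_mem_of hg hg') s
    refine ⟨k, hk, y, hy, ?_, out_four hF h2 h4 (by norm_num)⟩
    rw [← e]
    exact LinearEquiv.ext fun v => by rw [hg']; rfl
  · refine step_one hF (by norm_num) le_rfl h8 hQ hd hg ?_ s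
    refine H958.Ore.idFrame hQ (Om_le hg) (by omega) (by omega) fun h2 => rank_pos ?_
    by_contra hcon
    push Not at hcon
    exact h ⟨h2, hcon⟩

/-- **Even dimension.** -/
theorem TT_even_of [Finite F] (hF : 3 ≤ Nat.card F) (h8 : TT.{u, v} F 8) (h10 : TT.{u, v} F 10)
    (N : ℕ) (hN : 8 ≤ N) (heven : N % 2 = 0) : TT.{u, v} F N := by
  induction N using Nat.strong_induction_on with
  | _ N ih =>
    rcases Nat.lt_or_ge N 11 with h | h
    · obtain rfl | rfl : N = 8 ∨ N = 10 := by omega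
      · exact h8
      · exact h10
    · exact TT_big hF h fun N' h1 h2 h3 => ih N' h1 (by omega) (by omega)

/-- Conclusion. -/
theorem all_comm_of_TT [Finite F] {N : ℕ} (h : TT.{u, v} F N) {V : Type v} [AddCommGroup V]
    [Module F V] [FiniteDimensional F V] {Q : QuadraticForm F V} (hQ : Nondeg Q)
    (hN : 5 ≤ N) (hd : Module.finrank F V = N) (g : V ≃ₗ[F] V) (hg : g ∈ Om Q) :
    ∃ k ∈ Om Q, ∃ y ∈ Om Q, g = k * y * k⁻¹ * y⁻¹ := by
  obtain ⟨k, hk, y, hy, e, -⟩ := h V Q hQ hd g hg 1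
  exact ⟨k, hk, y, hy.mem_Om (good_of_finite hQ (by omega)), e⟩

/-- **Every element of `Ω` is a commutator**, odd dimension `≥ 7`, odd characteristic. -/
theorem all_comm_odd [Finite F] (h2 : (2 : F) ≠ 0) {V : Type v} [AddCommGroup V]
    [Module F V] [FiniteDimensional F V] {Q : QuadraticForm F V} (hQ : Nondeg Q)
    (hN : 7 ≤ Module.finrank F V) (hodd : Module.finrank F V % 2 = 1) (g : V ≃ₗ[F] V)
    (hg : g ∈ Om Q) : ∃ k ∈ Om Q, ∃ y ∈ Om Q, g = k * y * k⁻¹ * y⁻¹ := by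
  have hF : 3 ≤ Nat.card F := by
    by_contra hcon
    have h1 : 1 < Nat.card F := Finite.one_lt_card
    have h3 : Nat.card F = 2 := by omega
    have := Fintype.ofFinite F
    apply h2
    have h4 : ((Fintype.card F : ℕ) : F) = 0 := FiniteField.cast_card_eq_zero F
    rw [← Nat.card_eq_fintype_card, h3] at h4
    exact_mod_cast h4
  exact all_comm_of_TT (TT_odd hF h2 _ hN hodd) hQ (by omega) rfl g hg

end Cfsg.Agent.H140.OreO
end

-- part: H434/FrameFour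
section
/-!
# `-1 ∈ Ω(V)`, `dim V = 8`, `q` odd: `V` has a frame of length four (helper434)
-/

set_option autoImplicit false

namespace Cfsg.Agent.H434.FrameFour

open Module QuadraticMap Matrix Cfsg.Agent.LieClassical.OrthCore Cfsg.Agent.LieClassical.OrthTrans
  Cfsg.Agent.LieClassical.OrthFinite Cfsg.Agent.H140.OreO Cfsg.Agent.H141.SpinFacts Cfsg.Agent.H160.QSpin

variable {F V : Type*} [Field F] [AddCommGroup V] [Module F V] {Q : QuadraticForm F V}

theorem neg_mem_O : (LinearEquiv.neg F : V ≃ₗ[F] V) ∈ O Q := fun v => QuadraticMap.map_neg Q v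

/-- `-1` in the model. -/
theorem neg_model (n : ℕ) (W : Type*) [AddCommGroup W] [Module F W] :
    (LinearEquiv.neg F : M F W n ≃ₗ[F] M F W n) =
      1 * lev (-1 : GL (Fin n) F) (LinearEquiv.neg F : W ≃ₗ[F] W) * 1 := by
  rw [one_mul, mul_one]
  apply LinearEquiv.ext
  intro x
  rw [lev_apply]
  have h1 : (ti (-1 : GL (Fin n) F) : Matrix (Fin n) (Fin n) F) = -1 := by
    rw [ti_coe, inv_neg, inv_one, Units.val_neg, Units.val_one, transpose_neg, transpose_one]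
  rw [h1]
  show -x = _
  refine Prod.ext ?_ (Prod.ext ?_ ?_)
  · show -x.1 = ((-1 : GL (Fin n) F) : Matrix (Fin n) (Fin n) F) *ᵥ x.1
    rw [Units.val_neg, Units.val_one, neg_mulVec, one_mulVec]
  · rfl
  · show -x.2.2 = (-1 : Matrix (Fin n) (Fin n) F) *ᵥ x.2.2
    rw [neg_mulVec, one_mulVec]

/-- A nonsingular vector. -/
theorem exists_ns [FiniteDimensional F V] (hQ : Nondeg Q) (hd : 0 < finrank F V) : ∃ v : V, Q v ≠ 0 := by
  by_contra hcon
  push Not at hcon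
  have : Nontrivial V := Module.finrank_pos_iff.1 hd
  obtain ⟨x, hx⟩ := exists_ne (0 : V)
  apply hx
  apply hQ
  intro y
  have h1 := Q_add (Q := Q) x y
  rw [hcon, hcon, hcon] at h1
  linear_combination -h1

/-- A plane on which `-1` has spinor norm `-1` times a square is hyperbolic. -/
theorem exists_sing_of_spin [Finite F] [FiniteDimensional F V] [Finite V] (h2 : (2 : F) ≠ 0) (hQ : Nondeg Q)
    (hd : finrank F V = 2) (hs : spin Q ⟨LinearEquiv.neg F, neg_mem_O⟩ = chi (-1 : F)) :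
    ∃ x : V, x ≠ 0 ∧ Q x = 0 := by
  obtain ⟨a, ha⟩ := exists_ns hQ (by omega)
  -- the orthogonal vector
  obtain ⟨b, hb0, hab⟩ : ∃ b : V, b ≠ 0 ∧ polar Q a b = 0 := by
    let f : V →ₗ[F] F := polarBilin Q a
    have h1 := LinearMap.finrank_range_add_finrank_ker f
    have h3 : finrank F (LinearMap.range f) ≤ 1 := by
      refine (Submodule.finrank_le _).trans ?_
      rw [finrank_self]
    have h4 : LinearMap.ker f ≠ ⊥ := by
      intro h0
      rw [h0, finrank_bot] at h1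
      omega
    obtain ⟨b, hb, hb0⟩ := Submodule.exists_mem_ne_zero_of_ne_bot h4
    exact ⟨b, hb0, hb⟩
  have haa : polar Q a a = 2 * Q a := by rw [polar_self']
  by_cases hb : Q b = 0
  · exact ⟨b, hb0, hb⟩
  have hbb : polar Q b b = 2 * Q b := by rw [polar_self']
  -- `a, b` span
  have hspan : ∀ v : V, ∃ s t : F, v = s • a + t • b := by
    have hli : LinearIndependent F ![a, b] := by
      rw [LinearIndependent.pair_iff]
      intro s t hst
      have h1 : polar Q a (s • a + t • b) = 0 := by rw [hst]; exact polar_zero_right _ _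
      have h3 : polar Q b (s • a + t • b) = 0 := by rw [hst]; exact polar_zero_right _ _
      rw [polar_add_right, polar_smul_right, polar_smul_right, haa, hab] at h1
      rw [polar_add_right, polar_smul_right, polar_smul_right, hbb, polar_comm Q b a, hab] at h3
      simp only [smul_eq_mul, mul_zero, add_zero, zero_add] at h1 h3
      refine ⟨(mul_eq_zero.1 h1).resolve_right (mul_ne_zero h2 ha), (mul_eq_zero.1 h3).resolve_right
        (mul_ne_zero h2 hb)⟩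
    have htop : Submodule.span F (Set.range ![a, b]) = ⊤ :=
      hli.span_eq_top_of_card_eq_finrank (by simp [hd])
    intro v
    have hv : v ∈ Submodule.span F (Set.range ![a, b]) := by rw [htop]; trivial
    rw [Matrix.range_cons, Matrix.range_cons, Matrix.range_empty, Set.union_empty,
      Set.singleton_union, Submodule.mem_span_pair] at hv
    obtain ⟨s, t, h⟩ := hv
    exact ⟨s, t, h.symm⟩
  have e : (⟨LinearEquiv.neg F, neg_mem_O⟩ : O Q) = ⟨refl Q a ha, refl_mem_O ha⟩ * ⟨refl Q b hb, refl_mem_O hb⟩ := by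
    apply Subtype.ext
    apply LinearEquiv.ext
    intro v
    obtain ⟨s, t, rfl⟩ := hspan v
    show -(s • a + t • b) = refl Q a ha (refl Q b hb (s • a + t • b))
    rw [refl_apply hb, polar_add_right, polar_smul_right, polar_smul_right, polar_comm Q b a, hab, hbb,
      refl_apply ha]
    simp only [polar_sub_right, polar_add_right, polar_smul_right, haa, hab, smul_eq_mul]
    have e1 : (Q b)⁻¹ * (s * 0 + t * (2 * Q b)) = 2 * t := by field_simp; ring
    rw [e1]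
    have e2 : (Q a)⁻¹ * (s * (2 * Q a) + t * 0 - 2 * t * 0) = 2 * s := by field_simp; ring
    rw [e2]
    module
  rw [e, map_mul, spin_refl' h2 ha, spin_refl' h2 hb, neg_mul_neg, ← chi_mul ha hb] at hs
  -- `- Q a Q b` is a square
  have h3 : IsSquare (-(Q a * Q b)) := by
    rw [← chi_eq_one_iff]
    have h4 : -(Q a * Q b) = (-1) * (Q a * Q b) := by ring
    rw [h4, chi_mul (neg_ne_zero.2 one_ne_zero) (mul_ne_zero ha hb), hs, ← chi_mul (neg_ne_zero.2 one_ne_zero)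
      (neg_ne_zero.2 one_ne_zero), chi_eq_one_iff]
    exact ⟨1, by ring⟩
  obtain ⟨r, hr⟩ := h3
  refine ⟨r • a + Q a • b, ?_, ?_⟩
  · intro h0
    have h5 : polar Q b (r • a + Q a • b) = 0 := by rw [h0]; exact polar_zero_right _ _
    rw [polar_add_right, polar_smul_right, polar_smul_right, hbb, polar_comm Q b a, hab] at h5
    simp only [smul_eq_mul, mul_zero, zero_add] at h5
    exact mul_ne_zero ha (mul_ne_zero h2 hb) h5
  · rw [Q_add, QuadraticMap.map_smul, QuadraticMap.map_smul, polar_smul_left, polar_smul_right, hab]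
    simp only [smul_eq_mul]
    linear_combination -(Q a) * hr

/-- **FRAME4.** -/
theorem exists_frame_four [Finite F] [FiniteDimensional F V] (h2 : (2 : F) ≠ 0) (hQ : Nondeg Q)
    (hd : finrank F V = 8) (h : (LinearEquiv.neg F : V ≃ₗ[F] V) ∈ ⁅O Q, O Q⁆) :
    ∃ w w' : Fin 4 → V, Frame Q w w' := by
  have : Finite V := Module.finite_of_finite F
  obtain ⟨w, w', hf⟩ := exists_frame hQ 3 (by omega)
  have hd2 : finrank F (perp Q w w') = 2 := by
    have := hf.finrank_perp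
    omega
  have e : hf.toModel.symm.trans ((LinearEquiv.neg F : V ≃ₗ[F] V).trans hf.toModel) =
      1 * lev (-1 : GL (Fin 3) F) (LinearEquiv.neg F : perp Q w w' ≃ₗ[F] perp Q w w') * 1 := by
    rw [← neg_model]
    apply LinearEquiv.ext
    intro x
    show hf.toModel (-(hf.toModel.symm x)) = -x
    rw [map_neg, LinearEquiv.apply_symm_apply]
  have h3 := (frame_odd h2 hQ hf h (Subgroup.one_mem _) (Subgroup.one_mem _) neg_mem_O e).2
  have h4 : ((-1 : GL (Fin 3) F) : Matrix (Fin 3) (Fin 3) F).det = -1 := by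
    rw [Units.val_neg, Units.val_one, det_neg, det_one]
    simp
    norm_num
  rw [h4] at h3
  obtain ⟨x, hx0, hx⟩ := exists_sing_of_spin h2 (hf.nondeg_res hQ) hd2 h3
  obtain ⟨y, hy⟩ := exists_hyp (hf.nondeg_res hQ) hx hx0
  exact ⟨_, _, hf.cons x.2 y.2 ⟨hy.left, hy.right, hy.pair⟩⟩

end Cfsg.Agent.H434.FrameFour
end

-- part: H194/GLTwo
section
/-!
# Matrices over the field with two elements as lists of bit vectors

`dec F m M` is the `m × m` matrix over `F` (`#F = 2`) whose `j`-th column has the binary digits of `M[j]`.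
* `dec_mul` : `dec (mul M N) = dec M * dec N`.
* `exists_code` : every invertible matrix is similar to `dec F m (colsOf 0 L)` for some `L ∈ enum m`: a direct sum of
  companion matrices.
-/

set_option autoImplicit false

namespace Cfsg.Agent.H194.GLTwo

open Polynomial

/-- the combination of the columns `M` with coefficients the digits of `n` -/
def app : List ℕ → ℕ → ℕ
  | [], _ => 0
  | c :: M, n => Nat.xor (if n % 2 = 1 then c else 0) (app M (n / 2))

def mul (M N : List ℕ) : List ℕ := N.map (app M)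

def one (m : ℕ) : List ℕ := (List.range m).map (fun i => 2 ^ i)

variable {F : Type*} [Field F]

/-- digit -/
def bt (F : Type*) [Field F] (b : Bool) : F := if b then 1 else 0

theorem bt_xor (h2 : (2 : F) = 0) (a b : Bool) : bt F (a ^^ b) = bt F a + bt F b := by
  cases a <;> cases b <;> simp [bt]
  rw [← two_mul, mul_one, h2]

theorem bt_app (h2 : (2 : F) = 0) (M : List ℕ) (n i : ℕ) :
    bt F ((app M n).testBit i) =
      ∑ s ∈ Finset.range M.length, bt F (n.testBit s) * bt F ((M.getD s 0).testBit i) := by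
  induction M generalizing n with
  | nil => simp [app, bt]
  | cons c M ih =>
    rw [app, List.length_cons, Finset.sum_range_succ']
    change bt F (((if n % 2 = 1 then c else 0) ^^^ app M (n / 2)).testBit i) = _
    rw [Nat.testBit_xor, bt_xor h2, ih, add_comm]
    congr 1
    · refine Finset.sum_congr rfl fun s _ => ?_
      rw [List.getD_cons_succ, Nat.testBit_succ]
    · rw [List.getD_cons_zero, Nat.testBit_zero]
      by_cases h : n % 2 = 1 <;> simp [h, bt]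

theorem app_zero (M : List ℕ) : app M 0 = 0 := by
  induction M with
  | nil => rfl
  | cons c M ih =>
    rw [app]
    change ((if 0 % 2 = 1 then c else 0) ^^^ app M (0 / 2)) = 0
    simp [ih]

/-- the matrix with the columns `M` -/
def dec (F : Type*) [Field F] (m : ℕ) (M : List ℕ) : Matrix (Fin m) (Fin m) F :=
  Matrix.of fun i j => bt F ((M.getD j 0).testBit i)

theorem dec_apply (m : ℕ) (M : List ℕ) (i j : Fin m) : dec F m M i j = bt F ((M.getD j 0).testBit i) := rfl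

theorem getD_map (M N : List ℕ) (j : ℕ) : (N.map (app M)).getD j 0 = app M (N.getD j 0) := by
  rw [← app_zero M]
  rw [List.getD_map]
  rw [app_zero]

theorem dec_mul (h2 : (2 : F) = 0) {m : ℕ} {M : List ℕ} (hM : M.length = m) (N : List ℕ) :
    dec F m (mul M N) = dec F m M * dec F m N := by
  ext i j
  rw [dec_apply, mul, getD_map, bt_app h2, Matrix.mul_apply, hM, Finset.sum_range]
  refine Finset.sum_congr rfl fun s _ => ?_
  rw [dec_apply, dec_apply, mul_comm]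

theorem one_getD {m : ℕ} (j : Fin m) : (one m).getD j 0 = 2 ^ (j : ℕ) := by
  rw [List.getD_eq_getElem _ _ (by simp [one])]
  simp [one]

theorem one_length (m : ℕ) : (one m).length = m := by simp [one]

theorem dec_one (m : ℕ) : dec F m (one m) = 1 := by
  ext i j
  rw [dec_apply, one_getD, Nat.testBit_two_pow, Matrix.one_apply]
  by_cases h : i = j
  · subst h; simp [bt]
  · rw [if_neg h]
    have : (j : ℕ) ≠ i := fun h' => h (Fin.ext h'.symm)
    simp [bt, this]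

theorem mul_length (M N : List ℕ) : (mul M N).length = N.length := by simp [mul]

/-! ### Rank at most one -/

/-- all non-zero columns of `A - 1` coincide with `w` -/
def rk1w (w : ℕ) : ℕ → List ℕ → Bool
  | _, [] => true
  | t, c :: A => (Nat.beq (Nat.xor c (2 ^ t)) 0 || Nat.beq (Nat.xor c (2 ^ t)) w) && rk1w w (t + 1) A

theorem rk1w_spec {w : ℕ} {t : ℕ} {A : List ℕ} (h : rk1w w t A = true) {j : ℕ} (hj : j < A.length) :
    (A.getD j 0) ^^^ (2 ^ (t + j)) = 0 ∨ (A.getD j 0) ^^^ (2 ^ (t + j)) = w := by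
  induction A generalizing t j with
  | nil => simp at hj
  | cons c A ih =>
    rw [rk1w, Bool.and_eq_true, Bool.or_eq_true] at h
    cases j with
    | zero =>
      rw [List.getD_cons_zero, add_zero]
      rcases h.1 with h1 | h1
      · exact Or.inl (Nat.eq_of_beq_eq_true h1)
      · exact Or.inr (Nat.eq_of_beq_eq_true h1)
    | succ j =>
      rw [List.getD_cons_succ]
      have := ih h.2 (j := j) (by simpa using hj)
      rwa [show t + 1 + j = t + (j + 1) by omega] at this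

theorem rank_le_one (h2 : (2 : F) = 0) {m : ℕ} {A : List ℕ} (hA : A.length = m) {w : ℕ}
    (h : rk1w w 0 A = true) : (dec F m A - 1).rank ≤ 1 := by
  have : dec F m A - 1 = Matrix.vecMulVec (fun i : Fin m => bt F (w.testBit i))
      (fun j : Fin m => if (A.getD j 0) ^^^ (2 ^ (j : ℕ)) = 0 then 0 else 1) := by
    rw [← dec_one (F := F) m]
    ext i j
    rw [Matrix.sub_apply, dec_apply, dec_apply, Matrix.vecMulVec_apply]
    have h1 := rk1w_spec h (j := j) (by rw [hA]; exact j.2)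
    rw [zero_add] at h1
    have h3 : bt F ((A.getD j 0).testBit i) - bt F (((one m).getD j 0).testBit i) =
        bt F ((A.getD j 0 ^^^ 2 ^ (j : ℕ)).testBit i) := by
      rw [Nat.testBit_xor, bt_xor h2, one_getD]
      have h4 : ∀ x : F, -x = x := fun x => by
        rw [neg_eq_iff_add_eq_zero, ← two_mul, h2, zero_mul]
      rw [sub_eq_add_neg, h4]
    rw [h3]
    by_cases h0 : (A.getD j 0) ^^^ (2 ^ (j : ℕ)) = 0
    · rw [if_pos h0, h0]; simp [bt]
    · rw [if_neg h0, h1.resolve_left h0, mul_one]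
  rw [this]
  exact Matrix.rank_vecMulVec_le _ _

/-! ### Direct sums of companion matrices -/

/-- the columns of the block diagonal matrix with blocks the companion matrices of `X ^ k + ∑ n_j X ^ j` -/
def colsOf : ℕ → List (ℕ × ℕ) → List ℕ
  | _, [] => []
  | off, (k, n) :: L => (List.range (k - 1)).map (fun j => 2 ^ (off + j + 1)) ++
      (2 ^ off * n :: colsOf (off + k) L)

/-- the blocks, total size `m` -/
def enumF : ℕ → ℕ → List (List (ℕ × ℕ))
  | 0, _ => []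
  | _ + 1, 0 => [[]]
  | f + 1, m + 1 => (List.range (m + 1)).flatMap fun k =>
      (List.range (2 ^ k)).flatMap fun n =>
        (enumF f (m - k)).map fun L => (k + 1, 2 * n + 1) :: L

def enum (m : ℕ) : List (List (ℕ × ℕ)) := enumF (m + 1) m

/-- admissible block lists -/
def Adm (L : List (ℕ × ℕ)) : Prop := ∀ b ∈ L, 0 < b.1 ∧ b.2 < 2 ^ b.1 ∧ b.2 % 2 = 1

def tot (L : List (ℕ × ℕ)) : ℕ := (L.map Prod.fst).sum

theorem mem_enumF {L : List (ℕ × ℕ)} (hL : Adm L) : ∀ {f m : ℕ}, tot L = m → m < f → L ∈ enumF f m := by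
  induction L with
  | nil =>
    intro f m hm hf
    obtain ⟨f, rfl⟩ : ∃ f', f = f' + 1 := ⟨f - 1, by omega⟩
    rw [← hm]
    simp [tot, enumF]
  | cons b L ih =>
    intro f m hm hf
    obtain ⟨k, n⟩ := b
    obtain ⟨h1, h2, h3⟩ := hL (k, n) (by simp)
    have hL' : Adm L := fun b hb => hL b (List.mem_cons_of_mem _ hb)
    simp only at h1 h2 h3
    have hm' : k + tot L = m := by rw [← hm]; simp [tot]
    obtain ⟨f, rfl⟩ : ∃ f', f = f' + 1 := ⟨f - 1, by omega⟩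
    obtain ⟨m, rfl⟩ : ∃ m', m = m' + 1 := ⟨m - 1, by omega⟩
    obtain ⟨k, rfl⟩ : ∃ k', k = k' + 1 := ⟨k - 1, by omega⟩
    rw [enumF, List.mem_flatMap]
    refine ⟨k, List.mem_range.2 (by omega), ?_⟩
    rw [List.mem_flatMap]
    refine ⟨n / 2, List.mem_range.2 ?_, ?_⟩
    · rw [pow_succ] at h2; omega
    · rw [List.mem_map]
      refine ⟨L, ih hL' (by omega) (by omega), ?_⟩
      have : 2 * (n / 2) + 1 = n := by omega
      rw [this]

theorem mem_enum {L : List (ℕ × ℕ)} (hL : Adm L) {m : ℕ} (hm : tot L = m) : L ∈ enum m :=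
  mem_enumF hL hm (Nat.lt_succ_self m)

theorem colsOf_length {L : List (ℕ × ℕ)} (hL : Adm L) (off : ℕ) : (colsOf off L).length = tot L := by
  induction L generalizing off with
  | nil => rfl
  | cons b L ih =>
    obtain ⟨k, n⟩ := b
    have h1 := (hL (k, n) (by simp)).1
    have hL' : Adm L := fun b hb => hL b (List.mem_cons_of_mem _ hb)
    simp only at h1
    rw [colsOf, List.length_append, List.length_cons, ih hL']
    simp [tot]
    omega

section Space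

variable {V : Type*} [AddCommGroup V] [Module F V]

/-- combination of the vectors `e` -/
def cmb (N : ℕ) (e : ℕ → V) (n : ℕ) : V := ∑ s ∈ Finset.range N, bt F (n.testBit s) • e s

theorem cmb_two_pow {N : ℕ} (e : ℕ → V) {s : ℕ} (hs : s < N) : cmb (F := F) N e (2 ^ s) = e s := by
  rw [cmb, Finset.sum_eq_single s]
  · rw [Nat.testBit_two_pow]; simp [bt]
  · intro t _ ht
    rw [Nat.testBit_two_pow]
    simp [bt, Ne.symm ht]
  · intro h; exact absurd (Finset.mem_range.2 hs) h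

theorem cmb_shift {N : ℕ} (e : ℕ → V) {off k n : ℕ} (hn : n < 2 ^ k) (hN : off + k ≤ N) :
    cmb (F := F) N e (2 ^ off * n) = ∑ j ∈ Finset.range k, bt F (n.testBit j) • e (off + j) := by
  rw [cmb]
  obtain ⟨r, rfl⟩ := Nat.exists_eq_add_of_le hN
  rw [Finset.sum_range_add, Finset.sum_range_add]
  have h1 : ∑ x ∈ Finset.range off, bt F ((2 ^ off * n).testBit x) • e x = 0 := by
    refine Finset.sum_eq_zero fun x hx => ?_
    rw [Nat.testBit_two_pow_mul]
    have := Finset.mem_range.1 hx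
    simp [bt, show ¬ (off ≤ x) by omega]
  have h2 : ∑ x ∈ Finset.range r, bt F ((2 ^ off * n).testBit (off + k + x)) • e (off + k + x) = 0 := by
    refine Finset.sum_eq_zero fun x _ => ?_
    rw [Nat.testBit_two_pow_mul, Nat.testBit_lt_two_pow (x := n) (i := off + k + x - off)]
    · simp [bt]
    · exact lt_of_lt_of_le hn (Nat.pow_le_pow_right (by norm_num) (by omega))
  rw [h1, h2, zero_add, add_zero]
  refine Finset.sum_congr rfl fun x _ => ?_
  rw [Nat.testBit_two_pow_mul, Nat.add_sub_cancel_left]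
  simp

/-- the number with the digits of the coefficients of `g` -/
noncomputable def num [DecidableEq F] (g : F[X]) : ℕ :=
  Nat.ofBits (fun j : Fin g.natDegree => decide (g.coeff j ≠ 0))

theorem bt_num [DecidableEq F] (hF : ∀ x : F, x = 0 ∨ x = 1) (g : F[X]) {j : ℕ} (hj : j < g.natDegree) :
    bt F ((num g).testBit j) = g.coeff j := by
  rw [num, Nat.testBit_ofBits_lt _ _ hj]
  rcases hF (g.coeff j) with h | h <;> simp [bt, h]

theorem num_lt [DecidableEq F] (g : F[X]) : num g < 2 ^ g.natDegree := Nat.ofBits_lt_two_pow _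

theorem blk [DecidableEq F] (hF : ∀ x : F, x = 0 ∨ x = 1) (h2 : (2 : F) = 0) (T : Module.End F V) {g : F[X]}
    (hg : g.Monic) {v : V} (hv : aeval T g v = 0) {e : ℕ → V} {off N : ℕ}
    (he : ∀ j < g.natDegree, e (off + j) = (T ^ j) v) (hN : off + g.natDegree ≤ N) {t : ℕ}
    (ht : t < g.natDegree) :
    T (e (off + t)) = cmb (F := F) N e
      (if t + 1 < g.natDegree then 2 ^ (off + t + 1) else 2 ^ off * num g) := by
  have h4 : ∀ x : V, -x = x := fun x => by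
    rw [neg_eq_iff_add_eq_zero, ← two_smul F, h2, zero_smul]
  rw [he t ht, ← Module.End.mul_apply, ← pow_succ']
  by_cases h : t + 1 < g.natDegree
  · rw [if_pos h, cmb_two_pow _ (by omega), add_assoc, he _ h]
  · rw [if_neg h, cmb_shift _ (num_lt g) hN]
    have h5 : t + 1 = g.natDegree := by omega
    rw [h5]
    have h6 : aeval T g v = (T ^ g.natDegree) v + ∑ j ∈ Finset.range g.natDegree, g.coeff j • (T ^ j) v := by
      rw [aeval_eq_sum_range, Finset.sum_range_succ, LinearMap.add_apply, hg.coeff_natDegree, one_smul,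
        LinearMap.sum_apply, add_comm]
      rfl
    rw [h6, add_comm] at hv
    rw [eq_neg_of_add_eq_zero_right hv, h4]
    refine Finset.sum_congr rfl fun j hj => ?_
    have hj' := Finset.mem_range.1 hj
    rw [bt_num hF g hj', he j hj']

/-- the vectors `T ^ j v` -/
def vecs (T : Module.End F V) (Ls : List (V × F[X])) : List V :=
  Ls.flatMap fun x => (List.range x.2.natDegree).map fun j => (T ^ j) x.1

noncomputable def code [DecidableEq F] (Ls : List (V × F[X])) : List (ℕ × ℕ) :=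
  Ls.map fun x => (x.2.natDegree, num x.2)

theorem vecs_length [DecidableEq F] (T : Module.End F V) (Ls : List (V × F[X])) :
    (vecs T Ls).length = tot (code Ls) := by
  induction Ls with
  | nil => rfl
  | cons x Ls ih =>
    change ((List.range x.2.natDegree).map (fun j => (T ^ j) x.1) ++ vecs T Ls).length = _
    rw [List.length_append, ih]
    simp [code, tot]

theorem all [DecidableEq F] (hF : ∀ x : F, x = 0 ∨ x = 1) (h2 : (2 : F) = 0) (T : Module.End F V)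
    {e : ℕ → V} {N : ℕ} {Ls : List (V × F[X])}
    (hLs : ∀ x ∈ Ls, x.2.Monic ∧ 0 < x.2.natDegree ∧ aeval T x.2 x.1 = 0) {off : ℕ}
    (he : ∀ t < (vecs T Ls).length, e (off + t) = (vecs T Ls).getD t 0)
    (hN : off + (vecs T Ls).length ≤ N) {t : ℕ} (ht : t < (vecs T Ls).length) :
    T (e (off + t)) = cmb (F := F) N e ((colsOf off (code Ls)).getD t 0) := by
  induction Ls generalizing off t with
  | nil => simp [vecs] at ht
  | cons x Ls ih =>
    obtain ⟨v, g⟩ := x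
    obtain ⟨hg, hd, hv⟩ := hLs (v, g) (by simp)
    simp only at hg hd hv
    have hE : vecs T ((v, g) :: Ls) = (List.range g.natDegree).map (fun j => (T ^ j) v) ++ vecs T Ls := rfl
    rw [hE] at he hN ht
    rw [List.length_append, List.length_map, List.length_range] at he hN ht
    have hC : colsOf off (code ((v, g) :: Ls)) = (List.range (g.natDegree - 1)).map (fun j => 2 ^ (off + j + 1)) ++
      (2 ^ off * num g :: colsOf (off + g.natDegree) (code Ls)) := rfl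
    have he1 : ∀ j < g.natDegree, e (off + j) = (T ^ j) v := by
      intro j hj
      rw [he j (by omega), List.getD_append _ _ _ j (by simpa using hj),
        List.getD_eq_getElem _ _ (by simpa using hj : j < _)]
      simp
    rw [hC]
    by_cases h : t < g.natDegree
    · rw [blk (N := N) hF h2 T hg hv he1 (by omega) h]
      congr 1
      have hlen : ((List.range (g.natDegree - 1)).map (fun j => 2 ^ (off + j + 1))).length = g.natDegree - 1 := by
        simp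
      by_cases h' : t + 1 < g.natDegree
      · rw [if_pos h', List.getD_append _ _ _ t (by rw [hlen]; omega),
          List.getD_eq_getElem _ _ (by rw [hlen]; omega : t < _)]
        simp
      · rw [if_neg h', List.getD_append_right _ _ _ t (by rw [hlen]; omega), hlen]
        have : t - (g.natDegree - 1) = 0 := by omega
        rw [this, List.getD_cons_zero]
    · obtain ⟨s, rfl⟩ : ∃ s, t = g.natDegree + s := ⟨t - g.natDegree, by omega⟩
      rw [List.getD_append_right _ _ _ (g.natDegree + s) (by simp; omega)]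
      have h7 : g.natDegree + s - ((List.range (g.natDegree - 1)).map (fun j => 2 ^ (off + j + 1))).length =
          s + 1 := by
        simp; omega
      rw [h7, List.getD_cons_succ, ← add_assoc]
      refine ih (fun x hx => hLs x (List.mem_cons_of_mem _ hx)) ?_ (by omega) (by omega)
      intro t ht
      rw [add_assoc, he _ (by omega), List.getD_append_right _ _ _ (g.natDegree + t) (by simp)]
      congr 1
      simp

end Space

theorem exists_code (hF : ∀ x : F, x = 0 ∨ x = 1) (h2 : (2 : F) = 0) {m : ℕ} (A : GL (Fin m) F) :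
    ∃ L ∈ enum m, ∃ P : GL (Fin m) F,
      (A : Matrix (Fin m) (Fin m) F) * (P : Matrix (Fin m) (Fin m) F) =
        (P : Matrix (Fin m) (Fin m) F) * dec F m (colsOf 0 L) := by
  classical
  set T : Module.End F (Fin m → F) := Matrix.toLin' (A : Matrix (Fin m) (Fin m) F) with hT
  have hTinj : Function.Injective T := by
    intro x y hxy
    have : (A⁻¹ : GL (Fin m) F).1.mulVec (T x) = (A⁻¹ : GL (Fin m) F).1.mulVec (T y) := by rw [hxy]
    simpa [hT, Matrix.toLin'_apply, Matrix.mulVec_mulVec] using this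
  obtain ⟨d, g, v, b, hg, hb, hann, -⟩ := Cfsg.Agent.H953.exists_basis T
  have hmonic : ∀ i, (g i).Monic := by
    intro i
    obtain ⟨q, e, hq, -, -, h⟩ := hg i
    rw [h]; exact hq.pow e
  have hdeg : ∀ i, 0 < (g i).natDegree := by
    intro i
    obtain ⟨q, e, hq, hi, he, h⟩ := hg i
    rw [h, hq.natDegree_pow]
    exact Nat.mul_pos he hi.natDegree_pos
  have hc0 : ∀ i, (g i).coeff 0 ≠ 0 := by
    intro i h0
    obtain ⟨f, hf⟩ := X_dvd_iff.2 h0
    have h1 : aeval T (g i) (v i) = 0 := (hann i _).2 dvd_rfl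
    rw [hf, map_mul, aeval_X, Module.End.mul_apply] at h1
    have h3 : aeval T f (v i) = 0 := hTinj (by rw [h1, map_zero])
    have h4 := (hann i _).1 h3
    have hf0 : f ≠ 0 := by
      rintro rfl
      rw [mul_zero] at hf
      exact (hmonic i).ne_zero hf
    have h5 := natDegree_le_of_dvd h4 hf0
    rw [hf, natDegree_X_mul hf0] at h5
    omega
  set Ls : List ((Fin m → F) × F[X]) := List.ofFn (fun i => (v i, g i)) with hLs
  have hmem : ∀ x ∈ Ls, ∃ i, x = (v i, g i) := by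
    intro x hx
    rw [hLs, List.mem_ofFn] at hx
    obtain ⟨i, hi⟩ := hx
    exact ⟨i, hi.symm⟩
  have hprop : ∀ x ∈ Ls, x.2.Monic ∧ 0 < x.2.natDegree ∧ aeval T x.2 x.1 = 0 := by
    intro x hx
    obtain ⟨i, rfl⟩ := hmem x hx
    exact ⟨hmonic i, hdeg i, (hann i _).2 dvd_rfl⟩
  have hAdm : Adm (code Ls) := by
    intro c hc
    rw [code, List.mem_map] at hc
    obtain ⟨x, hx, rfl⟩ := hc
    obtain ⟨i, rfl⟩ := hmem x hx
    refine ⟨hdeg i, num_lt _, ?_⟩
    have h1 := bt_num hF (g i) (hdeg i)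
    have h3 : (num (g i)).testBit 0 = true := by
      by_contra h
      rw [Bool.not_eq_true] at h
      rw [h] at h1
      exact hc0 i (by rw [← h1]; rfl)
    rw [Nat.testBit_zero] at h3
    simpa using h3
  have hcard : Fintype.card (Σ i : Fin d, Fin (g i).natDegree) = m := by
    rw [← Module.finrank_eq_card_basis b, Module.finrank_fintype_fun_eq_card, Fintype.card_fin]
  have htot : tot (code Ls) = m := by
    refine Eq.trans ?_ hcard
    rw [Fintype.card_sigma, hLs, code, tot, List.map_map, List.map_ofFn, List.sum_ofFn]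
    simp
  have hlen : (vecs T Ls).length = m := by rw [vecs_length, htot]
  let e : ℕ → (Fin m → F) := fun t => (vecs T Ls).getD t 0
  have hspan : ⊤ ≤ Submodule.span F (Set.range fun t : Fin m => e t) := by
    rw [← b.span_eq, Submodule.span_le]
    rintro _ ⟨⟨i, j⟩, rfl⟩
    apply Submodule.subset_span
    have h1 : (T ^ (j : ℕ)) (v i) ∈ vecs T Ls := by
      rw [vecs, List.mem_flatMap]
      refine ⟨(v i, g i), ?_, ?_⟩
      · rw [hLs, List.mem_ofFn]; exact ⟨i, rfl⟩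
      · rw [List.mem_map]
        exact ⟨j, List.mem_range.2 j.2, rfl⟩
    obtain ⟨t, ht, h3⟩ := List.getElem_of_mem h1
    refine ⟨⟨t, by rw [← hlen]; exact ht⟩, ?_⟩
    simp only [e]
    rw [hb, List.getD_eq_getElem _ _ ht, h3]
  let b' : Module.Basis (Fin m) F (Fin m → F) :=
    basisOfTopLeSpanOfCardEqFinrank (fun t : Fin m => e t) hspan
      (by rw [Module.finrank_fintype_fun_eq_card])
  have hb' : ∀ t : Fin m, b' t = e t := fun t => by simp [b']
  have hTe : ∀ t < m, T (e t) = cmb (F := F) m e ((colsOf 0 (code Ls)).getD t 0) := by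
    intro t ht
    have := all (N := m) (e := e) hF h2 T hprop (off := 0) (fun s _ => by rw [zero_add]) (by omega) (t := t)
      (by rw [hlen]; exact ht)
    rwa [zero_add] at this
  have h3 : LinearMap.toMatrix b' b' T = dec F m (colsOf 0 (code Ls)) := by
    ext i j
    rw [LinearMap.toMatrix_apply, hb', hTe j j.2, cmb, Finset.sum_range]
    have : ∀ s : Fin m, e s = b' s := fun s => (hb' s).symm
    simp only [this]
    rw [b'.repr_sum_self, dec_apply]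
  refine ⟨code Ls, mem_enum hAdm htot, ?_⟩
  let S := Pi.basisFun F (Fin m)
  let P : GL (Fin m) F := ⟨S.toMatrix b', b'.toMatrix S, by simp, by simp⟩
  refine ⟨P, ?_⟩
  have h4 := basis_toMatrix_mul_linearMap_toMatrix b' S b' T
  have h5 := linearMap_toMatrix_mul_basis_toMatrix b' S S T
  have h6 : LinearMap.toMatrix S S T = (A : Matrix (Fin m) (Fin m) F) := by
    rw [hT]
    exact LinearMap.toMatrix'_toLin' _
  rw [← h3]
  change (A : Matrix (Fin m) (Fin m) F) * S.toMatrix b' = S.toMatrix b' * _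
  rw [h4, ← h6, h5]

/-! ### Certificates -/

/-- `P A P⁻¹ C X = X C`. -/
def good (m : ℕ) (C A : List ℕ) (c : List (List ℕ)) : Bool :=
  match c with
  | [P, P', X, X'] =>
    (P.length == m) && (P'.length == m) && (X.length == m) && (X'.length == m) &&
    (mul P P' == one m) && (mul X X' == one m) &&
    (mul (mul (mul (mul P A) P') C) X == mul X C)
  | _ => false

/-- the difference of some column -/
def wit : ℕ → List ℕ → ℕ
  | _, [] => 0
  | t, c :: A => if Nat.xor c (2 ^ t) = 0 then wit (t + 1) A else Nat.xor c (2 ^ t)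

def chk (m : ℕ) (C : List ℕ) (L : List (ℕ × ℕ)) (c : List (List ℕ)) : Bool :=
  ((colsOf 0 L).length == m) && (rk1w (wit 0 (colsOf 0 L)) 0 (colsOf 0 L) || good m C (colsOf 0 L) c)

def all2 {α β : Type*} (p : α → β → Bool) : List α → List β → Bool
  | [], _ => true
  | _ :: _, [] => false
  | a :: l, b :: l' => p a b && all2 p l l'

theorem all2_spec {α β : Type*} {p : α → β → Bool} {l : List α} {l' : List β} (h : all2 p l l' = true) :
    ∀ a ∈ l, ∃ b, p a b = true := by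
  induction l generalizing l' with
  | nil => simp
  | cons a l ih =>
    cases l' with
    | nil => simp [all2] at h
    | cons b l' =>
      rw [all2, Bool.and_eq_true] at h
      intro a' ha'
      rcases List.mem_cons.1 ha' with rfl | h'
      · exact ⟨b, h.1⟩
      · exact ih h.2 a' h'

theorem main (hF : ∀ x : F, x = 0 ∨ x = 1) (h2 : (2 : F) = 0) {m : ℕ} {C C' : List ℕ} (hC : C.length = m)
    (hC' : mul C C' = one m)
    {cert : List (List (List ℕ))} (h : all2 (chk m C) (enum m) cert = true) (A : GL (Fin m) F)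
    (hA : 2 ≤ ((A : Matrix (Fin m) (Fin m) F) - 1).rank) :
    ∃ y : GL (Fin m) F, (y : Matrix (Fin m) (Fin m) F).charpoly = (dec F m C).charpoly ∧
      ((A * y : GL (Fin m) F) : Matrix (Fin m) (Fin m) F).charpoly = (dec F m C).charpoly := by
  obtain ⟨L, hL, Q, hQ⟩ := exists_code hF h2 A
  obtain ⟨c, hc⟩ := all2_spec h L hL
  rw [chk, Bool.and_eq_true, Bool.or_eq_true] at hc
  have hlen : (colsOf 0 L).length = m := by simpa using hc.1
  have hAd : (A : Matrix (Fin m) (Fin m) F) =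
      (Q : Matrix (Fin m) (Fin m) F) * dec F m (colsOf 0 L) * (Q⁻¹ : GL (Fin m) F) := by
    rw [← hQ, mul_assoc, ← Units.val_mul, mul_inv_cancel, Units.val_one, mul_one]
  rcases hc.2 with hc | hc
  · exfalso
    have h1 := rank_le_one (F := F) h2 hlen hc
    have h3 : (A : Matrix (Fin m) (Fin m) F) - 1 =
        (Q : Matrix (Fin m) (Fin m) F) * (dec F m (colsOf 0 L) - 1) * (Q⁻¹ : GL (Fin m) F) := by
      rw [mul_sub, sub_mul, ← hAd, mul_one, ← Units.val_mul, mul_inv_cancel, Units.val_one]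
    have hu : ∀ U : GL (Fin m) F, IsUnit (U : Matrix (Fin m) (Fin m) F).det := fun U =>
      (Matrix.isUnit_iff_isUnit_det _).1 U.isUnit
    rw [h3, Matrix.rank_mul_eq_left_of_isUnit_det _ _ (hu _), Matrix.rank_mul_eq_right_of_isUnit_det _ _ (hu _)] at hA
    omega
  · obtain ⟨P, P', X, X', rfl⟩ : ∃ P P' X X', c = [P, P', X, X'] := by
      revert hc
      unfold good
      split
      · intro _; exact ⟨_, _, _, _, rfl⟩
      · intro h; exact absurd h (by simp)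
    simp only [good, Bool.and_eq_true, beq_iff_eq] at hc
    obtain ⟨⟨⟨⟨⟨⟨l1, l2⟩, l3⟩, l4⟩, e1⟩, e2⟩, e3⟩ := hc
    have f1 : dec F m P * dec F m P' = 1 := by rw [← dec_mul h2 l1, e1, dec_one]
    have f2 : dec F m X * dec F m X' = 1 := by rw [← dec_mul h2 l3, e2, dec_one]
    have f3 : dec F m P * dec F m (colsOf 0 L) * dec F m P' * dec F m C * dec F m X =
        dec F m X * dec F m C := by
      have hl1 : (mul P (colsOf 0 L)).length = m := by rw [mul_length, hlen]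
      have hl2 : (mul (mul P (colsOf 0 L)) P').length = m := by rw [mul_length, l2]
      have hl3 : (mul (mul (mul P (colsOf 0 L)) P') C).length = m := by rw [mul_length, hC]
      rw [← dec_mul h2 l3, ← e3, dec_mul h2 hl3, dec_mul h2 hl2, dec_mul h2 hl1, dec_mul h2 l1]
    let P₁ : GL (Fin m) F := ⟨dec F m P, dec F m P', f1, by rw [mul_eq_one_comm]; exact f1⟩
    let X₁ : GL (Fin m) F := ⟨dec F m X, dec F m X', f2, by rw [mul_eq_one_comm]; exact f2⟩
    have f4 : dec F m C * dec F m C' = 1 := by rw [← dec_mul h2 hC, hC', dec_one]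
    let C₁ : GL (Fin m) F := ⟨dec F m C, dec F m C', f4, by rw [mul_eq_one_comm]; exact f4⟩
    have hD : ((Q⁻¹ * A * Q : GL (Fin m) F) : Matrix (Fin m) (Fin m) F) = dec F m (colsOf 0 L) := by
      rw [Units.val_mul, Units.val_mul, mul_assoc, hQ, ← mul_assoc, ← Units.val_mul, inv_mul_cancel,
        Units.val_one, one_mul]
    have f5 : P₁ * (Q⁻¹ * A * Q) * P₁⁻¹ * C₁ * X₁ = X₁ * C₁ := by
      apply Units.ext
      simp only [Units.val_mul] at hD ⊢
      rw [hD]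
      exact f3
    refine ⟨(Q * P₁⁻¹) * C₁ * (Q * P₁⁻¹)⁻¹, ?_, ?_⟩
    · rw [Units.val_mul, Units.val_mul, Matrix.coe_units_inv]
      exact Matrix.charpoly_units_conj (Q * P₁⁻¹) (dec F m C)
    · have h7 : A * ((Q * P₁⁻¹) * C₁ * (Q * P₁⁻¹)⁻¹) = (Q * P₁⁻¹ * X₁) * C₁ * (Q * P₁⁻¹ * X₁)⁻¹ := by
        have h8 : P₁ * (Q⁻¹ * A * Q) * P₁⁻¹ * C₁ = X₁ * C₁ * X₁⁻¹ := by rw [← f5]; group
        calc A * ((Q * P₁⁻¹) * C₁ * (Q * P₁⁻¹)⁻¹)
            = Q * P₁⁻¹ * (P₁ * (Q⁻¹ * A * Q) * P₁⁻¹ * C₁) * P₁ * Q⁻¹ := by group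
          _ = _ := by rw [h8]; group
      rw [h7, Units.val_mul, Units.val_mul, Matrix.coe_units_inv]
      exact Matrix.charpoly_units_conj (Q * P₁⁻¹ * X₁) (dec F m C)

end Cfsg.Agent.H194.GLTwo
end

-- part: H194/GLTwoCert
section
/-!
# Prescribed irreducible characteristic polynomials in `GL_m(2)`, `m = 3, 4, 5, 6`

`gl_two_three`, ..., `gl_two_six` : for `A ∈ GL_m(F)`, `#F = 2`, `2 ≤ rank (A - 1)`, there is `y ∈ GL_m(F)` such that
`y` and `A y` both have the characteristic polynomial `X ^ 3 + X + 1`, `X ^ 4 + X + 1`, `X ^ 5 + X ^ 2 + 1`,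
`X ^ 6 + X + 1`.
-/

set_option autoImplicit false

namespace Cfsg.Agent.H194.GLTwo

open Polynomial

def C3 : List ℕ := [2, 4, 3]
def D3 : List ℕ := [5, 1, 2]

def cert3 : List (List (List ℕ)) :=
  [[],
   [],
   [[1, 7, 4], [1, 7, 4], [1, 6, 4], [1, 6, 4]],
   [],
   [[7, 1, 4], [2, 7, 4], [7, 2, 4], [7, 2, 4]],
   [[7, 1, 4], [2, 7, 4], [7, 3, 5], [7, 5, 3]],
   [[5, 1, 2], [2, 4, 3], [5, 2, 3], [6, 2, 7]],
   [[6, 1, 3], [2, 6, 7], [6, 2, 7], [5, 2, 3]],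
   [[6, 7, 3], [3, 7, 6], [6, 3, 7], [5, 7, 6]]]

theorem chk3 : all2 (chk 3 C3) (enum 3) cert3 = true := by decide +kernel

def C4 : List ℕ := [2, 4, 8, 3]
def D4 : List ℕ := [9, 1, 2, 4]

def cert4 : List (List (List ℕ)) :=
  [[],
   [],
   [[6, 8, 4, 3], [13, 5, 4, 2], [6, 11, 1, 5], [4, 13, 12, 11]],
   [],
   [[11, 7, 3, 2], [12, 8, 6, 5], [11, 1, 2, 7], [2, 4, 14, 7]],
   [[15, 12, 14, 4], [5, 6, 8, 10], [15, 5, 8, 1], [8, 7, 10, 4]],
   [[1, 5, 6, 10], [1, 7, 3, 15], [1, 13, 15, 8], [1, 6, 11, 8]],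
   [[1, 9, 14, 3], [1, 9, 14, 3], [1, 11, 6, 8], [1, 11, 15, 8]],
   [[4, 12, 11, 13], [10, 13, 1, 3], [4, 15, 10, 6], [7, 9, 1, 13]],
   [],
   [[11, 15, 1, 13], [4, 10, 3, 15], [11, 9, 13, 5], [14, 3, 6, 12]],
   [[2, 12, 10, 7], [14, 1, 7, 5], [2, 9, 8, 4], [6, 1, 8, 4]],
   [[2, 4, 14, 11], [14, 1, 2, 7], [2, 6, 10, 1], [8, 1, 3, 5]],
   [[8, 12, 9, 10], [5, 9, 3, 1], [8, 3, 13, 10], [11, 9, 14, 1]],
   [[8, 6, 15, 4], [7, 10, 8, 1], [8, 9, 12, 15], [3, 15, 5, 1]],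
   [[8, 1, 14, 2], [2, 8, 13, 1], [8, 12, 13, 15], [6, 12, 3, 1]],
   [[11, 9, 6, 14], [14, 3, 7, 12], [11, 7, 14, 4], [13, 7, 8, 11]],
   [[2, 15, 12, 6], [7, 1, 9, 13], [2, 9, 13, 10], [11, 1, 6, 9]],
   [[6, 5, 12, 2], [11, 8, 9, 13], [6, 15, 4, 8], [11, 5, 4, 8]],
   [[3, 12, 14, 10], [7, 6, 12, 14], [3, 13, 15, 6], [7, 6, 14, 11]],
   [[13, 14, 5, 15], [10, 9, 14, 5], [13, 7, 5, 12], [9, 6, 13, 5]],
   [[1, 12, 2, 7], [1, 4, 13, 15], [1, 7, 5, 13], [1, 6, 5, 12]],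
   [[14, 11, 3, 2], [12, 8, 15, 6], [14, 15, 9, 4], [3, 14, 8, 7]],
   [[10, 2, 7, 9], [11, 2, 13, 3], [10, 9, 6, 13], [13, 14, 10, 15]],
   [[11, 4, 6, 12], [13, 6, 2, 10], [11, 13, 14, 2], [14, 8, 11, 7]],
   [[12, 15, 4, 10], [14, 13, 4, 5], [12, 14, 4, 5], [12, 3, 4, 5]],
   [[9, 1, 12, 11], [2, 9, 7, 3], [9, 12, 15, 7], [13, 11, 14, 12]]]

theorem chk4 : all2 (chk 4 C4) (enum 4) cert4 = true := by decide +kernel

def C5 : List ℕ := [2, 4, 8, 16, 5]
def D5 : List ℕ := [18, 1, 2, 4, 8]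

def cert5 : List (List (List ℕ)) :=
  [[],
   [],
   [[2, 31, 30, 24, 20], [6, 1, 13, 21, 29], [2, 8, 4, 16, 9], [18, 1, 4, 2, 8]],
   [],
   [[31, 22, 27, 30, 25], [9, 20, 5, 10, 19], [31, 30, 25, 12, 3], [3, 19, 22, 30, 25]],
   [[5, 29, 8, 23, 9], [20, 14, 21, 4, 7], [5, 20, 18, 31, 4], [17, 22, 16, 13, 18]],
   [[18, 14, 8, 5, 7], [22, 24, 30, 4, 25], [18, 6, 4, 5, 15], [12, 6, 4, 30, 7]],
   [[4, 28, 17, 23, 8], [23, 13, 1, 16, 19], [4, 25, 8, 1, 27], [8, 18, 1, 4, 14]],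
   [[4, 11, 10, 13, 27], [6, 11, 1, 15, 18], [4, 25, 1, 20, 27], [4, 18, 1, 15, 9]],
   [],
   [[7, 27, 15, 29, 11], [11, 30, 20, 5, 18], [7, 24, 23, 29, 9], [23, 11, 29, 7, 5]],
   [[1, 4, 30, 21, 22], [1, 25, 2, 20, 11], [1, 20, 24, 22, 6], [1, 10, 26, 28, 24]],
   [[9, 25, 31, 2, 8], [17, 8, 14, 16, 3], [9, 20, 18, 1, 2], [8, 16, 22, 9, 20]],
   [[14, 4, 28, 20, 17], [26, 15, 2, 12, 10], [14, 24, 8, 13, 31], [23, 30, 27, 4, 6]],
   [[4, 23, 11, 6, 31], [31, 9, 1, 18, 21], [4, 18, 21, 24, 16], [21, 18, 1, 24, 16]],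
   [[12, 29, 2, 27, 13], [17, 4, 14, 15, 18], [12, 7, 23, 18, 1], [16, 14, 28, 29, 6]],
   [[11, 18, 15, 5, 13], [13, 20, 5, 24, 22], [11, 1, 8, 7, 22], [2, 7, 13, 4, 26]],
   [[5, 7, 26, 9, 23], [29, 3, 28, 21, 18], [5, 4, 27, 7, 20], [3, 9, 2, 28, 18]],
   [[28, 7, 25, 26, 16], [11, 7, 14, 31, 16], [28, 29, 2, 7, 19], [3, 4, 15, 25, 23]],
   [[20, 25, 16, 18, 17], [20, 12, 5, 18, 4], [20, 4, 9, 17, 14], [11, 29, 2, 15, 3]],
   [[29, 13, 6, 15, 30], [27, 10, 14, 23, 3], [29, 5, 7, 16, 25], [19, 6, 17, 11, 8]],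
   [[4, 28, 6, 18, 13], [31, 5, 1, 14, 13], [4, 25, 26, 8, 27], [20, 18, 1, 8, 30]],
   [[30, 26, 3, 23, 11], [29, 25, 3, 20, 15], [30, 20, 8, 1, 27], [8, 7, 25, 4, 27]],
   [[30, 5, 7, 24, 23], [13, 6, 15, 28, 20], [30, 6, 11, 3, 9], [28, 20, 22, 12, 15]],
   [[21, 25, 10, 7, 3], [15, 31, 24, 27, 22], [21, 15, 9, 22, 23], [24, 17, 23, 28, 14]],
   [[13, 17, 1, 19, 5], [4, 10, 20, 17, 6], [13, 28, 31, 15, 8], [15, 9, 30, 16, 12]],
   [[22, 23, 3, 6, 13], [3, 7, 15, 28, 9], [22, 1, 19, 6, 10], [2, 15, 7, 31, 9]],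
   [],
   [[4, 25, 20, 14, 27], [28, 18, 1, 27, 5], [4, 8, 13, 15, 22], [7, 12, 1, 2, 29]],
   [[13, 27, 2, 6, 28], [26, 4, 12, 23, 11], [13, 6, 16, 21, 25], [25, 23, 21, 13, 4]],
   [[31, 9, 19, 30, 28], [9, 24, 14, 11, 21], [31, 27, 30, 20, 13], [5, 26, 3, 22, 11]],
   [[16, 1, 15, 19, 26], [2, 11, 23, 26, 1], [16, 8, 1, 13, 26], [4, 19, 14, 2, 1]],
   [[3, 16, 26, 27, 13], [12, 13, 23, 11, 2], [3, 20, 26, 21, 28], [10, 11, 31, 18, 29]],
   [[22, 28, 1, 20, 24], [4, 9, 18, 10, 26], [22, 26, 15, 18, 20], [22, 17, 9, 10, 25]],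
   [[20, 1, 18, 25, 15], [2, 25, 28, 23, 29], [20, 14, 16, 31, 28], [14, 22, 5, 17, 4]],
   [[10, 19, 26, 1, 7], [8, 15, 23, 14, 5], [10, 22, 11, 9, 13], [5, 12, 24, 13, 22]],
   [[21, 10, 4, 16, 22], [13, 28, 4, 30, 8], [21, 5, 31, 17, 24], [11, 22, 9, 19, 3]],
   [[21, 1, 12, 16, 22], [2, 19, 11, 15, 8], [21, 29, 11, 16, 23], [22, 17, 31, 3, 8]],
   [[26, 10, 21, 18, 20], [20, 11, 19, 9, 3], [26, 9, 20, 17, 1], [16, 11, 28, 18, 24]],
   [[12, 15, 14, 11, 28], [6, 5, 10, 11, 17], [12, 17, 1, 4, 2], [4, 16, 8, 9, 6]],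
   [[28, 25, 31, 7, 11], [14, 11, 13, 21, 25], [28, 3, 2, 6, 19], [6, 4, 12, 31, 18]],
   [[2, 13, 30, 12, 21], [10, 1, 23, 31, 13], [2, 16, 10, 4, 5], [24, 1, 8, 5, 2]],
   [[12, 10, 8, 31, 26], [29, 6, 5, 4, 18], [12, 14, 27, 16, 13], [17, 3, 31, 30, 8]],
   [[19, 14, 7, 31, 23], [30, 11, 17, 24, 20], [19, 1, 4, 7, 29], [2, 14, 4, 27, 13]],
   [[13, 30, 8, 12, 11], [9, 29, 12, 4, 23], [13, 20, 30, 23, 15], [27, 17, 13, 23, 15]],
   [[23, 18, 4, 13, 3], [7, 23, 4, 11, 21], [23, 24, 16, 22, 26], [9, 18, 30, 6, 4]],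
   [[25, 2, 24, 18, 13], [5, 2, 27, 14, 10], [25, 19, 3, 29, 31], [28, 24, 9, 27, 6]],
   [[28, 1, 25, 23, 9], [2, 25, 7, 18, 20], [28, 24, 31, 10, 6], [22, 19, 3, 27, 25]],
   [[26, 21, 4, 7, 31], [21, 25, 4, 11, 19], [26, 11, 12, 24, 4], [31, 9, 16, 20, 28]],
   [[12, 11, 19, 14, 4], [26, 9, 16, 17, 23], [12, 20, 18, 25, 9], [11, 28, 26, 27, 24]],
   [[22, 14, 18, 16, 15], [18, 12, 5, 11, 8], [22, 30, 17, 12, 28], [28, 18, 11, 3, 24]],
   [[31, 23, 4, 10, 24], [30, 11, 4, 3, 19], [31, 12, 24, 29, 23], [31, 9, 19, 17, 21]],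
   [[15, 10, 1, 3, 18], [4, 12, 7, 14, 28], [15, 27, 13, 30, 12], [20, 5, 30, 14, 29]],
   [[20, 6, 8, 10, 15], [22, 12, 14, 4, 15], [20, 22, 13, 18, 17], [27, 3, 10, 21, 11]],
   [[3, 21, 5, 14, 9], [29, 28, 25, 13, 6], [3, 6, 26, 23, 29], [22, 23, 21, 15, 28]],
   [[13, 8, 10, 14, 24], [15, 6, 12, 2, 18], [13, 11, 22, 31, 30], [24, 14, 13, 20, 7]],
   [[26, 4, 18, 1, 28], [8, 19, 2, 5, 23], [26, 27, 16, 14, 29], [3, 31, 13, 26, 4]],
   [[17, 18, 10, 8, 15], [15, 12, 27, 8, 14], [17, 30, 3, 31, 26], [10, 14, 18, 21, 11]],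
   [[23, 19, 11, 22, 31], [9, 28, 3, 17, 23], [23, 22, 27, 11, 4], [3, 30, 16, 21, 12]],
   [[9, 31, 23, 14, 5], [7, 25, 23, 6, 13], [9, 11, 8, 15, 17], [5, 3, 10, 4, 21]],
   [[2, 26, 8, 13, 25], [19, 1, 31, 4, 7], [2, 22, 6, 27, 14], [27, 1, 5, 20, 6]],
   [[20, 19, 18, 14, 30], [6, 28, 25, 13, 24], [20, 12, 3, 29, 2], [20, 16, 31, 29, 30]],
   [[12, 29, 24, 18, 11], [28, 23, 26, 27, 31], [12, 18, 26, 5, 17], [15, 29, 7, 6, 31]],
   [[9, 8, 5, 2, 25], [3, 8, 7, 2, 17], [9, 31, 23, 6, 10], [7, 22, 30, 6, 11]],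
   [[6, 4, 16, 1, 8], [8, 3, 2, 16, 4], [6, 24, 2, 16, 3], [20, 4, 5, 10, 8]],
   [[17, 29, 15, 20, 28], [18, 21, 27, 24, 19], [17, 25, 26, 29, 23], [29, 27, 10, 3, 28]],
   [[8, 16, 29, 19, 28], [20, 30, 19, 1, 2], [8, 29, 25, 9, 23], [9, 19, 6, 1, 12]],
   [[19, 26, 6, 16, 4], [29, 20, 16, 30, 8], [19, 30, 24, 10, 17], [13, 17, 23, 25, 29]],
   [[4, 3, 14, 31, 11], [21, 23, 1, 18, 25], [4, 7, 31, 8, 1], [16, 19, 1, 8, 14]],
   [[31, 12, 2, 25, 28], [21, 4, 13, 15, 18], [31, 5, 18, 19, 10], [12, 23, 14, 7, 19]],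
   [[31, 24, 14, 18, 2], [29, 16, 14, 26, 24], [31, 6, 7, 18, 29], [6, 17, 19, 28, 25]],
   [[17, 29, 15, 2, 7], [15, 8, 23, 20, 14], [17, 28, 15, 31, 4], [13, 7, 16, 30, 12]],
   [[11, 2, 19, 23, 5], [28, 2, 12, 31, 26], [11, 26, 4, 14, 7], [13, 25, 4, 21, 14]],
   [[31, 16, 20, 2, 7], [30, 8, 6, 19, 2], [31, 6, 10, 2, 22], [29, 8, 10, 12, 18]],
   [[11, 5, 19, 20, 18], [20, 14, 22, 27, 30], [11, 7, 22, 16, 19], [14, 22, 26, 25, 8]],
   [[14, 6, 11, 24, 26], [31, 24, 26, 3, 11], [14, 20, 19, 21, 22], [10, 18, 30, 13, 28]],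
   [[17, 5, 23, 21, 13], [11, 12, 9, 18, 10], [17, 15, 19, 7, 9], [26, 5, 23, 10, 27]],
   [[10, 21, 19, 13, 27], [15, 21, 19, 20, 30], [10, 3, 30, 24, 19], [25, 27, 23, 26, 18]],
   [[8, 6, 12, 26, 27], [24, 7, 5, 1, 14], [8, 13, 27, 9, 29], [9, 30, 10, 1, 18]],
   [[29, 21, 11, 10, 14], [12, 11, 24, 3, 22], [29, 5, 14, 17, 8], [27, 13, 25, 16, 19]],
   [[23, 2, 7, 29, 12], [29, 2, 27, 11, 5], [23, 30, 6, 3, 13], [31, 23, 19, 28, 26]]]

theorem chk5 : all2 (chk 5 C5) (enum 5) cert5 = true := by decide +kernel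

def C6 : List ℕ := [2, 4, 8, 16, 32, 3]
def D6 : List ℕ := [33, 1, 2, 4, 8, 16]

def cert6 : List (List (List ℕ)) :=
  [[],
   [],
   [[62, 23, 43, 55, 37, 36], [48, 7, 42, 57, 31, 10], [62, 27, 18, 1, 2, 33], [8, 16, 35, 14, 20, 40]],
   [],
   [[63, 37, 19, 14, 59, 55], [38, 56, 17, 33, 26, 53], [63, 6, 2, 10, 33, 1], [32, 4, 6, 12, 31, 48]],
   [[18, 9, 6, 57, 8, 2], [18, 32, 36, 16, 33, 43], [18, 21, 17, 19, 44, 27], [9, 12, 6, 40, 13, 62]],
   [[18, 41, 12, 2, 22, 58], [35, 8, 17, 21, 9, 52], [18, 10, 44, 25, 48, 27], [11, 40, 23, 42, 41, 57]],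
   [[54, 32, 49, 27, 31, 15], [54, 43, 24, 37, 48, 2], [54, 52, 36, 4, 19, 45], [21, 3, 8, 49, 6, 12]],
   [[62, 58, 46, 21, 36, 50], [14, 54, 3, 34, 5, 19], [62, 14, 45, 25, 3, 33], [54, 38, 15, 43, 21, 22]],
   [],
   [[46, 58, 44, 12, 6, 33], [44, 5, 21, 29, 22, 12], [46, 63, 61, 62, 31, 57], [10, 6, 36, 49, 9, 18]],
   [[30, 44, 47, 51, 39, 40], [11, 13, 34, 20, 58, 52], [30, 8, 36, 4, 27, 17], [25, 50, 8, 2, 57, 12]],
   [[13, 45, 26, 63, 21, 46], [55, 21, 56, 14, 31, 3], [13, 63, 2, 30, 38, 42], [49, 4, 47, 31, 60, 59]],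
   [[28, 27, 30, 58, 62, 47], [30, 5, 24, 55, 46, 20], [28, 2, 11, 22, 50, 18], [13, 2, 40, 11, 34, 48]],
   [[17, 51, 18, 6, 47, 52], [42, 47, 39, 30, 43, 44], [17, 34, 40, 58, 12, 56], [37, 40, 62, 46, 36, 42]],
   [[24, 14, 20, 47, 25, 8], [17, 7, 37, 32, 33, 27], [24, 11, 22, 44, 45, 20], [24, 36, 31, 62, 63, 41]],
   [[7, 9, 27, 59, 2, 61], [41, 16, 56, 43, 22, 12], [7, 14, 60, 2, 31, 37], [53, 8, 60, 54, 39, 41]],
   [[43, 25, 51, 55, 13, 49], [7, 36, 12, 27, 30, 57], [43, 34, 57, 49, 44, 31], [15, 56, 38, 12, 61, 58]],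
   [[26, 19, 52, 2, 48, 62], [47, 8, 20, 44, 37, 53], [26, 2, 4, 12, 42, 23], [41, 2, 4, 12, 15, 30]],
   [[34, 45, 46, 30, 19, 21], [29, 27, 43, 46, 22, 26], [34, 1, 9, 47, 32, 51], [2, 17, 13, 6, 35, 16]],
   [[9, 58, 38, 26, 22, 17], [62, 41, 39, 63, 30, 10], [9, 4, 18, 57, 16, 44], [58, 20, 2, 59, 16, 25]],
   [[58, 11, 43, 7, 23, 41], [29, 36, 49, 59, 24, 6], [58, 37, 48, 52, 7, 39], [62, 34, 12, 39, 52, 48]],
   [[37, 45, 11, 10, 28, 55], [12, 11, 57, 3, 42, 52], [37, 30, 23, 47, 33, 22], [36, 43, 17, 34, 26, 52]],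
   [[10, 54, 20, 31, 24, 57], [13, 59, 46, 58, 42, 61], [10, 31, 12, 57, 23, 15], [55, 19, 22, 18, 34, 15]],
   [[9, 26, 1, 41, 52, 43], [4, 40, 54, 5, 47, 9], [9, 58, 53, 52, 3, 44], [12, 28, 27, 13, 37, 54]],
   [[2, 10, 46, 51, 3, 16], [17, 1, 62, 3, 32, 56], [2, 23, 51, 43, 56, 3], [33, 1, 26, 52, 56, 28]],
   [[24, 9, 47, 12, 34, 30], [28, 55, 22, 30, 31, 39], [24, 35, 43, 10, 58, 20], [19, 14, 39, 6, 7, 31]],
   [],
   [[58, 15, 40, 3, 1, 34], [16, 24, 54, 60, 29, 56], [58, 51, 6, 43, 50, 39], [18, 61, 57, 17, 27, 54]],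
   [[2, 27, 59, 53, 49, 3], [33, 1, 24, 21, 55, 6], [2, 54, 62, 45, 57, 3], [33, 1, 52, 6, 44, 27]],
   [[55, 57, 23, 31, 58, 62], [45, 63, 48, 12, 38, 5], [55, 38, 42, 57, 20, 13], [38, 15, 53, 51, 37, 56]],
   [[42, 63, 37, 56, 13, 11], [58, 21, 37, 15, 28, 27], [42, 47, 50, 31, 51, 63], [20, 14, 23, 39, 34, 40]],
   [[27, 43, 44, 15, 49, 13], [19, 40, 61, 14, 52, 55], [27, 10, 42, 46, 24, 55], [56, 41, 12, 43, 59, 6]],
   [[35, 26, 39, 1, 20, 2], [8, 32, 5, 55, 21, 41], [35, 45, 38, 49, 54, 19], [41, 29, 44, 50, 20, 53]],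
   [[28, 32, 50, 7, 29, 12], [17, 39, 62, 30, 33, 2], [28, 38, 30, 46, 9, 18], [26, 5, 46, 10, 37, 41]],
   [[47, 49, 58, 9, 27, 48], [34, 14, 49, 42, 22, 54], [47, 29, 49, 1, 16, 25], [8, 15, 34, 56, 16, 28]],
   [[12, 63, 14, 23, 16, 26], [41, 5, 52, 53, 16, 63], [12, 39, 13, 26, 5, 10], [5, 52, 21, 20, 40, 38]],
   [[11, 42, 16, 36, 12, 22], [53, 26, 62, 46, 4, 54], [11, 12, 56, 3, 54, 47], [30, 22, 11, 9, 39, 42]],
   [[46, 42, 58, 35, 48, 1], [32, 62, 3, 42, 6, 22], [46, 30, 61, 24, 1, 57], [16, 46, 36, 51, 59, 56]],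
   [[50, 53, 6, 34, 40, 44], [7, 52, 48, 44, 9, 60], [50, 33, 7, 4, 55, 43], [25, 21, 8, 55, 15, 27]],
   [[58, 52, 3, 42, 7, 50], [50, 54, 20, 33, 9, 31], [58, 52, 27, 40, 10, 39], [43, 54, 19, 38, 63, 46]],
   [[24, 4, 41, 15, 59, 26], [31, 33, 2, 52, 53, 47], [24, 8, 32, 42, 35, 20], [26, 14, 35, 2, 3, 4]],
   [[55, 44, 59, 24, 37, 1], [32, 43, 55, 50, 58, 7], [55, 6, 32, 41, 31, 13], [25, 46, 44, 21, 30, 4]],
   [[60, 27, 4, 28, 37, 22], [29, 19, 4, 59, 55, 9], [60, 29, 13, 20, 24, 34], [28, 63, 14, 22, 6, 31]],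
   [[47, 51, 55, 21, 10, 16], [46, 53, 6, 37, 32, 57], [47, 46, 26, 6, 23, 25], [3, 39, 47, 56, 27, 50]],
   [[19, 36, 26, 33, 42, 32], [40, 29, 34, 45, 52, 32], [19, 38, 52, 46, 31, 59], [7, 50, 27, 10, 52, 43]],
   [[24, 26, 58, 11, 35, 55], [21, 3, 47, 30, 31, 6], [24, 53, 9, 38, 10, 20], [27, 15, 62, 31, 30, 57]],
   [[1, 10, 14, 16, 61, 28], [1, 44, 6, 46, 8, 49], [1, 59, 41, 11, 47, 32], [1, 44, 56, 37, 42, 32]],
   [[49, 16, 24, 58, 37, 47], [57, 54, 19, 6, 2, 58], [49, 41, 43, 39, 29, 8], [63, 6, 44, 32, 35, 29]],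
   [[58, 11, 35, 54, 31, 53], [30, 54, 35, 42, 49, 44], [58, 32, 55, 27, 40, 39], [11, 53, 28, 18, 36, 2]],
   [[6, 1, 63, 14, 37, 30], [2, 53, 52, 9, 40, 38], [6, 19, 12, 61, 8, 5], [52, 21, 20, 16, 35, 27]],
   [[21, 40, 60, 26, 45, 32], [7, 57, 21, 34, 19, 32], [21, 22, 30, 26, 6, 62], [31, 28, 12, 6, 18, 36]],
   [[9, 1, 28, 7, 44, 40], [2, 58, 48, 3, 55, 35], [9, 8, 22, 40, 20, 44], [3, 20, 40, 2, 56, 10]],
   [[4, 5, 47, 40, 37, 48], [3, 14, 1, 26, 50, 18], [4, 50, 26, 17, 53, 6], [50, 33, 1, 31, 58, 25]],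
   [[47, 43, 21, 45, 9, 18], [46, 9, 3, 62, 41, 27], [47, 29, 2, 58, 49, 25], [23, 4, 34, 11, 60, 59]],
   [[15, 1, 11, 28, 33, 31], [2, 42, 5, 44, 33, 18], [15, 42, 10, 61, 26, 41], [57, 27, 60, 31, 20, 6]],
   [[22, 20, 8, 29, 40, 17], [14, 3, 44, 4, 46, 20], [22, 52, 27, 26, 4, 29], [12, 52, 16, 25, 37, 55]],
   [[14, 1, 17, 63, 34, 25], [2, 29, 56, 36, 6, 13], [14, 50, 42, 23, 29, 9], [15, 55, 25, 47, 41, 28]],
   [[43, 19, 57, 12, 46, 54], [7, 43, 22, 30, 46, 51], [43, 44, 8, 45, 2, 31], [10, 16, 25, 4, 39, 31]],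
   [[41, 45, 39, 49, 12, 27], [60, 21, 3, 19, 26, 46], [41, 13, 33, 58, 6, 28], [60, 43, 59, 5, 30, 56]],
   [[24, 50, 29, 30, 2, 18], [28, 16, 25, 49, 48, 34], [24, 44, 4, 59, 42, 20], [60, 22, 4, 37, 36, 35]],
   [[5, 26, 10, 6, 46, 41], [56, 49, 57, 53, 6, 45], [5, 6, 40, 39, 27, 38], [40, 43, 41, 38, 53, 34]],
   [[50, 5, 23, 21, 41, 10], [59, 12, 57, 44, 10, 7], [50, 27, 24, 14, 34, 43], [37, 35, 62, 21, 17, 51]],
   [[39, 60, 55, 32, 18, 4], [60, 21, 32, 47, 5, 8], [39, 26, 17, 27, 24, 21], [10, 18, 36, 30, 14, 61]],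
   [[28, 30, 31, 11, 43, 36], [6, 3, 56, 13, 52, 24], [28, 56, 19, 39, 6, 18], [36, 47, 63, 49, 15, 60]],
   [[42, 20, 60, 28, 38, 29], [40, 7, 27, 10, 25, 12], [42, 4, 26, 6, 55, 63], [29, 10, 2, 48, 62, 59]],
   [[61, 19, 20, 56, 33, 39], [54, 15, 63, 21, 59, 38], [61, 45, 6, 50, 7, 2], [20, 32, 36, 25, 3, 43]],
   [[56, 52, 41, 9, 10, 53], [34, 58, 41, 42, 39, 12], [56, 25, 13, 16, 3, 36], [45, 61, 14, 39, 8, 46]],
   [[49, 31, 41, 17, 53, 5], [49, 39, 17, 60, 57, 9], [49, 23, 24, 34, 9, 8], [48, 29, 11, 32, 36, 21]],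
   [[15, 47, 8, 43, 38, 25], [22, 25, 10, 4, 50, 3], [15, 45, 9, 40, 18, 41], [40, 39, 34, 44, 55, 36]],
   [[44, 30, 37, 45, 63, 39], [9, 36, 22, 12, 60, 27], [44, 25, 9, 24, 32, 58], [10, 56, 31, 14, 6, 16]],
   [[36, 33, 59, 40, 61, 14], [62, 41, 61, 52, 27, 60], [36, 43, 51, 48, 22, 54], [21, 25, 49, 62, 56, 48]],
   [[6, 40, 35, 27, 49, 12], [39, 26, 27, 59, 14, 57], [6, 33, 31, 44, 49, 5], [61, 28, 29, 42, 18, 63]],
   [[44, 19, 30, 28, 21, 3], [44, 12, 30, 52, 34, 43], [44, 17, 62, 50, 51, 58], [24, 31, 36, 40, 26, 13]],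
   [[41, 56, 2, 14, 57, 22], [18, 4, 53, 57, 17, 42], [41, 43, 54, 58, 47, 28], [38, 3, 18, 30, 44, 57]],
   [[3, 45, 62, 50, 26, 24], [49, 48, 43, 39, 7, 63], [3, 63, 49, 22, 34, 35], [48, 49, 44, 27, 21, 33]],
   [[38, 57, 17, 59, 61, 33], [57, 10, 18, 31, 61, 25], [38, 4, 16, 58, 29, 53], [25, 60, 2, 15, 4, 63]],
   [[12, 6, 53, 40, 21, 60], [56, 31, 29, 28, 53, 20], [12, 54, 38, 50, 39, 10], [20, 43, 10, 11, 6, 37]],
   [[60, 4, 10, 41, 12, 59], [53, 22, 2, 18, 62, 47], [60, 57, 16, 42, 40, 34], [22, 24, 21, 40, 4, 56]],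
   [[42, 43, 57, 23, 53, 21], [3, 40, 13, 25, 46, 48], [42, 53, 16, 9, 46, 63], [52, 30, 17, 60, 4, 35]],
   [[24, 51, 37, 52, 39, 4], [62, 20, 32, 51, 50, 26], [24, 38, 58, 36, 59, 20], [20, 10, 7, 38, 39, 15]],
   [],
   [[38, 9, 28, 37, 24, 5], [52, 61, 20, 54, 38, 40], [38, 18, 36, 11, 22, 3], [37, 5, 18, 40, 7, 22]],
   [[11, 20, 50, 62, 52, 14], [25, 44, 56, 52, 58, 18], [11, 61, 38, 30, 8, 1], [32, 49, 46, 16, 7, 27]],
   [[2, 26, 49, 58, 30, 42], [38, 1, 18, 43, 40, 10], [2, 56, 43, 21, 42, 15], [20, 1, 15, 58, 19, 43]],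
   [[1, 49, 4, 16, 51, 29], [1, 18, 4, 45, 8, 11], [1, 34, 23, 62, 60, 56], [1, 24, 48, 23, 45, 26]],
   [[39, 44, 43, 56, 46, 30], [41, 18, 61, 56, 55, 7], [39, 61, 20, 40, 5, 49], [14, 37, 30, 60, 26, 52]],
   [[18, 52, 32, 31, 14, 12], [41, 48, 55, 23, 49, 4], [18, 59, 57, 34, 45, 8], [45, 6, 19, 32, 7, 14]],
   [[47, 32, 29, 62, 56, 11], [53, 59, 35, 46, 60, 2], [47, 29, 2, 58, 4, 63], [56, 4, 16, 11, 33, 38]],
   [[6, 36, 43, 2, 28, 10], [47, 8, 9, 40, 49, 11], [6, 48, 35, 57, 5, 20], [39, 54, 55, 45, 23, 21]],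
   [[39, 14, 38, 27, 28, 43], [5, 35, 62, 31, 49, 25], [39, 48, 35, 56, 26, 32], [28, 56, 5, 10, 34, 32]],
   [[34, 19, 50, 31, 27, 25], [55, 48, 24, 18, 5, 49], [34, 5, 57, 49, 61, 10], [22, 44, 20, 12, 51, 45]],
   [[17, 46, 32, 58, 2, 47], [34, 16, 41, 63, 35, 4], [17, 21, 50, 10, 49, 6], [55, 35, 3, 43, 54, 17]],
   [[38, 35, 9, 61, 50, 40], [57, 38, 58, 61, 43, 29], [38, 6, 56, 63, 52, 22], [14, 51, 49, 37, 34, 3]],
   [[16, 22, 17, 3, 50, 56], [5, 13, 14, 61, 1, 28], [16, 41, 3, 6, 12, 27], [57, 61, 53, 37, 1, 30]],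
   [[43, 19, 21, 53, 49, 18], [34, 30, 24, 49, 62, 12], [43, 53, 63, 2, 50, 3], [40, 8, 50, 14, 55, 47]],
   [[29, 35, 48, 23, 12, 28], [33, 23, 14, 30, 48, 52], [29, 56, 49, 4, 54, 45], [37, 57, 8, 35, 15, 46]],
   [[39, 24, 53, 8, 25, 35], [18, 15, 33, 8, 10, 61], [39, 56, 29, 30, 11, 43], [11, 7, 61, 28, 46, 48]],
   [[6, 56, 5, 48, 47, 15], [43, 46, 47, 10, 56, 48], [6, 7, 17, 51, 21, 26], [3, 21, 20, 50, 7, 25]],
   [[4, 59, 24, 57, 46, 27], [46, 10, 1, 57, 61, 34], [4, 1, 42, 33, 8, 56], [2, 30, 1, 16, 58, 10]],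
   [[17, 31, 23, 40, 24, 21], [23, 36, 33, 6, 22, 14], [17, 30, 60, 56, 1, 63], [16, 52, 12, 43, 17, 50]],
   [[18, 48, 36, 13, 16, 56], [60, 17, 22, 34, 16, 18], [18, 13, 11, 23, 62, 10], [36, 43, 45, 11, 42, 55]],
   [[1, 48, 11, 26, 14, 34], [1, 47, 21, 42, 13, 15], [1, 32, 16, 37, 58, 25], [1, 51, 11, 37, 4, 2]],
   [[1, 7, 21, 5, 48, 10], [1, 10, 9, 42, 12, 28], [1, 49, 56, 60, 45, 35], [1, 59, 12, 7, 25, 26]],
   [[15, 63, 57, 17, 36, 4], [59, 38, 32, 60, 51, 48], [15, 27, 46, 54, 6, 49], [56, 54, 38, 41, 37, 61]],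
   [[48, 1, 45, 18, 3, 53], [2, 18, 35, 62, 26, 27], [48, 50, 9, 3, 62, 17], [11, 3, 29, 15, 43, 42]],
   [[31, 24, 22, 36, 38, 61], [42, 24, 49, 47, 45, 57], [31, 34, 7, 59, 5, 19], [15, 20, 31, 62, 59, 22]],
   [[51, 43, 44, 25, 48, 60], [11, 26, 23, 39, 36, 52], [51, 9, 31, 6, 5, 7], [40, 48, 56, 42, 14, 23]],
   [[27, 20, 60, 9, 5, 55], [55, 44, 39, 63, 37, 57], [27, 34, 7, 14, 19, 61], [29, 58, 35, 17, 55, 56]],
   [[33, 27, 45, 9, 61, 4], [45, 30, 32, 37, 20, 44], [33, 2, 61, 57, 50, 60], [36, 2, 12, 62, 55, 37]],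
   [[47, 2, 49, 58, 33, 10], [44, 2, 49, 34, 20, 60], [47, 62, 57, 49, 10, 24], [47, 28, 53, 12, 44, 11]],
   [[13, 52, 50, 51, 49, 37], [12, 24, 30, 19, 46, 50], [13, 35, 10, 22, 24, 48], [54, 47, 28, 43, 59, 27]],
   [[34, 62, 22, 16, 59, 35], [33, 63, 51, 56, 8, 62], [34, 48, 35, 55, 61, 44], [5, 54, 57, 46, 53, 55]],
   [[33, 3, 42, 21, 28, 27], [31, 29, 50, 7, 37, 30], [33, 12, 55, 36, 41, 48], [26, 45, 19, 17, 59, 27]],
   [[5, 25, 62, 4, 57, 11], [9, 21, 8, 60, 55, 18], [5, 29, 7, 36, 61, 11], [27, 5, 26, 62, 61, 18]],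
   [[47, 9, 55, 50, 21, 14], [27, 46, 23, 25, 28, 58], [47, 28, 63, 29, 7, 60], [10, 46, 52, 51, 5, 34]],
   [[22, 2, 1, 16, 12, 44], [4, 2, 11, 27, 8, 48], [22, 48, 9, 24, 16, 28], [28, 57, 40, 24, 16, 18]],
   [[34, 23, 5, 11, 38, 42], [21, 60, 17, 33, 58, 61], [34, 9, 62, 29, 22, 25], [13, 26, 40, 15, 34, 27]],
   [[27, 57, 22, 5, 61, 20], [26, 36, 18, 13, 50, 39], [27, 38, 4, 42, 37, 10], [60, 46, 4, 14, 29, 40]],
   [[14, 44, 57, 23, 41, 63], [56, 14, 42, 37, 20, 13], [14, 8, 40, 52, 51, 31], [27, 55, 52, 2, 58, 6]],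
   [[54, 18, 21, 47, 17, 28], [61, 47, 20, 25, 45, 23], [54, 58, 24, 19, 9, 36], [41, 28, 58, 57, 61, 26]],
   [[31, 50, 42, 57, 15, 52], [37, 56, 26, 23, 17, 43], [31, 53, 21, 57, 1, 40], [16, 35, 44, 38, 56, 6]],
   [[2, 7, 16, 51, 24, 25], [48, 1, 51, 20, 4, 61], [2, 26, 38, 47, 27, 33], [18, 1, 55, 30, 29, 50]],
   [[48, 51, 46, 28, 26, 61], [14, 13, 21, 58, 39, 38], [48, 18, 35, 4, 10, 16], [7, 34, 8, 50, 32, 33]],
   [[26, 57, 56, 61, 36, 16], [6, 31, 10, 62, 32, 26], [26, 21, 43, 9, 22, 42], [36, 54, 61, 44, 27, 58]],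
   [[13, 7, 36, 40, 62, 24], [13, 52, 59, 55, 23, 63], [13, 50, 19, 2, 49, 8], [26, 8, 59, 32, 22, 28]],
   [[55, 61, 35, 25, 29, 63], [52, 34, 24, 33, 29, 18], [55, 20, 47, 39, 57, 50], [42, 22, 11, 12, 9, 63]],
   [[13, 27, 24, 15, 40, 33], [15, 9, 49, 63, 59, 47], [13, 60, 36, 10, 62, 6], [41, 18, 50, 26, 28, 54]],
   [[52, 56, 5, 36, 3, 14], [51, 35, 55, 52, 9, 63], [52, 57, 28, 12, 48, 50], [11, 48, 17, 25, 12, 28]],
   [[37, 28, 3, 52, 30, 35], [22, 18, 51, 46, 31, 36], [37, 32, 52, 19, 40, 24], [55, 13, 52, 18, 50, 2]],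
   [[43, 18, 6, 34, 28, 12], [31, 50, 54, 22, 48, 58], [43, 2, 47, 21, 11, 22], [42, 2, 5, 56, 39, 17]],
   [[57, 2, 8, 45, 23, 17], [27, 2, 50, 4, 59, 37], [57, 47, 7, 37, 18, 5], [51, 36, 19, 46, 52, 40]],
   [[2, 56, 35, 63, 29, 51], [28, 1, 23, 63, 36, 25], [2, 14, 34, 39, 35, 31], [20, 1, 24, 27, 54, 5]],
   [[54, 29, 37, 12, 46, 38], [43, 15, 56, 48, 33, 23], [54, 19, 45, 14, 30, 2], [58, 32, 47, 7, 24, 22]],
   [[56, 25, 46, 5, 17, 3], [61, 29, 53, 18, 45, 62], [56, 2, 38, 61, 46, 9], [52, 2, 61, 20, 46, 59]],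
   [[62, 30, 45, 33, 23, 24], [11, 55, 21, 25, 57, 3], [62, 12, 24, 3, 53, 9], [57, 49, 27, 25, 29, 47]],
   [[51, 36, 27, 44, 57, 47], [51, 27, 13, 10, 38, 15], [51, 50, 14, 29, 58, 31], [3, 40, 62, 18, 39, 13]],
   [[30, 3, 43, 28, 57, 11], [11, 9, 55, 34, 29, 36], [30, 48, 7, 9, 21, 42], [62, 25, 35, 54, 13, 15]],
   [[45, 20, 63, 19, 36, 22], [13, 34, 37, 28, 39, 53], [45, 23, 32, 52, 18, 19], [48, 62, 34, 23, 46, 4]],
   [[11, 7, 9, 57, 17, 23], [50, 5, 53, 54, 34, 46], [11, 33, 54, 48, 62, 46], [58, 47, 35, 20, 48, 56]],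
   [[45, 20, 19, 11, 40, 41], [48, 23, 33, 47, 35, 63], [45, 39, 52, 8, 12, 5], [56, 11, 24, 8, 53, 41]],
   [[63, 48, 26, 40, 14, 16], [19, 14, 52, 42, 32, 34], [63, 27, 56, 11, 4, 50], [44, 57, 16, 29, 10, 19]],
   [[11, 10, 31, 15, 36, 9], [3, 33, 9, 35, 12, 25], [11, 13, 48, 62, 44, 37], [63, 49, 50, 15, 41, 45]],
   [[63, 42, 49, 5, 10, 41], [29, 63, 21, 47, 11, 18], [63, 11, 12, 25, 40, 6], [38, 29, 61, 57, 23, 41]],
   [[37, 58, 23, 6, 29, 18], [63, 19, 27, 7, 51, 37], [37, 9, 18, 1, 48, 60], [8, 39, 58, 10, 35, 51]],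
   [[40, 57, 47, 51, 23, 4], [22, 51, 32, 57, 21, 56], [40, 19, 50, 8, 44, 10], [15, 40, 17, 8, 37, 9]],
   [[9, 44, 38, 31, 34, 2], [39, 32, 20, 38, 61, 48], [9, 20, 1, 32, 47, 63], [4, 43, 50, 5, 48, 8]],
   [[5, 19, 58, 2, 23, 27], [19, 8, 18, 34, 25, 55], [5, 54, 3, 47, 52, 59], [22, 18, 23, 35, 63, 56]],
   [[51, 50, 48, 10, 14, 42], [3, 6, 24, 14, 44, 40], [51, 44, 41, 39, 55, 19], [23, 47, 17, 50, 24, 33]],
   [[61, 42, 37, 17, 28, 29], [48, 30, 21, 61, 56, 33], [61, 10, 48, 4, 45, 49], [36, 43, 8, 41, 17, 21]],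
   [[62, 63, 26, 56, 9, 31], [3, 46, 39, 19, 57, 34], [62, 26, 38, 41, 61, 44], [22, 7, 62, 35, 38, 61]],
   [[30, 46, 53, 6, 2, 39], [31, 16, 24, 61, 52, 55], [30, 36, 51, 6, 63, 42], [45, 54, 62, 42, 35, 60]],
   [[39, 62, 40, 57, 63, 3], [18, 50, 42, 15, 30, 11], [39, 9, 35, 57, 15, 1], [32, 23, 5, 34, 57, 51]],
   [[1, 9, 55, 45, 33, 35], [1, 48, 27, 3, 63, 17], [1, 2, 50, 17, 42, 30], [1, 2, 54, 29, 9, 15]],
   [[29, 3, 40, 44, 46, 17], [26, 24, 12, 45, 58, 41], [29, 51, 13, 50, 48, 41], [10, 24, 49, 63, 5, 21]],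
   [[18, 22, 16, 47, 54, 53], [53, 5, 3, 41, 4, 18], [18, 35, 36, 12, 56, 17], [60, 29, 39, 47, 28, 35]],
   [[32, 6, 55, 54, 42, 4], [12, 34, 32, 51, 11, 1], [32, 14, 28, 30, 26, 25], [60, 12, 24, 22, 10, 1]],
   [[12, 30, 4, 3, 36, 13], [33, 41, 4, 5, 42, 20], [12, 59, 25, 53, 42, 1], [32, 11, 23, 22, 50, 13]],
   [[25, 38, 22, 26, 55, 6], [54, 63, 31, 19, 36, 34], [25, 13, 55, 49, 9, 1], [32, 30, 18, 48, 17, 57]],
   [[50, 38, 52, 30, 29, 19], [38, 62, 59, 53, 56, 7], [50, 5, 15, 29, 22, 59], [30, 57, 28, 63, 53, 13]],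
   [[11, 18, 29, 12, 49, 28], [36, 42, 7, 15, 40, 28], [11, 4, 40, 27, 63, 45], [38, 57, 2, 30, 9, 26]],
   [[13, 35, 59, 4, 19, 58], [36, 31, 8, 45, 43, 57], [13, 10, 53, 23, 24, 1], [32, 25, 58, 27, 11, 21]],
   [[54, 14, 1, 49, 23, 45], [4, 51, 62, 15, 25, 21], [54, 24, 8, 40, 36, 11], [51, 23, 28, 4, 6, 12]],
   [[10, 30, 48, 19, 43, 4], [54, 29, 32, 28, 35, 39], [10, 46, 11, 3, 6, 24], [5, 13, 29, 12, 44, 30]],
   [[62, 1, 50, 33, 21, 26], [2, 55, 43, 46, 57, 10], [62, 51, 60, 46, 32, 25], [30, 5, 42, 55, 9, 16]],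
   [[14, 45, 61, 20, 6, 48], [59, 30, 14, 17, 6, 38], [14, 63, 30, 44, 25, 1], [32, 47, 27, 53, 5, 38]],
   [[47, 31, 33, 19, 32, 20], [20, 15, 51, 57, 19, 16], [47, 46, 33, 34, 52, 6], [3, 15, 47, 37, 56, 7]],
   [[49, 40, 15, 8, 2, 3], [48, 16, 44, 8, 59, 10], [49, 6, 30, 61, 42, 58], [42, 61, 63, 54, 48, 27]],
   [[38, 43, 18, 12, 5, 41], [11, 34, 27, 19, 38, 56], [38, 34, 50, 23, 59, 8], [52, 57, 3, 32, 6, 59]],
   [[37, 49, 2, 23, 12, 47], [15, 4, 53, 37, 54, 59], [37, 54, 56, 20, 55, 46], [18, 44, 53, 31, 61, 38]],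
   [[59, 48, 55, 52, 44, 62], [43, 39, 10, 15, 23, 21], [59, 33, 13, 15, 20, 37], [27, 12, 34, 61, 50, 25]],
   [[40, 24, 29, 2, 11, 23], [52, 8, 50, 44, 46, 45], [40, 22, 25, 45, 3, 41], [33, 49, 40, 62, 27, 63]],
   [[26, 25, 9, 43, 14, 18], [37, 38, 23, 33, 6, 42], [26, 22, 35, 21, 38, 46], [39, 45, 51, 48, 28, 14]],
   [[14, 10, 11, 61, 21, 47], [6, 61, 3, 63, 21, 39], [14, 62, 34, 27, 51, 49], [35, 48, 29, 44, 55, 52]],
   [[53, 30, 31, 14, 18, 22], [6, 26, 48, 34, 10, 61], [53, 39, 28, 2, 4, 9], [63, 8, 16, 31, 11, 37]],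
   [[37, 47, 58, 46, 35, 22], [10, 44, 61, 47, 49, 54], [37, 34, 9, 29, 46, 1], [32, 21, 54, 36, 58, 23]],
   [[9, 46, 29, 35, 52, 40], [52, 41, 11, 53, 14, 21], [9, 12, 32, 2, 20, 28], [49, 8, 50, 48, 34, 4]],
   [[12, 13, 20, 51, 36, 8], [3, 31, 33, 32, 37, 49], [12, 62, 21, 63, 3, 19], [10, 26, 62, 63, 48, 41]],
   [[4, 8, 41, 5, 55, 21], [9, 63, 1, 2, 40, 15], [4, 41, 63, 23, 3, 35], [14, 30, 1, 60, 25, 48]],
   [[22, 47, 4, 32, 34, 44], [58, 24, 4, 44, 29, 8], [22, 14, 45, 57, 23, 48], [17, 13, 54, 57, 58, 26]],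
   [[7, 60, 18, 14, 62, 33], [46, 18, 61, 39, 22, 14], [7, 41, 54, 8, 34, 60], [54, 44, 27, 8, 15, 60]],
   [[22, 12, 58, 48, 52, 41], [61, 22, 24, 26, 15, 7], [22, 60, 49, 7, 25, 3], [55, 23, 40, 25, 62, 13]],
   [[52, 23, 30, 33, 17, 55], [42, 11, 25, 44, 58, 34], [52, 51, 32, 49, 61, 53], [33, 10, 40, 48, 45, 4]],
   [[52, 46, 51, 22, 48, 5], [49, 37, 17, 26, 60, 44], [52, 54, 40, 39, 36, 7], [27, 3, 56, 44, 17, 40]],
   [[36, 48, 25, 19, 14, 44], [58, 45, 28, 33, 31, 29], [36, 40, 55, 2, 8, 33], [50, 8, 19, 16, 63, 18]],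
   [[46, 4, 54, 61, 17, 8], [53, 25, 2, 32, 37, 58], [46, 56, 35, 30, 59, 10], [57, 43, 55, 11, 31, 22]],
   [[10, 52, 55, 20, 37, 7], [60, 58, 38, 59, 46, 10], [10, 42, 9, 49, 1, 63], [16, 21, 41, 20, 27, 3]],
   [[15, 46, 28, 30, 62, 53], [27, 12, 49, 39, 18, 24], [15, 63, 44, 34, 60, 40], [13, 31, 36, 55, 20, 23]],
   [[56, 18, 21, 16, 20, 33], [20, 10, 24, 61, 8, 52], [56, 32, 30, 9, 21, 7], [39, 28, 27, 47, 44, 2]],
   [[15, 34, 54, 44, 4, 42], [11, 56, 16, 34, 22, 58], [15, 61, 14, 6, 24, 19], [5, 57, 49, 12, 28, 38]],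
   [[12, 51, 55, 22, 13, 20], [17, 40, 6, 7, 38, 29], [12, 62, 4, 18, 61, 5], [36, 54, 4, 5, 62, 11]],
   [[4, 41, 7, 19, 8, 48], [63, 58, 1, 16, 13, 45], [4, 48, 40, 16, 18, 59], [52, 24, 1, 14, 8, 10]],
   [[25, 53, 41, 61, 4, 42], [23, 51, 16, 10, 28, 25], [25, 58, 27, 62, 10, 5], [42, 5, 10, 21, 62, 44]],
   [[32, 46, 53, 12, 11, 10], [48, 11, 35, 43, 22, 1], [32, 45, 21, 37, 38, 26], [63, 39, 54, 10, 13, 1]],
   [[55, 39, 51, 25, 34, 57], [23, 56, 5, 28, 3, 40], [55, 49, 21, 35, 10, 42], [13, 53, 54, 37, 63, 48]],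
   [[38, 10, 48, 13, 26, 14], [29, 53, 34, 55, 18, 22], [38, 53, 63, 23, 21, 43], [52, 24, 11, 30, 47, 18]],
   [[7, 48, 52, 44, 33, 1], [32, 39, 6, 62, 50, 48], [7, 62, 11, 51, 47, 20], [15, 51, 61, 56, 29, 41]],
   [[1, 21, 7, 31, 58, 62], [1, 53, 48, 63, 51, 41], [1, 50, 14, 29, 6, 55], [1, 51, 35, 20, 62, 15]],
   [[12, 50, 35, 40, 42, 43], [48, 24, 37, 36, 54, 44], [12, 62, 39, 4, 3, 6], [56, 40, 8, 9, 55, 28]],
   [[47, 14, 45, 17, 34, 55], [22, 5, 56, 63, 30, 21], [47, 16, 33, 2, 43, 9], [60, 8, 17, 28, 2, 56]],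
   [[9, 40, 14, 15, 12, 18], [12, 20, 29, 13, 52, 15], [9, 18, 32, 34, 39, 45], [61, 12, 37, 60, 14, 4]],
   [[46, 31, 6, 15, 36, 41], [37, 56, 60, 41, 10, 44], [46, 6, 55, 12, 48, 17], [22, 47, 45, 37, 54, 38]],
   [[11, 6, 55, 21, 46, 62], [31, 37, 39, 59, 48, 41], [11, 38, 28, 9, 60, 1], [32, 9, 31, 40, 51, 20]],
   [[27, 16, 38, 30, 31, 63], [24, 37, 17, 62, 2, 48], [27, 56, 55, 40, 12, 58], [52, 34, 13, 29, 10, 21]],
   [[41, 10, 12, 25, 63, 62], [48, 45, 43, 47, 23, 30], [41, 33, 34, 55, 13, 15], [54, 48, 37, 3, 31, 52]],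
   [[63, 18, 13, 21, 35, 23], [63, 40, 29, 38, 42, 7], [63, 38, 33, 47, 44, 45], [48, 40, 30, 58, 9, 52]],
   [[59, 40, 16, 50, 42, 45], [21, 18, 55, 28, 4, 30], [59, 46, 7, 6, 63, 31], [12, 25, 17, 58, 30, 48]],
   [[43, 24, 42, 59, 7, 41], [5, 33, 52, 11, 9, 46], [43, 57, 3, 52, 24, 32], [50, 54, 29, 37, 53, 32]],
   [[53, 22, 17, 11, 25, 46], [45, 49, 26, 20, 41, 31], [53, 52, 61, 21, 23, 46], [3, 24, 52, 5, 63, 9]],
   [[2, 43, 50, 56, 13, 16], [43, 1, 54, 13, 32, 37], [2, 31, 57, 23, 41, 20], [41, 1, 52, 10, 20, 51]],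
   [[20, 63, 46, 11, 33, 24], [27, 46, 28, 61, 29, 11], [20, 18, 53, 13, 4, 34], [54, 19, 16, 46, 17, 51]],
   [[42, 13, 30, 38, 26, 32], [11, 60, 20, 29, 49, 32], [42, 62, 5, 39, 30, 58], [38, 30, 34, 13, 33, 18]],
   [[40, 42, 35, 41, 48, 6], [9, 3, 35, 15, 30, 14], [40, 47, 61, 12, 44, 63], [54, 36, 17, 25, 34, 24]],
   [[4, 49, 63, 3, 47, 35], [62, 54, 1, 49, 20, 40], [4, 41, 43, 26, 5, 13], [17, 6, 1, 48, 62, 35]],
   [[56, 51, 27, 50, 47, 38], [10, 51, 47, 58, 7, 60], [56, 27, 10, 63, 34, 15], [19, 45, 55, 41, 21, 61]],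
   [[47, 4, 62, 59, 29, 2], [14, 32, 2, 23, 11, 58], [47, 2, 62, 35, 38, 49], [47, 2, 55, 62, 42, 37]],
   [[37, 47, 17, 1, 12, 32], [8, 58, 41, 57, 12, 32], [37, 4, 8, 13, 51, 47], [14, 37, 2, 4, 54, 13]],
   [[11, 53, 28, 42, 60, 44], [29, 19, 59, 15, 48, 20], [11, 16, 6, 59, 28, 40], [23, 61, 57, 43, 2, 11]],
   [[34, 51, 10, 54, 50, 36], [18, 57, 24, 61, 17, 56], [34, 48, 29, 26, 58, 28], [36, 25, 49, 11, 26, 24]],
   [[2, 32, 11, 56, 48, 12], [29, 1, 56, 24, 18, 2], [2, 14, 53, 19, 37, 24], [29, 1, 55, 52, 20, 58]],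
   [[50, 53, 17, 51, 12, 33], [9, 37, 47, 63, 13, 41], [50, 22, 19, 47, 18, 34], [20, 49, 18, 46, 33, 17]],
   [[52, 5, 43, 42, 32, 9], [12, 52, 14, 44, 31, 16], [52, 42, 26, 5, 41, 39], [15, 29, 7, 42, 51, 53]],
   [[13, 21, 35, 62, 53, 33], [50, 36, 61, 14, 13, 18], [13, 6, 25, 44, 10, 47], [19, 59, 57, 43, 60, 26]],
   [[39, 44, 21, 28, 17, 34], [53, 15, 20, 57, 37, 47], [39, 51, 24, 4, 53, 19], [49, 26, 8, 15, 11, 34]],
   [[25, 10, 8, 39, 22, 50], [62, 6, 45, 4, 59, 29], [25, 34, 31, 28, 42, 27], [45, 33, 36, 18, 62, 35]],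
   [[62, 52, 16, 12, 20, 7], [43, 31, 20, 28, 4, 18], [62, 50, 33, 6, 20, 8], [30, 43, 35, 32, 51, 26]],
   [[23, 6, 53, 58, 35, 11], [21, 46, 44, 27, 22, 43], [23, 3, 53, 1, 17, 60], [8, 10, 27, 44, 24, 15]],
   [[17, 48, 38, 15, 37, 43], [56, 44, 19, 15, 57, 59], [17, 50, 59, 47, 49, 22], [62, 44, 51, 56, 63, 17]],
   [[40, 45, 47, 31, 8, 57], [60, 6, 63, 16, 29, 17], [40, 33, 18, 4, 57, 5], [40, 61, 8, 43, 57, 42]],
   [[44, 19, 29, 28, 25, 54], [12, 61, 20, 47, 51, 58], [44, 17, 18, 31, 11, 50], [41, 47, 51, 22, 43, 36]],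
   [[33, 38, 13, 12, 18, 4], [12, 47, 32, 40, 63, 13], [33, 30, 21, 31, 46, 8], [10, 44, 23, 32, 25, 11]],
   [[54, 46, 51, 2, 58, 35], [51, 8, 54, 39, 36, 27], [54, 26, 20, 12, 29, 35], [37, 14, 57, 49, 61, 11]],
   [[38, 45, 14, 17, 49, 36], [63, 33, 56, 29, 55, 24], [38, 8, 40, 34, 33, 25], [22, 14, 9, 2, 52, 6]],
   [[12, 53, 22, 23, 8, 32], [12, 42, 17, 16, 63, 32], [12, 17, 30, 41, 46, 40], [40, 47, 31, 30, 42, 62]],
   [[36, 53, 57, 46, 20, 35], [46, 50, 61, 59, 45, 60], [36, 7, 40, 51, 19, 10], [39, 60, 25, 28, 11, 24]],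
   [[59, 16, 7, 47, 36, 53], [50, 61, 11, 23, 2, 27], [59, 42, 40, 27, 54, 36], [53, 6, 41, 13, 54, 9]],
   [[15, 5, 17, 63, 2, 42], [46, 16, 44, 19, 42, 35], [15, 58, 60, 29, 19, 3], [25, 57, 63, 30, 48, 21]],
   [[7, 43, 40, 10, 2, 30], [22, 16, 7, 24, 47, 28], [7, 11, 47, 17, 8, 56], [45, 63, 19, 16, 37, 21]],
   [[12, 35, 34, 36, 5, 62], [6, 26, 22, 23, 37, 30], [12, 42, 22, 30, 47, 20], [31, 36, 13, 12, 45, 42]],
   [[9, 32, 58, 23, 59, 61], [20, 63, 15, 21, 44, 2], [9, 39, 22, 6, 60, 61], [48, 31, 23, 49, 12, 58]],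
   [[41, 60, 61, 62, 16, 11], [6, 10, 21, 44, 16, 43], [41, 8, 11, 47, 31, 16], [59, 61, 52, 2, 32, 56]],
   [[63, 43, 60, 17, 10, 56], [47, 42, 36, 58, 39, 61], [63, 61, 12, 8, 38, 37], [51, 3, 12, 8, 42, 31]],
   [[26, 8, 20, 59, 10, 50], [42, 18, 21, 2, 17, 35], [26, 34, 60, 10, 59, 57], [35, 48, 7, 56, 9, 50]]]

theorem chk6 : all2 (chk 6 C6) (enum 6) cert6 = true := by decide +kernel

variable {F : Type*} [Field F]

theorem charpoly_dec {m : ℕ} {g : F[X]} (hg : g.Monic) (hm : m = g.natDegree) {C : List ℕ}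
    (h : ∀ i j : Fin m, bt F ((C.getD j 0).testBit i) =
      if (j : ℕ) + 1 = m then -g.coeff i else if (i : ℕ) = j + 1 then 1 else 0) :
    (dec F m C).charpoly = g := by
  subst hm
  have : dec F g.natDegree C = Cfsg.Agent.H953.comp g := by
    ext i j
    rw [dec_apply, h]
    rfl
  rw [this]
  exact Cfsg.Agent.H953.charpoly_comp hg

theorem two_eq_zero (hF : ∀ x : F, x = 0 ∨ x = 1) : (2 : F) = 0 := by
  rcases hF 2 with h | h
  · exact h
  · exfalso
    have : (1 : F) = 0 := by linear_combination h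
    exact one_ne_zero this

theorem zero_or_one (h : Nat.card F = 2) : ∀ x : F, x = 0 ∨ x = 1 := by
  intro x
  haveI : Finite F := Nat.finite_of_card_ne_zero (by rw [h]; norm_num)
  letI := Fintype.ofFinite F
  rw [Nat.card_eq_fintype_card] at h
  classical
  by_contra hx
  push Not at hx
  have h1 : ({0, 1, x} : Finset F).card ≤ 2 := by rw [← h]; exact Finset.card_le_univ _
  rw [Finset.card_insert_of_notMem, Finset.card_insert_of_notMem, Finset.card_singleton] at h1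
  · omega
  · simpa using hx.2.symm
  · simp only [Finset.mem_insert, Finset.mem_singleton, not_or]
    exact ⟨zero_ne_one, hx.1.symm⟩

noncomputable def p3 (F : Type*) [Field F] : F[X] := X ^ 3 + X + 1
noncomputable def p4 (F : Type*) [Field F] : F[X] := X ^ 4 + X + 1
noncomputable def p5 (F : Type*) [Field F] : F[X] := X ^ 5 + X ^ 2 + 1
noncomputable def p6 (F : Type*) [Field F] : F[X] := X ^ 6 + X + 1

theorem p3_natDegree : (p3 F).natDegree = 3 := by unfold p3; compute_degree!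
theorem p4_natDegree : (p4 F).natDegree = 4 := by unfold p4; compute_degree!
theorem p5_natDegree : (p5 F).natDegree = 5 := by unfold p5; compute_degree!
theorem p6_natDegree : (p6 F).natDegree = 6 := by unfold p6; compute_degree!
theorem p3_monic : (p3 F).Monic := by unfold p3; monicity!
theorem p4_monic : (p4 F).Monic := by unfold p4; monicity!
theorem p5_monic : (p5 F).Monic := by unfold p5; monicity!
theorem p6_monic : (p6 F).Monic := by unfold p6; monicity!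

theorem neg_one' (h2 : (2 : F) = 0) : (-1 : F) = 1 := by linear_combination -h2

theorem charpoly_C3 (h2 : (2 : F) = 0) : (dec F 3 C3).charpoly = p3 F := by
  apply charpoly_dec p3_monic p3_natDegree.symm
  intro i j
  fin_cases i <;> fin_cases j <;> simp [C3, bt, p3, coeff_X, coeff_one, Nat.testBit, Nat.shiftRight_eq_div_pow, neg_one' h2]

theorem charpoly_C4 (h2 : (2 : F) = 0) : (dec F 4 C4).charpoly = p4 F := by
  apply charpoly_dec p4_monic p4_natDegree.symm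
  intro i j
  fin_cases i <;> fin_cases j <;> simp [C4, bt, p4, coeff_X, coeff_one, Nat.testBit, Nat.shiftRight_eq_div_pow, neg_one' h2]

theorem charpoly_C5 (h2 : (2 : F) = 0) : (dec F 5 C5).charpoly = p5 F := by
  apply charpoly_dec p5_monic p5_natDegree.symm
  intro i j
  fin_cases i <;> fin_cases j <;> simp [C5, bt, p5, coeff_X, coeff_X_pow, coeff_one, Nat.testBit, Nat.shiftRight_eq_div_pow, neg_one' h2]

theorem charpoly_C6 (h2 : (2 : F) = 0) : (dec F 6 C6).charpoly = p6 F := by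
  apply charpoly_dec p6_monic p6_natDegree.symm
  intro i j
  fin_cases i <;> fin_cases j <;> simp [C6, bt, p6, coeff_X, coeff_one, Nat.testBit, Nat.shiftRight_eq_div_pow, neg_one' h2]

/-- **`GL_3(2)`.** -/
theorem gl_two_three (h : Nat.card F = 2) (A : GL (Fin 3) F) (hA : 2 ≤ ((A : Matrix (Fin 3) (Fin 3) F) - 1).rank) :
    ∃ y : GL (Fin 3) F, (y : Matrix (Fin 3) (Fin 3) F).charpoly = p3 F ∧
      ((A * y : GL (Fin 3) F) : Matrix (Fin 3) (Fin 3) F).charpoly = p3 F := by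
  have hF := zero_or_one h
  have h2 := two_eq_zero hF
  rw [← charpoly_C3 h2]
  exact main hF h2 (C := C3) (C' := D3) rfl (by decide) chk3 A hA

/-- **`GL_4(2)`.** -/
theorem gl_two_four (h : Nat.card F = 2) (A : GL (Fin 4) F) (hA : 2 ≤ ((A : Matrix (Fin 4) (Fin 4) F) - 1).rank) :
    ∃ y : GL (Fin 4) F, (y : Matrix (Fin 4) (Fin 4) F).charpoly = p4 F ∧
      ((A * y : GL (Fin 4) F) : Matrix (Fin 4) (Fin 4) F).charpoly = p4 F := by
  have hF := zero_or_one h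
  have h2 := two_eq_zero hF
  rw [← charpoly_C4 h2]
  exact main hF h2 (C := C4) (C' := D4) rfl (by decide) chk4 A hA

/-- **`GL_5(2)`.** -/
theorem gl_two_five (h : Nat.card F = 2) (A : GL (Fin 5) F) (hA : 2 ≤ ((A : Matrix (Fin 5) (Fin 5) F) - 1).rank) :
    ∃ y : GL (Fin 5) F, (y : Matrix (Fin 5) (Fin 5) F).charpoly = p5 F ∧
      ((A * y : GL (Fin 5) F) : Matrix (Fin 5) (Fin 5) F).charpoly = p5 F := by
  have hF := zero_or_one h
  have h2 := two_eq_zero hF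
  rw [← charpoly_C5 h2]
  exact main hF h2 (C := C5) (C' := D5) rfl (by decide) chk5 A hA

/-- **`GL_6(2)`.** -/
theorem gl_two_six (h : Nat.card F = 2) (A : GL (Fin 6) F) (hA : 2 ≤ ((A : Matrix (Fin 6) (Fin 6) F) - 1).rank) :
    ∃ y : GL (Fin 6) F, (y : Matrix (Fin 6) (Fin 6) F).charpoly = p6 F ∧
      ((A * y : GL (Fin 6) F) : Matrix (Fin 6) (Fin 6) F).charpoly = p6 F := by
  have hF := zero_or_one h
  have h2 := two_eq_zero hF
  rw [← charpoly_C6 h2]
  exact main hF h2 (C := C6) (C' := D6) rfl (by decide) chk6 A hA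

end Cfsg.Agent.H194.GLTwo
end

-- part: H194/GLTwoIrr
section
/-!
# Irreducibility over the field with two elements by one orbit of the companion matrix

`irr_of_orb` : if the companion matrix of `g` acts transitively on the non-zero vectors then `g` is irreducible.
`p3_irreducible`, ..., `p6_irreducible`, `p3_ne_reverse`, ...
-/

set_option autoImplicit false

namespace Cfsg.Agent.H194.GLTwo

open Polynomial

variable {F : Type*} [Field F]

def vec (F : Type*) [Field F] (m n : ℕ) : Fin m → F := fun i => bt F (n.testBit i)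

theorem dec_mulVec (h2 : (2 : F) = 0) {m : ℕ} {C : List ℕ} (hC : C.length = m) (n : ℕ) :
    (dec F m C).mulVec (vec F m n) = vec F m (app C n) := by
  funext i
  rw [vec, bt_app h2, Matrix.mulVec, dotProduct, hC, Finset.sum_range]
  refine Finset.sum_congr rfl fun s _ => ?_
  rw [dec_apply, vec, mul_comm]

theorem dec_pow_mulVec (h2 : (2 : F) = 0) {m : ℕ} {C : List ℕ} (hC : C.length = m) (n k : ℕ) :
    (dec F m C ^ k).mulVec (vec F m n) = vec F m ((app C)^[k] n) := by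
  induction k with
  | zero => simp
  | succ k ih =>
    rw [pow_succ', ← Matrix.mulVec_mulVec, ih, dec_mulVec h2 hC, Function.iterate_succ_apply']

/-- the orbit of `n` -/
def orb (C : List ℕ) : ℕ → ℕ → List ℕ
  | 0, _ => []
  | k + 1, n => n :: orb C k (app C n)

theorem mem_orb {C : List ℕ} {k n x : ℕ} (h : x ∈ orb C k n) : ∃ j, x = (app C)^[j] n := by
  induction k generalizing n with
  | zero => simp [orb] at h
  | succ k ih =>
    rw [orb] at h
    rcases List.mem_cons.1 h with rfl | h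
    · exact ⟨0, rfl⟩
    · obtain ⟨j, hj⟩ := ih h
      exact ⟨j + 1, by rw [hj]; rfl⟩

def chkOrb (m : ℕ) (C : List ℕ) : Bool :=
  (List.range (2 ^ m)).all fun n => Nat.beq n 0 || (orb C (2 ^ m) 1).any (Nat.beq n)

theorem irr_of_orb (hF : ∀ x : F, x = 0 ∨ x = 1) (h2 : (2 : F) = 0) {m : ℕ} {g : F[X]} (hg : g.Monic)
    (hm : m = g.natDegree) (hm0 : 0 < m) {C C' : List ℕ} (hC : C.length = m) (hC' : mul C C' = one m)
    (h : ∀ i j : Fin m, bt F ((C.getD j 0).testBit i) =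
      if (j : ℕ) + 1 = m then -g.coeff i else if (i : ℕ) = j + 1 then 1 else 0)
    (hc : chkOrb m C = true) : Irreducible g := by
  classical
  subst hm
  have hdec : dec F g.natDegree C = Cfsg.Agent.H953.comp g := by
    ext i j
    rw [dec_apply, h]
    rfl
  set M := Cfsg.Agent.H953.comp g with hM
  have f4 : M * dec F g.natDegree C' = 1 := by rw [← hdec, ← dec_mul h2 hC, hC', dec_one]
  have f5 : dec F g.natDegree C' * M = 1 := by rw [mul_eq_one_comm]; exact f4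
  have hinj : ∀ k : ℕ, ∀ x : Fin g.natDegree → F, (M ^ k).mulVec x = 0 → x = 0 := by
    intro k
    induction k with
    | zero => intro x hx; simpa using hx
    | succ k ih =>
      intro x hx
      rw [pow_succ, ← Matrix.mulVec_mulVec] at hx
      have h1 := ih _ hx
      have h3 : (dec F g.natDegree C').mulVec (M.mulVec x) = 0 := by rw [h1, Matrix.mulVec_zero]
      rwa [Matrix.mulVec_mulVec, f5, Matrix.one_mulVec] at h3
  have horb : ∀ x : Fin g.natDegree → F, x ≠ 0 → ∃ k : ℕ, x = (M ^ k).mulVec (vec F g.natDegree 1) := by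
    intro x hx
    set n := Nat.ofBits (fun j : Fin g.natDegree => decide (x j ≠ 0)) with hn
    have hxn : x = vec F g.natDegree n := by
      funext j
      rw [vec, hn, Nat.testBit_ofBits_lt _ _ j.2]
      rcases hF (x j) with h | h <;> simp [bt, h]
    have hnlt : n < 2 ^ g.natDegree := Nat.ofBits_lt_two_pow _
    rw [chkOrb, List.all_eq_true] at hc
    have h1 := hc n (List.mem_range.2 hnlt)
    rw [Bool.or_eq_true, List.any_eq_true] at h1
    rcases h1 with h1 | ⟨y, hy, hny⟩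
    · exfalso
      apply hx
      rw [hxn, Nat.eq_of_beq_eq_true h1]
      funext i
      simp [vec, bt]
    · obtain ⟨k, hk⟩ := mem_orb hy
      refine ⟨k, ?_⟩
      rw [← hdec, dec_pow_mulVec h2 hC, ← hk, ← Nat.eq_of_beq_eq_true hny, ← hxn]
  refine ⟨fun hu => ?_, fun a b hab => ?_⟩
  · rw [hg.isUnit_iff] at hu
    rw [hu, natDegree_one] at hm0
    exact lt_irrefl _ hm0
  · by_contra hcon
    rw [not_or] at hcon
    have ha0 : a ≠ 0 := by rintro rfl; exact hg.ne_zero (by rw [hab, zero_mul])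
    have hb0 : b ≠ 0 := by rintro rfl; exact hg.ne_zero (by rw [hab, mul_zero])
    have hda : 0 < a.natDegree := Polynomial.natDegree_pos_iff_degree_pos.2
      (Polynomial.degree_pos_of_ne_zero_of_nonunit ha0 hcon.1)
    have hdb : 0 < b.natDegree := Polynomial.natDegree_pos_iff_degree_pos.2
      (Polynomial.degree_pos_of_ne_zero_of_nonunit hb0 hcon.2)
    have hsum : g.natDegree = a.natDegree + b.natDegree := by rw [hab, natDegree_mul ha0 hb0]
    have hbM : aeval M b ≠ 0 := by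
      rw [hM, Ne, Cfsg.Agent.H953.aeval_comp_eq_zero hg]
      intro hd
      have := natDegree_le_of_dvd hd hb0
      omega
    obtain ⟨u, hu⟩ : ∃ u, (aeval M b).mulVec u ≠ 0 := by
      by_contra hcon
      push Not at hcon
      apply hbM
      ext i j
      have := congrFun (hcon (Pi.single j 1)) i
      simpa [Matrix.mulVec_single] using this
    have hcomm : ∀ (f : F[X]) (k : ℕ), aeval M f * M ^ k = M ^ k * aeval M f := by
      intro f k
      have h1 : M ^ k = aeval M (X ^ k : F[X]) := by rw [map_pow, aeval_X]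
      rw [h1, ← map_mul, ← map_mul, mul_comm]
    obtain ⟨k, hk⟩ := horb _ hu
    have h0 : (aeval M a).mulVec ((aeval M b).mulVec u) = 0 := by
      rw [Matrix.mulVec_mulVec, ← map_mul, ← hab, (Cfsg.Agent.H953.aeval_comp_eq_zero hg g).2 dvd_rfl,
        Matrix.zero_mulVec]
    rw [hk, Matrix.mulVec_mulVec, hcomm, ← Matrix.mulVec_mulVec] at h0
    have h1 := hinj k _ h0
    have haM : aeval M a = 0 := by
      ext i j
      have h3 : (aeval M a).mulVec (Pi.single j 1) = 0 := by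
        obtain ⟨l, hl⟩ := horb (Pi.single j 1) (by
          intro h
          have := congrFun h j
          simp at this)
        rw [hl, Matrix.mulVec_mulVec, hcomm, ← Matrix.mulVec_mulVec, h1, Matrix.mulVec_zero]
      have := congrFun h3 i
      simpa [Matrix.mulVec_single] using this
    rw [hM, Cfsg.Agent.H953.aeval_comp_eq_zero hg] at haM
    have := natDegree_le_of_dvd haM ha0
    omega

theorem p3_irreducible (h : Nat.card F = 2) : Irreducible (p3 F) := by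
  have hF := zero_or_one h
  have h2 := two_eq_zero hF
  refine irr_of_orb hF h2 p3_monic p3_natDegree.symm (by norm_num) (C := C3) (C' := D3) rfl (by decide) ?_
    (by decide +kernel)
  intro i j
  fin_cases i <;> fin_cases j <;> simp [C3, bt, p3, coeff_X, coeff_one, Nat.testBit, Nat.shiftRight_eq_div_pow, neg_one' h2]

theorem p4_irreducible (h : Nat.card F = 2) : Irreducible (p4 F) := by
  have hF := zero_or_one h
  have h2 := two_eq_zero hF
  refine irr_of_orb hF h2 p4_monic p4_natDegree.symm (by norm_num) (C := C4) (C' := D4) rfl (by decide) ?_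
    (by decide +kernel)
  intro i j
  fin_cases i <;> fin_cases j <;> simp [C4, bt, p4, coeff_X, coeff_one, Nat.testBit, Nat.shiftRight_eq_div_pow, neg_one' h2]

theorem p5_irreducible (h : Nat.card F = 2) : Irreducible (p5 F) := by
  have hF := zero_or_one h
  have h2 := two_eq_zero hF
  refine irr_of_orb hF h2 p5_monic p5_natDegree.symm (by norm_num) (C := C5) (C' := D5) rfl (by decide) ?_
    (by decide +kernel)
  intro i j
  fin_cases i <;> fin_cases j <;> simp [C5, bt, p5, coeff_X_pow, coeff_one, Nat.testBit, Nat.shiftRight_eq_div_pow, neg_one' h2]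

theorem p6_irreducible (h : Nat.card F = 2) : Irreducible (p6 F) := by
  have hF := zero_or_one h
  have h2 := two_eq_zero hF
  refine irr_of_orb hF h2 p6_monic p6_natDegree.symm (by norm_num) (C := C6) (C' := D6) rfl (by decide) ?_
    (by decide +kernel)
  intro i j
  fin_cases i <;> fin_cases j <;> simp [C6, bt, p6, coeff_X, coeff_one, Nat.testBit, Nat.shiftRight_eq_div_pow, neg_one' h2]

theorem p3_ne_reverse : p3 F ≠ (p3 F).reverse := by
  intro h
  have := congrArg (fun f : F[X] => f.coeff 1) h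
  simp only [coeff_reverse, p3_natDegree] at this
  rw [Polynomial.revAt_le (by norm_num)] at this
  simp [p3, coeff_X, coeff_one] at this

theorem p4_ne_reverse : p4 F ≠ (p4 F).reverse := by
  intro h
  have := congrArg (fun f : F[X] => f.coeff 1) h
  simp only [coeff_reverse, p4_natDegree] at this
  rw [Polynomial.revAt_le (by norm_num)] at this
  simp [p4, coeff_X, coeff_one] at this

theorem p5_ne_reverse : p5 F ≠ (p5 F).reverse := by
  intro h
  have := congrArg (fun f : F[X] => f.coeff 2) h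
  simp only [coeff_reverse, p5_natDegree] at this
  rw [Polynomial.revAt_le (by norm_num)] at this
  simp [p5, coeff_X_pow, coeff_one] at this

theorem p6_ne_reverse : p6 F ≠ (p6 F).reverse := by
  intro h
  have := congrArg (fun f : F[X] => f.coeff 1) h
  simp only [coeff_reverse, p6_natDegree] at this
  rw [Polynomial.revAt_le (by norm_num)] at this
  simp [p6, coeff_X, coeff_one] at this

end Cfsg.Agent.H194.GLTwo
end

-- part: H194/GLTwoSeven
section
/-!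
# Prescribed irreducible characteristic polynomials in `GL_7(2)`

`gl_two_seven` : for `A ∈ GL_7(F)`, `#F = 2`, `2 ≤ rank (A - 1)`, there is `y ∈ GL_7(F)` such that `y` and `A y` both
have the characteristic polynomial `X ^ 7 + X + 1`.
-/

set_option autoImplicit false

namespace Cfsg.Agent.H194.GLTwo

open Polynomial

def C7 : List ℕ := [2, 4, 8, 16, 32, 64, 3]
def D7 : List ℕ := [65, 1, 2, 4, 8, 16, 32]

set_option maxRecDepth 100000 in
def cert7 : List (List (List ℕ)) :=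
  [[],
   [],
   [[36, 54, 6, 49, 47, 103, 15], [14, 85, 81, 74, 86, 80, 122], [36, 32, 79, 122, 120, 27, 54], [84, 24, 3, 53, 89, 2, 126]],
   [],
   [[6, 104, 118, 3, 20, 26, 54], [47, 39, 38, 49, 54, 119, 68], [6, 2, 16, 58, 96, 67, 5], [67, 2, 3, 127, 4, 113, 97]],
   [[62, 9, 64, 78, 42, 107, 117], [52, 71, 125, 54, 108, 97, 4], [62, 35, 25, 109, 24, 48, 33], [20, 66, 7, 100, 116, 84, 43]],
   [[5, 111, 12, 1, 100, 121, 70], [8, 23, 9, 13, 60, 71, 94], [5, 23, 104, 42, 48, 125, 70], [77, 38, 76, 27, 37, 53, 42]],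
   [[95, 35, 43, 69, 34, 20, 12], [18, 105, 70, 6, 102, 121, 92], [95, 31, 16, 44, 118, 89, 49], [114, 74, 107, 85, 4, 54, 3]],
   [[59, 124, 8, 125, 127, 84, 60], [10, 24, 83, 4, 49, 38, 66], [59, 93, 18, 76, 115, 38, 103], [67, 77, 25, 50, 73, 116, 35]],
   [],
   [[2, 93, 61, 66, 73, 68, 71], [97, 1, 41, 120, 59, 15, 9], [2, 12, 27, 54, 100, 64, 3], [65, 1, 127, 125, 57, 79, 32]],
   [[107, 89, 112, 17, 92, 124, 116], [86, 109, 68, 96, 94, 48, 106], [107, 93, 69, 76, 27, 74, 31], [110, 120, 80, 98, 100, 79, 58]],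
   [[116, 18, 54, 41, 91, 51, 24], [85, 104, 113, 42, 106, 119, 109], [116, 25, 27, 54, 108, 114, 78], [19, 6, 39, 110, 127, 86, 15]],
   [[115, 125, 118, 74, 85, 70, 123], [108, 43, 105, 65, 119, 83, 98], [115, 18, 76, 81, 73, 68, 11], [90, 62, 78, 36, 60, 55, 110]],
   [[42, 76, 125, 90, 14, 43, 94], [33, 60, 72, 100, 126, 89, 46], [42, 90, 51, 102, 65, 116, 63], [93, 23, 35, 103, 63, 113, 77]],
   [[22, 100, 4, 79, 86, 81, 24], [88, 108, 4, 41, 105, 23, 17], [22, 44, 95, 36, 72, 13, 29], [21, 94, 63, 10, 96, 55, 26]],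
   [[89, 116, 103, 60, 96, 127, 124], [109, 13, 116, 66, 102, 88, 72], [89, 46, 31, 62, 124, 100, 52], [91, 114, 29, 58, 10, 87, 106]],
   [[76, 118, 79, 42, 74, 20, 66], [63, 58, 43, 80, 11, 98, 122], [76, 37, 20, 92, 47, 42, 106], [61, 126, 13, 108, 9, 50, 96]],
   [[61, 66, 87, 14, 10, 12, 41], [71, 40, 24, 56, 89, 63, 42], [61, 120, 119, 111, 91, 51, 98], [39, 78, 81, 62, 50, 123, 117]],
   [[84, 15, 111, 42, 40, 47, 44], [120, 24, 80, 50, 117, 34, 36], [84, 41, 86, 44, 93, 60, 126], [70, 5, 76, 87, 40, 19, 101]],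
   [[56, 24, 3, 67, 39, 122, 84], [41, 45, 23, 89, 91, 3, 12], [56, 29, 112, 7, 16, 32, 36], [67, 43, 96, 49, 16, 32, 52]],
   [[33, 109, 71, 103, 83, 48, 41], [13, 75, 56, 65, 44, 12, 122], [33, 56, 89, 28, 95, 32, 112], [33, 62, 42, 69, 103, 32, 7]],
   [[94, 24, 63, 57, 52, 98, 74], [91, 126, 114, 49, 51, 81, 15], [94, 63, 13, 76, 51, 21, 113], [22, 74, 117, 103, 67, 15, 26]],
   [[126, 97, 93, 110, 111, 122, 63], [24, 94, 33, 109, 9, 67, 89], [126, 107, 127, 19, 119, 2, 65], [5, 32, 43, 20, 45, 118, 69]],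
   [[63, 108, 71, 17, 123, 84, 97], [57, 44, 54, 77, 49, 94, 39], [63, 59, 51, 57, 45, 42, 97], [57, 10, 3, 6, 27, 44, 85]],
   [[90, 86, 4, 32, 9, 26, 120], [23, 73, 4, 7, 110, 8, 33], [90, 111, 93, 114, 44, 75, 119], [81, 77, 25, 50, 112, 59, 14]],
   [[83, 29, 27, 76, 40, 8, 41], [80, 11, 13, 32, 127, 48, 37], [83, 12, 48, 64, 43, 126, 59], [119, 46, 31, 29, 80, 84, 8]],
   [],
   [[126, 49, 68, 121, 63, 106, 90], [98, 28, 119, 121, 86, 54, 115], [126, 127, 125, 68, 54, 97, 65], [3, 6, 75, 82, 61, 96, 67]],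
   [[32, 29, 45, 123, 67, 101, 25], [89, 115, 66, 30, 7, 1, 58], [32, 106, 100, 75, 21, 51, 48], [11, 107, 90, 55, 65, 1, 95]],
   [[27, 28, 116, 35, 37, 53, 73], [27, 78, 86, 100, 48, 93, 63], [27, 97, 6, 12, 95, 106, 87], [46, 92, 88, 80, 35, 101, 73]],
   [[100, 104, 125, 68, 95, 4, 88], [109, 29, 32, 35, 75, 9, 40], [100, 118, 52, 104, 8, 41, 86], [114, 92, 25, 16, 95, 66, 90]],
   [[82, 62, 35, 32, 51, 50, 119], [48, 60, 121, 91, 20, 8, 41], [82, 39, 9, 84, 110, 94, 123], [78, 98, 107, 74, 117, 69, 22]],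
   [[99, 47, 57, 1, 11, 122, 20], [8, 70, 55, 94, 119, 37, 106], [99, 105, 24, 36, 111, 39, 19], [71, 111, 125, 108, 104, 117, 92]],
   [[123, 6, 44, 34, 103, 90, 93], [98, 75, 73, 14, 86, 67, 51], [123, 117, 84, 69, 105, 95, 7], [122, 103, 93, 57, 118, 124, 47]],
   [[19, 78, 44, 17, 18, 38, 101], [17, 9, 94, 45, 25, 119, 120], [19, 101, 64, 10, 29, 51, 91], [62, 77, 25, 69, 114, 33, 4]],
   [[91, 59, 84, 43, 51, 2, 14], [69, 32, 114, 18, 10, 127, 124], [91, 53, 106, 87, 121, 90, 55], [33, 66, 7, 14, 119, 83, 27]],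
   [[89, 84, 20, 27, 41, 16, 56], [112, 15, 36, 87, 32, 55, 6], [89, 62, 124, 71, 13, 14, 52], [108, 92, 98, 30, 41, 11, 90]],
   [[72, 57, 46, 38, 51, 55, 60], [114, 30, 48, 12, 90, 38, 13], [72, 16, 35, 77, 26, 37, 108], [97, 76, 104, 94, 2, 41, 95]],
   [[35, 48, 84, 46, 52, 124, 101], [70, 62, 18, 93, 123, 121, 109], [35, 70, 117, 71, 89, 75, 115], [10, 55, 115, 91, 7, 60, 70]],
   [[16, 74, 83, 18, 79, 1, 37], [32, 9, 50, 39, 1, 82, 44], [16, 110, 17, 63, 49, 34, 24], [5, 52, 109, 65, 1, 20, 14]],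
   [[109, 80, 22, 59, 33, 106, 15], [42, 118, 125, 97, 15, 58, 13], [109, 97, 9, 4, 67, 77, 26], [15, 51, 8, 11, 120, 33, 44]],
   [[49, 65, 62, 16, 109, 9, 86], [111, 30, 59, 79, 8, 102, 109], [49, 40, 19, 20, 73, 82, 104], [102, 51, 89, 52, 81, 54, 66]],
   [[103, 66, 10, 70, 112, 86, 97], [120, 75, 10, 79, 40, 113, 73], [103, 96, 40, 23, 9, 85, 21], [118, 72, 61, 102, 11, 98, 96]],
   [[113, 56, 124, 24, 60, 46, 12], [69, 106, 18, 82, 90, 10, 20], [113, 29, 118, 77, 19, 4, 8], [87, 114, 32, 64, 53, 92, 63]],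
   [[54, 84, 73, 52, 97, 4, 114], [26, 9, 32, 127, 67, 107, 97], [54, 57, 114, 26, 97, 60, 45], [73, 116, 107, 85, 41, 55, 110]],
   [[77, 74, 117, 73, 9, 69, 18], [49, 59, 9, 33, 123, 95, 24], [77, 89, 113, 33, 21, 65, 42], [19, 70, 60, 29, 63, 27, 51]],
   [[13, 15, 75, 34, 101, 55, 118], [29, 3, 123, 103, 78, 11, 125], [13, 28, 121, 89, 111, 50, 74], [100, 75, 56, 93, 103, 12, 86]],
   [[97, 27, 29, 52, 69, 115, 28], [68, 56, 62, 103, 25, 47, 106], [97, 25, 106, 59, 107, 36, 16], [20, 71, 109, 86, 64, 77, 88]],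
   [[95, 66, 126, 108, 13, 90, 11], [110, 31, 79, 49, 19, 107, 29], [95, 92, 20, 7, 14, 111, 49], [97, 98, 11, 121, 15, 46, 127]],
   [[71, 95, 94, 22, 6, 121, 61], [6, 103, 119, 27, 24, 50, 23], [71, 32, 70, 87, 10, 113, 37], [5, 109, 71, 125, 9, 2, 46]],
   [[23, 22, 6, 33, 59, 80, 94], [3, 122, 126, 100, 6, 11, 38], [23, 52, 114, 125, 68, 48, 93], [93, 22, 34, 101, 104, 72, 50]],
   [[117, 11, 91, 115, 112, 113, 64], [48, 40, 33, 26, 70, 22, 64], [117, 25, 106, 22, 54, 71, 14], [74, 54, 49, 71, 15, 24, 109]],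
   [[68, 47, 117, 36, 42, 85, 23], [62, 77, 44, 121, 31, 36, 45], [68, 5, 108, 98, 37, 49, 102], [74, 83, 72, 23, 120, 18, 73]],
   [[67, 71, 38, 36, 120, 30, 44], [57, 12, 3, 72, 103, 11, 52], [67, 91, 53, 52, 104, 81, 35], [12, 115, 101, 81, 82, 63, 126]],
   [[95, 54, 6, 8, 94, 106, 22], [17, 50, 54, 8, 68, 66, 88], [95, 23, 10, 26, 70, 89, 49], [47, 54, 23, 50, 12, 99, 49]],
   [[57, 42, 68, 41, 44, 92, 62], [83, 89, 75, 45, 9, 118, 79], [57, 73, 37, 64, 6, 95, 100], [76, 97, 113, 70, 50, 57, 8]],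
   [[34, 39, 86, 64, 105, 53, 107], [45, 80, 46, 100, 114, 81, 8], [34, 49, 75, 42, 30, 118, 51], [53, 66, 47, 9, 116, 67, 122]],
   [[79, 108, 68, 70, 112, 82, 59], [51, 12, 81, 58, 121, 60, 85], [79, 77, 107, 97, 19, 118, 41], [114, 3, 56, 15, 97, 61, 71]],
   [[119, 101, 102, 64, 30, 127, 107], [87, 81, 50, 33, 82, 111, 8], [119, 106, 40, 111, 68, 42, 13], [56, 36, 50, 74, 67, 78, 34]],
   [[83, 103, 94, 7, 115, 48, 40], [119, 92, 35, 81, 49, 17, 27], [83, 124, 123, 66, 115, 11, 59], [120, 76, 50, 20, 113, 17, 68]],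
   [[71, 40, 5, 61, 62, 23, 36], [50, 42, 54, 116, 14, 118, 47], [71, 33, 122, 88, 54, 70, 37], [33, 47, 66, 27, 94, 35, 77]],
   [[125, 120, 18, 86, 25, 92, 123], [60, 126, 63, 86, 122, 29, 51], [125, 115, 42, 17, 102, 69, 2], [109, 64, 26, 89, 101, 29, 87]],
   [[70, 13, 80, 121, 4, 97, 15], [109, 66, 16, 127, 87, 30, 83], [70, 15, 82, 115, 84, 127, 101], [103, 77, 89, 113, 92, 107, 21]],
   [[71, 13, 26, 1, 21, 59, 51], [8, 22, 106, 96, 114, 44, 117], [71, 13, 1, 55, 117, 73, 37], [4, 39, 29, 27, 111, 89, 63]],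
   [[126, 54, 104, 121, 124, 120, 63], [40, 17, 48, 106, 36, 7, 105], [126, 61, 57, 36, 72, 3, 65], [99, 67, 6, 51, 90, 14, 35]],
   [[90, 55, 12, 48, 116, 52, 113], [120, 90, 40, 44, 71, 79, 48], [90, 55, 43, 106, 103, 120, 119], [78, 120, 61, 107, 80, 89, 66]],
   [[101, 72, 15, 40, 38, 13, 118], [28, 36, 23, 43, 121, 35, 41], [101, 75, 26, 66, 85, 37, 22], [88, 41, 22, 82, 127, 110, 33]],
   [[111, 58, 81, 49, 28, 95, 31], [41, 121, 7, 90, 77, 108, 96], [111, 80, 109, 52, 40, 93, 25], [116, 5, 44, 122, 78, 106, 76]],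
   [[73, 118, 17, 91, 87, 9, 101], [75, 70, 115, 107, 79, 89, 33], [73, 91, 31, 79, 5, 32, 44], [103, 126, 119, 23, 125, 32, 113]],
   [[110, 120, 36, 53, 118, 51, 73], [39, 98, 74, 58, 43, 78, 93], [110, 52, 81, 115, 99, 122, 89], [108, 47, 57, 68, 24, 35, 112]],
   [[102, 58, 113, 101, 51, 34, 49], [89, 80, 101, 75, 105, 112, 68], [102, 13, 73, 19, 99, 64, 85], [55, 78, 38, 19, 113, 73, 32]],
   [[41, 70, 49, 9, 3, 123, 57], [76, 92, 98, 68, 65, 9, 60], [41, 16, 42, 30, 53, 26, 124], [28, 25, 40, 59, 2, 38, 119]],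
   [[102, 75, 84, 28, 94, 19, 85], [68, 74, 120, 94, 46, 97, 82], [102, 82, 34, 64, 9, 72, 85], [56, 119, 13, 40, 125, 115, 8]],
   [[69, 101, 25, 47, 71, 39, 90], [102, 17, 84, 40, 74, 3, 51], [69, 97, 33, 63, 40, 19, 38], [63, 67, 56, 43, 92, 59, 6]],
   [[112, 117, 67, 92, 72, 23, 15], [87, 111, 84, 44, 76, 113, 60], [112, 48, 96, 92, 55, 46, 72], [118, 41, 77, 67, 5, 7, 3]],
   [[23, 10, 121, 77, 47, 106, 111], [69, 58, 37, 56, 91, 114, 80], [23, 68, 36, 52, 79, 29, 93], [51, 92, 98, 125, 12, 102, 96]],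
   [[81, 34, 103, 31, 109, 51, 71], [27, 70, 62, 82, 57, 68, 35], [81, 33, 26, 96, 55, 48, 56], [41, 111, 118, 96, 11, 43, 35]],
   [[12, 44, 37, 33, 55, 53, 77], [11, 48, 12, 13, 36, 3, 74], [12, 118, 36, 125, 38, 107, 10], [74, 20, 85, 84, 105, 81, 123]],
   [[5, 17, 33, 107, 98, 10, 99], [80, 104, 81, 72, 82, 84, 44], [5, 99, 111, 22, 38, 7, 70], [115, 33, 114, 116, 91, 67, 19]],
   [[51, 68, 109, 106, 5, 30, 23], [55, 28, 39, 87, 76, 102, 37], [51, 7, 115, 98, 33, 63, 107], [118, 107, 31, 62, 122, 102, 5]],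
   [],
   [[51, 126, 94, 118, 10, 52, 29], [108, 26, 87, 10, 113, 6, 50], [51, 102, 79, 52, 65, 33, 107], [59, 109, 95, 38, 76, 27, 43]],
   [[92, 104, 99, 85, 37, 120, 58], [49, 15, 116, 56, 34, 85, 111], [92, 1, 2, 53, 97, 57, 114], [2, 4, 49, 25, 86, 109, 127]],
   [[32, 73, 123, 31, 104, 107, 96], [19, 35, 76, 80, 36, 1, 65], [32, 64, 3, 5, 56, 65, 48], [34, 38, 42, 80, 65, 1, 2]],
   [[37, 88, 60, 36, 72, 22, 12], [9, 108, 94, 30, 18, 86, 14], [37, 56, 20, 40, 106, 31, 118], [83, 35, 14, 84, 10, 92, 59]],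
   [[125, 48, 119, 92, 78, 28, 79], [80, 67, 61, 70, 91, 89, 40], [125, 63, 107, 7, 15, 11, 2], [120, 64, 48, 24, 117, 103, 67]],
   [[70, 35, 62, 27, 57, 32, 10], [26, 56, 54, 120, 82, 32, 15], [70, 43, 65, 5, 25, 60, 101], [116, 13, 124, 67, 39, 56, 112]],
   [[10, 8, 127, 79, 89, 76, 122], [43, 3, 111, 2, 116, 120, 77], [10, 118, 21, 80, 111, 39, 15], [42, 124, 107, 125, 69, 29, 77]],
   [[54, 94, 90, 2, 22, 75, 85], [58, 8, 6, 112, 30, 17, 98], [54, 104, 14, 95, 100, 85, 45], [11, 22, 44, 62, 98, 89, 101]],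
   [[85, 97, 68, 121, 46, 51, 110], [110, 25, 84, 97, 107, 60, 80], [85, 91, 71, 40, 117, 76, 62], [106, 87, 77, 25, 82, 17, 116]],
   [[13, 16, 58, 53, 41, 118, 63], [27, 13, 95, 69, 2, 78, 62], [13, 101, 73, 17, 65, 43, 74], [119, 51, 98, 20, 127, 112, 103]],
   [[48, 17, 92, 39, 68, 93, 113], [36, 126, 117, 50, 38, 39, 101], [48, 112, 99, 71, 49, 3, 40], [17, 49, 43, 103, 38, 39, 3]],
   [[73, 91, 121, 114, 79, 56, 117], [89, 112, 97, 37, 115, 118, 125], [73, 14, 110, 125, 91, 88, 44], [29, 45, 90, 117, 60, 111, 105]],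
   [[23, 110, 46, 73, 19, 20, 91], [88, 121, 17, 86, 49, 58, 6], [23, 110, 89, 119, 98, 65, 93], [46, 25, 68, 86, 114, 7, 14]],
   [[75, 71, 66, 85, 7, 122, 93], [77, 22, 75, 72, 28, 112, 18], [75, 23, 118, 74, 64, 123, 47], [9, 123, 78, 99, 62, 31, 16]],
   [[15, 2, 11, 7, 22, 88, 54], [15, 2, 5, 9, 23, 80, 62], [15, 65, 16, 110, 17, 101, 73], [20, 126, 41, 66, 4, 11, 22]],
   [[30, 64, 115, 120, 52, 81, 99], [102, 95, 47, 53, 68, 123, 2], [30, 18, 114, 54, 66, 98, 17], [100, 38, 58, 57, 36, 48, 54]],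
   [[52, 91, 61, 92, 115, 70, 55], [49, 112, 75, 52, 108, 38, 27], [52, 71, 34, 113, 40, 57, 46], [101, 11, 91, 31, 85, 15, 55]],
   [[15, 97, 37, 76, 28, 83, 100], [117, 77, 55, 14, 41, 70, 49], [15, 69, 2, 27, 61, 33, 73], [71, 4, 123, 57, 114, 103, 62]],
   [[85, 97, 32, 70, 83, 8, 56], [31, 114, 99, 32, 100, 4, 25], [85, 22, 82, 115, 43, 76, 62], [104, 58, 87, 38, 111, 100, 81]],
   [[22, 74, 90, 52, 69, 17, 98], [38, 120, 127, 51, 6, 113, 73], [22, 106, 70, 75, 35, 36, 29], [125, 26, 87, 38, 76, 119, 73]],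
   [[120, 125, 44, 88, 103, 11, 40], [71, 46, 68, 73, 117, 9, 52], [120, 80, 123, 96, 58, 26, 68], [44, 41, 120, 51, 58, 48, 56]],
   [[20, 99, 71, 9, 124, 98, 52], [34, 27, 71, 42, 70, 65, 122], [20, 12, 60, 69, 124, 123, 30], [115, 44, 111, 109, 110, 104, 20]],
   [[41, 116, 94, 110, 50, 6, 14], [27, 28, 60, 96, 118, 122, 50], [41, 84, 105, 87, 103, 53, 124], [67, 73, 123, 38, 124, 100, 5]],
   [[2, 78, 46, 24, 7, 8, 56], [124, 1, 109, 32, 40, 72, 78], [2, 84, 68, 100, 36, 120, 3], [65, 1, 28, 50, 6, 12, 24]],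
   [[95, 121, 85, 122, 59, 74, 17], [61, 55, 97, 50, 125, 85, 37], [95, 13, 65, 70, 15, 46, 49], [101, 18, 123, 28, 112, 85, 97]],
   [[120, 22, 71, 78, 40, 100, 25], [23, 56, 118, 27, 76, 11, 93], [120, 19, 117, 16, 23, 6, 68], [56, 50, 18, 47, 8, 116, 82]],
   [[56, 33, 105, 46, 53, 59, 4], [58, 27, 64, 107, 82, 56, 109], [56, 25, 50, 69, 9, 18, 36], [39, 50, 100, 55, 18, 36, 75]],
   [[18, 21, 115, 9, 2, 4, 91], [51, 16, 32, 59, 17, 127, 73], [18, 8, 16, 83, 48, 76, 27], [67, 5, 104, 2, 4, 20, 74]],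
   [[55, 124, 97, 10, 94, 96, 18], [36, 29, 106, 21, 93, 15, 47], [55, 19, 52, 102, 93, 54, 109], [33, 36, 84, 77, 7, 87, 47]],
   [[123, 105, 23, 20, 127, 98, 53], [22, 26, 17, 46, 25, 94, 100], [123, 1, 97, 63, 105, 50, 7], [2, 124, 62, 20, 109, 49, 55]],
   [[26, 44, 4, 104, 27, 103, 18], [17, 124, 4, 65, 60, 71, 14], [26, 87, 121, 70, 20, 44, 23], [118, 38, 108, 91, 124, 23, 66]],
   [[111, 102, 20, 100, 14, 113, 58], [44, 10, 53, 47, 49, 84, 105], [111, 54, 51, 20, 90, 35, 25], [42, 57, 44, 78, 36, 51, 67]],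
   [[43, 39, 77, 96, 68, 51, 127], [100, 126, 115, 112, 81, 107, 99], [43, 32, 110, 121, 109, 88, 127], [42, 62, 118, 23, 110, 2, 89]],
   [[74, 21, 3, 107, 47, 43, 99], [101, 97, 48, 72, 87, 108, 40], [74, 102, 113, 41, 85, 6, 111], [85, 126, 94, 23, 115, 74, 104]],
   [[1, 50, 63, 109, 2, 36, 56], [1, 16, 85, 82, 103, 117, 123], [1, 36, 84, 46, 119, 109, 64], [1, 105, 126, 99, 58, 124, 64]],
   [[122, 90, 127, 60, 14, 2, 69], [105, 32, 108, 92, 59, 3, 69], [122, 119, 18, 105, 28, 98, 71], [13, 26, 49, 63, 30, 92, 102]],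
   [[99, 21, 96, 51, 94, 55, 78], [122, 127, 40, 78, 80, 93, 89], [99, 93, 64, 22, 32, 57, 19], [126, 107, 54, 27, 85, 16, 4]],
   [[4, 41, 106, 108, 80, 109, 39], [40, 13, 1, 78, 51, 100, 35], [4, 51, 116, 52, 84, 125, 6], [74, 65, 1, 110, 29, 20, 12]],
   [[6, 9, 53, 96, 113, 35, 32], [61, 93, 92, 63, 37, 64, 72], [6, 48, 113, 8, 25, 67, 5], [103, 38, 39, 8, 127, 125, 97]],
   [[117, 28, 30, 48, 113, 122, 64], [88, 6, 17, 110, 125, 117, 64], [117, 107, 121, 65, 74, 31, 14], [35, 69, 123, 126, 67, 49, 43]],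
   [[31, 15, 98, 27, 62, 69, 48], [82, 60, 9, 101, 3, 67, 123], [31, 37, 82, 93, 112, 95, 81], [108, 40, 82, 26, 13, 60, 33]],
   [[54, 93, 34, 52, 28, 18, 1], [64, 9, 44, 21, 41, 13, 82], [54, 104, 4, 91, 29, 58, 45], [15, 85, 4, 37, 62, 110, 73]],
   [[90, 124, 57, 23, 104, 60, 42], [104, 114, 76, 15, 94, 61, 34], [90, 92, 21, 42, 67, 58, 119], [74, 101, 102, 115, 40, 30, 63]],
   [[81, 122, 64, 19, 87, 57, 34], [43, 13, 28, 104, 46, 77, 4], [81, 114, 32, 58, 119, 67, 56], [79, 72, 93, 45, 105, 4, 39]],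
   [[77, 109, 63, 125, 34, 100, 83], [70, 19, 60, 100, 10, 3, 31], [77, 25, 121, 55, 23, 113, 42], [113, 124, 74, 36, 87, 24, 30]],
   [[28, 51, 11, 72, 75, 40, 126], [113, 105, 59, 28, 38, 60, 20], [28, 51, 94, 90, 1, 97, 18], [16, 103, 12, 42, 39, 82, 98]],
   [[47, 115, 56, 1, 108, 21, 32], [8, 37, 123, 23, 83, 64, 60], [47, 83, 34, 49, 59, 119, 121], [59, 94, 120, 70, 105, 90, 14]],
   [[96, 6, 13, 99, 4, 67, 16], [27, 18, 16, 15, 64, 40, 41], [96, 16, 20, 118, 37, 88, 80], [85, 13, 6, 96, 2, 67, 66]],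
   [[7, 59, 4, 30, 104, 102, 21], [124, 121, 4, 77, 56, 114, 47], [7, 115, 45, 22, 24, 124, 69], [58, 108, 87, 35, 51, 74, 45]],
   [[57, 98, 116, 44, 113, 108, 10], [118, 121, 98, 57, 29, 83, 40], [57, 70, 92, 49, 116, 120, 100], [69, 95, 57, 9, 80, 29, 100]],
   [[68, 14, 122, 10, 118, 36, 47], [104, 22, 10, 30, 45, 42, 11], [68, 124, 126, 114, 71, 90, 102], [23, 6, 99, 111, 43, 71, 98]],
   [[75, 82, 90, 99, 127, 93, 113], [114, 63, 105, 6, 119, 15, 74], [75, 73, 67, 51, 76, 91, 47], [126, 3, 108, 5, 33, 84, 121]],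
   [[37, 85, 113, 44, 3, 103, 105], [7, 23, 121, 14, 74, 127, 54], [37, 26, 6, 95, 32, 91, 118], [57, 44, 40, 97, 79, 16, 27]],
   [[23, 98, 39, 43, 76, 31, 81], [55, 112, 45, 33, 107, 110, 28], [23, 107, 16, 32, 5, 10, 93], [75, 21, 91, 53, 4, 8, 97]],
   [[47, 63, 120, 13, 115, 60, 94], [115, 81, 77, 54, 3, 88, 105], [47, 60, 13, 111, 26, 6, 121], [92, 55, 23, 79, 104, 50, 9]],
   [[21, 62, 70, 5, 53, 63, 41], [34, 67, 42, 115, 9, 17, 109], [21, 60, 67, 62, 18, 113, 94], [114, 10, 105, 69, 26, 52, 124]],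
   [[57, 69, 91, 12, 94, 114, 113], [75, 43, 95, 87, 37, 56, 22], [57, 94, 104, 97, 115, 50, 100], [110, 45, 38, 98, 53, 56, 94]],
   [[30, 84, 15, 88, 94, 61, 14], [68, 74, 82, 88, 65, 47, 17], [30, 53, 111, 62, 22, 37, 17], [98, 121, 75, 17, 34, 9, 76]],
   [[82, 64, 25, 35, 86, 73, 123], [78, 37, 17, 108, 38, 99, 2], [82, 91, 16, 102, 106, 101, 123], [84, 124, 79, 87, 4, 66, 121]],
   [[89, 125, 83, 69, 105, 3, 100], [62, 30, 117, 27, 103, 118, 67], [89, 86, 26, 75, 92, 74, 52], [40, 31, 57, 13, 22, 111, 50]],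
   [[35, 6, 106, 61, 117, 121, 98], [29, 118, 116, 68, 79, 106, 92], [35, 63, 105, 81, 120, 19, 115], [73, 52, 115, 45, 93, 124, 28]],
   [[77, 113, 42, 44, 59, 20, 86], [31, 39, 43, 114, 11, 81, 71], [77, 41, 57, 25, 43, 121, 42], [80, 18, 43, 94, 6, 12, 36]],
   [[91, 3, 113, 108, 43, 65, 33], [21, 23, 47, 71, 113, 85, 53], [91, 68, 22, 47, 50, 21, 55], [63, 27, 111, 56, 112, 123, 109]],
   [[1, 8, 62, 86, 5, 15, 114], [1, 50, 17, 2, 124, 89, 87], [1, 73, 25, 108, 13, 111, 64], [1, 41, 82, 67, 70, 89, 64]],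
   [[13, 39, 104, 54, 49, 48, 35], [48, 106, 66, 115, 58, 26, 109], [13, 70, 26, 88, 38, 91, 74], [67, 107, 14, 76, 35, 117, 103]],
   [[80, 46, 55, 47, 7, 5, 92], [10, 48, 42, 107, 103, 115, 102], [80, 21, 30, 38, 79, 49, 120], [21, 42, 90, 57, 77, 120, 76]],
   [[68, 57, 70, 60, 13, 66, 32], [46, 5, 36, 26, 118, 64, 37], [68, 73, 29, 116, 94, 77, 102], [120, 79, 34, 89, 7, 14, 35]],
   [[38, 1, 89, 26, 73, 70, 108], [2, 83, 46, 79, 20, 124, 93], [38, 104, 30, 126, 60, 98, 53], [94, 44, 21, 14, 51, 56, 52]],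
   [[31, 9, 3, 113, 59, 78, 44], [83, 87, 56, 81, 108, 41, 30], [31, 1, 86, 4, 36, 18, 81], [2, 78, 8, 43, 110, 24, 44]],
   [[47, 111, 6, 44, 25, 99, 66], [74, 67, 71, 101, 63, 42, 3], [47, 82, 53, 108, 56, 73, 121], [39, 89, 67, 112, 44, 76, 119]],
   [[68, 92, 89, 72, 111, 14, 50], [82, 41, 84, 93, 94, 55, 85], [68, 35, 55, 10, 92, 3, 102], [67, 99, 124, 107, 122, 34, 125]],
   [[13, 23, 68, 2, 22, 60, 46], [18, 8, 112, 99, 104, 91, 116], [13, 73, 85, 109, 8, 7, 74], [115, 49, 98, 16, 116, 104, 97]],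
   [[90, 49, 84, 122, 67, 72, 29], [100, 78, 81, 26, 111, 9, 58], [90, 40, 43, 87, 51, 44, 119], [97, 103, 34, 74, 94, 72, 114]],
   [[123, 126, 114, 48, 40, 19, 120], [124, 61, 127, 121, 97, 105, 49], [123, 108, 93, 5, 91, 71, 7], [84, 72, 92, 47, 67, 17, 96]],
   [[61, 104, 125, 44, 32, 39, 27], [97, 94, 15, 23, 104, 16, 5], [61, 43, 111, 11, 126, 5, 98], [91, 55, 123, 100, 79, 10, 125]],
   [[25, 80, 79, 13, 22, 105, 81], [66, 25, 30, 84, 23, 35, 21], [25, 54, 23, 71, 93, 48, 84], [119, 110, 76, 39, 81, 113, 93]],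
   [[117, 70, 59, 1, 98, 94, 104], [8, 87, 107, 7, 37, 121, 62], [117, 37, 119, 38, 7, 63, 14], [15, 5, 26, 95, 120, 23, 123]],
   [[77, 95, 76, 25, 118, 27, 64], [5, 40, 98, 38, 43, 49, 64], [77, 70, 38, 25, 23, 100, 42], [61, 92, 38, 98, 87, 126, 120]],
   [[123, 79, 23, 42, 110, 105, 13], [106, 21, 79, 101, 52, 120, 87], [123, 60, 95, 79, 45, 5, 7], [30, 96, 62, 11, 12, 59, 67]],
   [[7, 4, 116, 12, 84, 57, 52], [104, 107, 2, 10, 86, 20, 68], [7, 30, 37, 63, 102, 46, 69], [85, 90, 14, 43, 125, 95, 27]],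
   [[100, 80, 59, 44, 60, 118, 48], [110, 57, 67, 19, 24, 88, 26], [100, 92, 44, 88, 79, 97, 86], [43, 52, 10, 118, 13, 120, 115]],
   [[99, 70, 65, 86, 60, 67, 108], [94, 36, 124, 71, 10, 33, 90], [99, 66, 23, 22, 44, 72, 19], [12, 121, 68, 91, 53, 15, 123]],
   [[15, 73, 74, 85, 45, 124, 118], [89, 95, 56, 63, 13, 78, 100], [15, 125, 5, 124, 100, 43, 73], [10, 126, 14, 123, 99, 47, 49]],
   [[8, 23, 111, 99, 45, 102, 101], [37, 69, 13, 1, 111, 57, 81], [8, 87, 102, 59, 122, 60, 12], [102, 15, 65, 1, 84, 52, 126]],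
   [[104, 27, 66, 13, 62, 38, 81], [45, 31, 99, 70, 118, 92, 27], [104, 4, 30, 115, 60, 72, 92], [15, 53, 2, 81, 98, 33, 113]],
   [[80, 6, 60, 10, 7, 53, 126], [18, 62, 60, 54, 123, 117, 122], [80, 82, 35, 124, 127, 67, 120], [27, 3, 72, 93, 57, 28, 56]],
   [[85, 83, 55, 38, 75, 12, 14], [93, 96, 99, 67, 81, 11, 110], [85, 127, 80, 19, 66, 24, 62], [28, 78, 25, 122, 90, 55, 94]],
   [[61, 64, 96, 59, 120, 58, 10], [40, 50, 59, 114, 102, 6, 2], [61, 106, 116, 88, 57, 72, 98], [37, 125, 17, 66, 40, 95, 98]],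
   [[13, 95, 11, 39, 83, 22, 40], [19, 73, 76, 94, 37, 30, 111], [13, 53, 105, 5, 55, 80, 74], [39, 18, 47, 9, 123, 113, 91]],
   [[20, 51, 107, 64, 48, 47, 41], [94, 76, 44, 35, 45, 61, 8], [20, 40, 123, 93, 98, 55, 30], [98, 121, 79, 56, 78, 58, 83]],
   [[14, 88, 28, 8, 120, 124, 67], [79, 57, 48, 8, 60, 18, 54], [14, 8, 107, 97, 17, 41, 9], [66, 14, 13, 2, 82, 96, 42]],
   [[61, 96, 4, 50, 97, 125, 21], [18, 125, 4, 98, 86, 35, 33], [61, 48, 4, 121, 94, 78, 98], [81, 127, 4, 86, 48, 50, 13]],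
   [[95, 30, 78, 111, 79, 41, 77], [20, 80, 111, 44, 17, 24, 23], [95, 115, 91, 122, 73, 48, 49], [96, 88, 5, 106, 76, 108, 26]],
   [[9, 51, 106, 3, 60, 98, 45], [37, 45, 62, 36, 117, 127, 114], [9, 7, 20, 100, 110, 83, 76], [124, 101, 27, 125, 31, 53, 38]],
   [[46, 33, 38, 81, 28, 47, 71], [33, 93, 122, 5, 111, 35, 70], [46, 24, 37, 108, 111, 113, 57], [108, 116, 70, 29, 31, 46, 125]],
   [[66, 75, 33, 27, 70, 21, 15], [104, 82, 17, 107, 89, 108, 83], [66, 48, 123, 110, 104, 69, 99], [57, 87, 79, 62, 122, 120, 86]],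
   [[23, 54, 59, 20, 78, 45, 127], [37, 44, 91, 120, 83, 38, 31], [23, 38, 7, 118, 14, 112, 93], [44, 118, 94, 56, 5, 42, 15]],
   [[91, 62, 60, 65, 96, 22, 88], [71, 6, 84, 125, 114, 95, 79], [91, 58, 90, 71, 11, 88, 55], [5, 36, 118, 49, 78, 89, 95]],
   [[94, 90, 48, 59, 68, 119, 92], [117, 65, 3, 56, 104, 108, 19], [94, 42, 62, 8, 111, 67, 113], [47, 94, 108, 8, 106, 84, 81]],
   [[43, 94, 122, 110, 108, 51, 78], [50, 24, 78, 99, 66, 72, 117], [43, 86, 96, 42, 112, 117, 127], [9, 67, 57, 35, 20, 104, 108]],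
   [[77, 72, 7, 32, 64, 126, 67], [87, 7, 84, 18, 121, 8, 16], [77, 76, 38, 117, 127, 17, 42], [3, 106, 54, 114, 35, 88, 70]],
   [[86, 113, 125, 97, 82, 22, 124], [68, 59, 17, 23, 10, 109, 33], [86, 66, 36, 41, 35, 121, 125], [61, 73, 96, 81, 99, 100, 75]],
   [[51, 91, 127, 92, 118, 21, 79], [98, 39, 79, 118, 13, 73, 60], [51, 52, 76, 55, 96, 50, 107], [33, 43, 9, 90, 76, 71, 87]],
   [[50, 92, 45, 2, 109, 42, 34], [27, 8, 55, 96, 65, 72, 20], [50, 88, 113, 21, 34, 61, 43], [46, 70, 55, 126, 17, 86, 109]],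
   [[80, 3, 34, 108, 17, 49, 42], [54, 52, 91, 68, 38, 48, 39], [80, 35, 59, 69, 9, 18, 120], [101, 83, 31, 117, 115, 52, 114]],
   [[88, 39, 65, 106, 56, 124, 41], [111, 76, 91, 85, 63, 122, 107], [88, 126, 25, 96, 68, 32, 116], [45, 27, 56, 89, 112, 32, 40]],
   [[40, 91, 45, 47, 55, 56, 96], [110, 12, 107, 57, 33, 56, 120], [40, 6, 52, 102, 111, 63, 60], [92, 60, 62, 68, 127, 69, 79]],
   [[20, 71, 70, 67, 103, 26, 51], [6, 95, 10, 116, 11, 18, 81], [20, 44, 120, 119, 76, 31, 30], [96, 123, 45, 58, 44, 21, 7]],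
   [[14, 62, 97, 125, 45, 10, 92], [31, 89, 33, 121, 84, 87, 76], [14, 80, 96, 76, 20, 109, 9], [90, 127, 100, 26, 116, 114, 118]],
   [[55, 56, 26, 73, 119, 59, 17], [127, 93, 71, 102, 63, 91, 17], [55, 68, 99, 81, 88, 121, 109], [106, 81, 103, 114, 7, 90, 101]],
   [[33, 51, 25, 21, 77, 86, 26], [112, 52, 79, 67, 55, 113, 108], [33, 37, 7, 105, 35, 95, 112], [22, 17, 3, 115, 45, 23, 122]],
   [[30, 117, 98, 126, 40, 36, 19], [113, 13, 70, 118, 60, 102, 111], [30, 125, 48, 54, 100, 87, 17], [31, 43, 39, 82, 95, 91, 108]],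
   [[39, 62, 42, 19, 79, 14, 8], [110, 75, 43, 64, 45, 15, 94], [39, 48, 105, 51, 103, 12, 117], [62, 52, 109, 77, 100, 102, 17]],
   [[77, 30, 52, 10, 24, 51, 40], [54, 70, 84, 78, 94, 14, 45], [77, 32, 65, 19, 33, 87, 42], [18, 121, 62, 59, 99, 2, 22]],
   [[35, 122, 25, 40, 106, 31, 24], [68, 31, 59, 82, 18, 90, 7], [35, 89, 66, 123, 124, 41, 115], [11, 105, 122, 72, 44, 99, 109]],
   [[10, 99, 72, 27, 57, 117, 82], [76, 83, 52, 82, 69, 75, 86], [10, 85, 54, 36, 27, 25, 15], [45, 48, 108, 49, 60, 100, 127]],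
   [[97, 62, 108, 9, 21, 89, 119], [127, 46, 13, 119, 98, 52, 74], [97, 106, 124, 123, 92, 117, 16], [74, 39, 97, 110, 64, 20, 95]],
   [[84, 104, 110, 32, 66, 119, 105], [66, 107, 109, 113, 23, 8, 123], [84, 30, 58, 22, 87, 80, 126], [125, 108, 33, 10, 69, 39, 101]],
   [[71, 24, 127, 102, 13, 89, 80], [14, 83, 112, 110, 108, 7, 44], [71, 89, 27, 93, 53, 64, 37], [13, 38, 10, 127, 80, 71, 32]],
   [[70, 74, 90, 19, 96, 75, 10], [34, 44, 111, 108, 6, 82, 66], [70, 53, 65, 99, 111, 102, 101], [77, 45, 101, 125, 11, 33, 73]],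
   [[102, 121, 45, 48, 93, 105, 21], [90, 15, 56, 76, 34, 42, 28], [102, 91, 92, 15, 71, 121, 85], [74, 121, 53, 14, 41, 91, 22]],
   [[117, 15, 3, 2, 23, 70, 28], [12, 8, 82, 84, 70, 99, 122], [117, 105, 15, 11, 83, 111, 14], [68, 46, 12, 98, 109, 51, 23]],
   [[20, 114, 67, 51, 36, 62, 32], [23, 14, 80, 111, 81, 64, 29], [20, 79, 33, 105, 109, 2, 30], [54, 32, 24, 97, 25, 50, 109]],
   [[49, 108, 44, 77, 3, 81, 75], [45, 61, 117, 86, 11, 39, 6], [49, 31, 13, 59, 23, 19, 104], [38, 27, 48, 18, 29, 58, 104]],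
   [[47, 77, 105, 23, 64, 99, 14], [35, 113, 100, 85, 62, 98, 16], [47, 96, 103, 105, 120, 93, 121], [80, 107, 61, 90, 72, 93, 95]],
   [[4, 28, 45, 46, 81, 23, 102], [91, 87, 1, 46, 45, 112, 102], [4, 8, 33, 73, 40, 30, 6], [22, 65, 1, 2, 98, 18, 28]],
   [[14, 3, 66, 116, 55, 21, 101], [28, 30, 104, 119, 84, 46, 26], [14, 30, 124, 111, 40, 100, 9], [103, 104, 78, 39, 3, 55, 89]],
   [[55, 46, 110, 33, 16, 60, 48], [88, 50, 43, 75, 16, 80, 6], [55, 33, 62, 108, 103, 64, 109], [72, 29, 47, 77, 49, 74, 32]],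
   [[13, 10, 40, 78, 57, 15, 106], [77, 33, 111, 35, 89, 39, 101], [13, 121, 3, 53, 106, 7, 74], [106, 110, 36, 79, 22, 80, 97]],
   [[57, 120, 49, 117, 94, 101, 66], [114, 49, 125, 5, 40, 94, 113], [57, 99, 69, 34, 43, 41, 100], [124, 48, 14, 100, 33, 56, 118]],
   [[121, 15, 80, 109, 19, 120, 3], [33, 97, 89, 27, 80, 63, 84], [121, 59, 41, 72, 120, 30, 4], [17, 109, 64, 102, 107, 115, 110]],
   [[68, 2, 111, 119, 57, 19, 67], [53, 2, 118, 27, 23, 41, 119], [68, 13, 33, 22, 2, 61, 102], [85, 16, 107, 60, 115, 81, 106]],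
   [[7, 83, 106, 59, 67, 72, 20], [93, 14, 82, 99, 18, 42, 67], [7, 73, 23, 116, 14, 121, 69], [106, 82, 57, 123, 5, 39, 19]],
   [[108, 6, 66, 97, 96, 77, 50], [24, 45, 47, 62, 84, 57, 41], [108, 58, 26, 36, 2, 29, 90], [58, 16, 14, 77, 89, 6, 68]],
   [[88, 7, 63, 39, 8, 113, 75], [59, 102, 95, 16, 28, 10, 13], [88, 95, 68, 71, 45, 59, 116], [81, 93, 15, 104, 98, 38, 11]],
   [[83, 100, 114, 15, 17, 89, 31], [88, 63, 113, 30, 72, 93, 46], [83, 51, 11, 125, 113, 47, 59], [41, 111, 90, 66, 58, 126, 125]],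
   [[120, 42, 94, 119, 25, 115, 83], [67, 77, 40, 47, 124, 96, 50], [120, 83, 63, 62, 50, 125, 68], [12, 73, 45, 53, 42, 115, 109]],
   [[108, 67, 29, 74, 112, 19, 4], [21, 123, 64, 31, 78, 50, 108], [108, 50, 52, 60, 75, 18, 90], [53, 69, 67, 12, 101, 34, 108]],
   [[70, 87, 20, 97, 24, 33, 19], [109, 67, 106, 126, 110, 77, 40], [70, 62, 10, 97, 69, 115, 101], [39, 54, 72, 50, 30, 80, 127]],
   [[73, 54, 102, 43, 7, 92, 27], [90, 71, 13, 43, 118, 62, 112], [73, 55, 24, 70, 111, 103, 44], [39, 97, 127, 48, 52, 15, 22]],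
   [[75, 103, 25, 51, 124, 66, 85], [74, 22, 25, 107, 37, 113, 54], [75, 50, 27, 99, 34, 72, 47], [15, 46, 104, 55, 18, 62, 23]],
   [[49, 43, 27, 72, 8, 125, 58], [7, 86, 41, 16, 69, 67, 24], [49, 113, 99, 20, 9, 87, 104], [127, 84, 90, 111, 82, 44, 3]],
   [[60, 124, 123, 90, 72, 24, 39], [74, 43, 103, 19, 51, 70, 3], [60, 22, 68, 19, 51, 116, 34], [108, 88, 102, 67, 60, 24, 98]],
   [[111, 114, 91, 49, 105, 51, 97], [52, 40, 57, 80, 94, 98, 22], [111, 109, 57, 91, 61, 113, 25], [118, 3, 20, 111, 89, 68, 75]],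
   [[49, 10, 106, 116, 107, 32, 34], [20, 96, 59, 98, 53, 32, 38], [49, 99, 90, 126, 85, 97, 104], [103, 34, 86, 7, 60, 90, 29]],
   [[70, 122, 55, 111, 86, 117, 119], [62, 96, 37, 89, 17, 110, 68], [70, 64, 118, 86, 52, 126, 101], [91, 22, 21, 36, 9, 12, 2]],
   [[112, 54, 101, 81, 88, 67, 97], [103, 14, 68, 127, 38, 110, 73], [112, 94, 126, 100, 109, 84, 72], [113, 75, 39, 105, 46, 6, 41]],
   [[38, 66, 125, 126, 54, 89, 97], [41, 37, 106, 63, 17, 78, 39], [38, 24, 23, 13, 109, 97, 53], [56, 14, 69, 117, 119, 74, 82]],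
   [[62, 123, 100, 80, 19, 20, 34], [43, 108, 119, 97, 87, 44, 95], [62, 82, 87, 42, 66, 54, 33], [29, 116, 27, 33, 18, 93, 100]],
   [[14, 13, 42, 76, 94, 85, 9], [115, 112, 66, 51, 104, 71, 121], [14, 5, 126, 69, 90, 107, 9], [63, 67, 61, 127, 38, 41, 10]],
   [[98, 124, 101, 35, 20, 59, 5], [46, 69, 110, 86, 126, 99, 39], [98, 96, 63, 44, 48, 43, 83], [81, 3, 122, 60, 94, 78, 76]],
   [[105, 2, 37, 113, 17, 48, 116], [124, 2, 52, 101, 108, 76, 84], [105, 103, 42, 96, 64, 23, 28], [124, 105, 31, 117, 42, 24, 16]],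
   [[11, 106, 108, 18, 16, 45, 73], [125, 24, 30, 100, 16, 39, 89], [11, 83, 95, 100, 112, 90, 79], [120, 35, 92, 90, 68, 73, 29]],
   [[100, 11, 71, 107, 19, 88, 18], [80, 109, 11, 63, 45, 56, 50], [100, 74, 104, 85, 81, 64, 86], [119, 63, 24, 29, 71, 57, 32]],
   [[85, 74, 97, 68, 16, 19, 105], [25, 41, 103, 68, 16, 114, 111], [85, 9, 63, 112, 104, 49, 62], [68, 21, 119, 70, 94, 58, 108]],
   [[94, 91, 26, 106, 27, 72, 92], [20, 65, 23, 50, 119, 105, 18], [94, 18, 90, 28, 45, 56, 113], [102, 81, 5, 94, 83, 45, 88]],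
   [[112, 68, 99, 59, 50, 27, 125], [61, 74, 89, 37, 114, 40, 91], [112, 59, 120, 68, 2, 35, 72], [83, 16, 77, 5, 39, 99, 69]],
   [[90, 78, 119, 81, 116, 16, 52], [120, 108, 35, 29, 32, 67, 80], [90, 95, 63, 112, 124, 39, 119], [49, 75, 50, 42, 14, 104, 110]],
   [[31, 77, 125, 15, 111, 42, 19], [84, 29, 115, 50, 9, 15, 23], [31, 94, 29, 99, 57, 96, 81], [45, 5, 26, 112, 67, 14, 46]],
   [[114, 59, 65, 43, 127, 88, 40], [41, 97, 63, 7, 10, 71, 45], [114, 126, 88, 89, 28, 33, 75], [12, 91, 113, 114, 19, 44, 101]],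
   [[63, 14, 110, 61, 75, 66, 23], [94, 9, 101, 110, 114, 47, 41], [63, 69, 85, 101, 54, 73, 97], [123, 84, 72, 106, 6, 10, 49]],
   [],
   [[116, 46, 126, 104, 30, 112, 3], [89, 25, 33, 28, 52, 38, 50], [116, 24, 106, 87, 4, 8, 99], [100, 23, 16, 32, 34, 122, 73]],
   [[71, 22, 10, 74, 51, 23, 48], [34, 114, 93, 118, 45, 109, 12], [71, 92, 90, 113, 118, 62, 76], [30, 118, 112, 41, 66, 77, 25]],
   [[74, 78, 83, 92, 58, 126, 31], [61, 70, 3, 116, 76, 110, 51], [74, 23, 106, 87, 105, 85, 109], [60, 40, 80, 35, 70, 5, 10]],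
   [[93, 74, 37, 65, 87, 35, 82], [27, 111, 75, 126, 60, 84, 19], [93, 46, 63, 62, 107, 118, 120], [12, 86, 47, 25, 10, 98, 49]],
   [[38, 124, 92, 66, 79, 60, 48], [120, 42, 45, 77, 70, 6, 34], [38, 105, 34, 68, 120, 12, 24], [119, 89, 5, 37, 101, 93, 13]],
   [[122, 112, 29, 3, 27, 8, 90], [43, 35, 55, 32, 56, 65, 123], [122, 60, 32, 72, 82, 37, 66], [103, 93, 67, 21, 80, 4, 29]],
   [[65, 34, 122, 42, 39, 64, 109], [33, 122, 51, 10, 44, 120, 32], [65, 79, 87, 39, 68, 40, 80], [43, 85, 58, 108, 106, 76, 42]],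
   [[63, 120, 100, 54, 68, 107, 122], [81, 66, 111, 88, 49, 20, 127], [63, 111, 76, 77, 39, 9, 3], [12, 76, 22, 44, 61, 70, 62]],
   [[16, 56, 72, 43, 27, 12, 106], [86, 93, 58, 26, 1, 25, 30], [16, 8, 56, 88, 3, 6, 12], [114, 98, 66, 2, 1, 7, 11]],
   [[13, 49, 95, 31, 79, 57, 81], [88, 29, 123, 34, 20, 78, 12], [13, 34, 20, 120, 35, 42, 84], [18, 89, 49, 34, 53, 91, 68]],
   [[41, 89, 103, 55, 28, 79, 94], [37, 25, 126, 43, 69, 15, 73], [41, 9, 93, 118, 85, 89, 68], [22, 13, 36, 20, 70, 3, 100]],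
   [[19, 112, 102, 49, 86, 120, 118], [28, 89, 27, 34, 68, 80, 22], [19, 116, 8, 16, 17, 38, 43], [24, 17, 124, 4, 8, 77, 59]],
   [[85, 6, 116, 59, 43, 76, 99], [94, 114, 112, 103, 24, 91, 55], [85, 122, 72, 7, 93, 65, 86], [53, 116, 73, 17, 104, 26, 21]],
   [[60, 2, 114, 49, 91, 39, 18], [63, 2, 104, 94, 66, 117, 49], [60, 4, 74, 38, 76, 16, 61], [65, 22, 2, 63, 32, 28, 45]],
   [[121, 69, 6, 27, 36, 113, 123], [90, 65, 69, 33, 50, 85, 29], [121, 27, 92, 109, 12, 77, 26], [66, 89, 111, 127, 102, 40, 114]],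
   [[83, 19, 85, 8, 80, 35, 121], [105, 120, 125, 8, 19, 49, 3], [83, 30, 79, 69, 50, 60, 27], [126, 7, 60, 11, 50, 37, 74]],
   [[48, 19, 73, 29, 8, 51, 72], [68, 101, 127, 16, 35, 34, 80], [48, 101, 73, 12, 62, 108, 120], [69, 25, 111, 103, 15, 14, 38]],
   [[14, 58, 125, 75, 107, 78, 36], [112, 15, 88, 86, 67, 24, 33], [14, 8, 16, 37, 111, 88, 19], [120, 60, 63, 2, 4, 79, 38]],
   [[10, 2, 92, 47, 104, 29, 81], [121, 2, 62, 3, 100, 78, 93], [10, 80, 18, 99, 127, 68, 11], [65, 59, 29, 58, 63, 79, 61]],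
   [[78, 32, 82, 71, 46, 4, 48], [110, 85, 32, 103, 66, 2, 19], [78, 6, 85, 64, 116, 53, 94], [56, 119, 117, 11, 65, 44, 8]],
   [[115, 33, 83, 25, 14, 120, 39], [7, 116, 54, 82, 93, 5, 42], [115, 86, 11, 119, 60, 39, 34], [105, 35, 9, 78, 52, 99, 28]],
   [[74, 127, 3, 103, 16, 109, 5], [54, 50, 118, 26, 16, 83, 41], [74, 85, 84, 118, 39, 68, 52], [6, 114, 26, 73, 36, 126, 58]],
   [[9, 116, 50, 88, 53, 1, 121], [32, 119, 67, 33, 27, 104, 50], [9, 95, 12, 68, 98, 66, 51], [123, 86, 126, 122, 93, 48, 118]],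
   [[71, 28, 74, 70, 98, 65, 124], [9, 82, 115, 127, 14, 107, 41], [71, 86, 21, 85, 117, 119, 73], [58, 48, 7, 118, 57, 24, 12]],
   [[127, 42, 108, 122, 64, 43, 103], [34, 61, 43, 91, 26, 100, 16], [127, 96, 121, 26, 91, 67, 106], [54, 56, 61, 122, 74, 44, 46]],
   [[39, 125, 24, 13, 22, 46, 12], [72, 84, 41, 105, 109, 52, 83], [39, 123, 121, 30, 69, 113, 88], [94, 6, 67, 36, 105, 26, 13]],
   [[95, 2, 126, 114, 67, 103, 59], [99, 2, 86, 90, 29, 102, 113], [95, 49, 51, 102, 79, 64, 94], [65, 6, 124, 11, 17, 82, 32]],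
   [[91, 102, 110, 7, 28, 70, 77], [49, 87, 110, 6, 120, 34, 25], [91, 97, 35, 77, 18, 47, 104], [127, 85, 25, 61, 69, 46, 83]],
   [[68, 84, 85, 125, 103, 37, 31], [6, 111, 94, 116, 3, 120, 95], [68, 27, 43, 89, 62, 108, 110], [69, 96, 107, 29, 58, 60, 106]],
   [[36, 95, 84, 107, 32, 44, 29], [123, 92, 17, 33, 11, 16, 30], [36, 72, 31, 1, 14, 35, 74], [8, 66, 107, 57, 28, 106, 59]],
   [[81, 75, 80, 85, 20, 48, 103], [5, 104, 9, 114, 25, 57, 29], [81, 17, 28, 6, 57, 73, 53], [86, 45, 37, 117, 84, 103, 3]],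
   [[31, 18, 95, 74, 19, 86, 108], [18, 59, 39, 54, 57, 84, 5], [31, 84, 65, 73, 62, 100, 22], [77, 11, 53, 12, 126, 92, 73]],
   [[75, 2, 44, 52, 51, 102, 18], [37, 2, 63, 78, 66, 117, 104], [75, 31, 97, 79, 25, 66, 74], [65, 27, 9, 96, 49, 126, 59]],
   [[67, 14, 115, 40, 57, 113, 76], [67, 36, 112, 86, 91, 94, 102], [67, 112, 18, 84, 47, 43, 68], [61, 76, 48, 107, 72, 58, 112]],
   [[62, 48, 74, 125, 111, 72, 40], [115, 36, 89, 126, 60, 62, 94], [62, 43, 113, 70, 111, 35, 38], [47, 26, 79, 34, 99, 21, 93]],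
   [[7, 69, 55, 13, 103, 25, 88], [62, 93, 98, 84, 74, 79, 94], [7, 57, 10, 35, 4, 50, 100], [38, 55, 16, 51, 14, 25, 73]],
   [[85, 7, 121, 39, 13, 21, 41], [31, 71, 90, 85, 101, 10, 33], [85, 21, 83, 62, 18, 24, 23], [23, 66, 71, 114, 82, 45, 3]],
   [[13, 17, 74, 14, 60, 5, 127], [117, 124, 85, 33, 119, 19, 89], [13, 54, 4, 110, 90, 7, 68], [62, 26, 4, 59, 117, 105, 68]],
   [[65, 62, 32, 34, 41, 44, 33], [68, 12, 116, 80, 46, 4, 69], [65, 3, 38, 54, 20, 47, 94], [119, 117, 28, 83, 12, 109, 118]],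
   [[18, 47, 40, 16, 122, 78, 22], [78, 9, 65, 125, 8, 121, 21], [18, 66, 2, 57, 37, 13, 68], [61, 4, 70, 91, 5, 107, 6]],
   [[28, 125, 2, 92, 126, 37, 115], [22, 4, 42, 108, 71, 28, 9], [28, 107, 52, 11, 46, 94, 99], [38, 108, 121, 66, 58, 71, 77]],
   [[62, 22, 86, 25, 105, 44, 84], [21, 68, 35, 120, 101, 123, 6], [62, 109, 104, 70, 113, 94, 53], [60, 88, 58, 37, 13, 75, 106]],
   [[123, 97, 52, 43, 95, 82, 27], [67, 41, 76, 63, 21, 93, 28], [123, 19, 86, 111, 55, 87, 10], [36, 115, 92, 51, 85, 78, 126]],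
   [[88, 27, 120, 98, 81, 61, 37], [14, 108, 75, 31, 127, 5, 97], [88, 39, 117, 40, 29, 1, 20], [32, 119, 45, 112, 109, 120, 28]],
   [[88, 13, 33, 57, 25, 122, 6], [28, 57, 121, 103, 107, 24, 13], [88, 70, 23, 46, 68, 94, 31], [67, 18, 51, 68, 102, 109, 35]],
   [[65, 19, 24, 125, 72, 120, 51], [103, 23, 79, 118, 114, 66, 102], [65, 100, 75, 105, 1, 55, 9], [16, 85, 74, 80, 118, 89, 17]],
   [[102, 10, 53, 24, 7, 55, 19], [74, 36, 126, 38, 46, 30, 69], [102, 110, 4, 109, 116, 89, 99], [69, 79, 4, 3, 94, 114, 56]],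
   [[25, 104, 107, 58, 79, 22, 63], [83, 85, 27, 60, 110, 15, 49], [25, 125, 67, 112, 8, 69, 45], [105, 87, 115, 16, 120, 74, 58]],
   [[60, 13, 25, 109, 58, 1, 3], [32, 96, 113, 83, 119, 84, 94], [60, 104, 53, 64, 1, 2, 123], [16, 32, 121, 21, 114, 31, 8]],
   [[15, 58, 92, 119, 85, 48, 87], [102, 80, 69, 114, 104, 72, 91], [15, 23, 64, 4, 20, 38, 18], [74, 88, 8, 27, 24, 112, 4]],
   [[126, 70, 100, 73, 24, 52, 89], [60, 21, 123, 88, 72, 19, 108], [126, 95, 16, 68, 87, 81, 93], [94, 66, 114, 18, 4, 93, 122]],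
   [[103, 25, 94, 66, 18, 30, 68], [106, 44, 100, 84, 60, 7, 36], [103, 33, 18, 36, 22, 52, 42], [30, 44, 20, 112, 40, 28, 59]],
   [[20, 5, 89, 41, 42, 69, 4], [66, 90, 64, 37, 65, 111, 34], [20, 127, 63, 102, 32, 16, 87], [120, 63, 33, 82, 32, 16, 6]],
   [[23, 38, 118, 117, 76, 15, 10], [87, 91, 55, 27, 58, 110, 60], [23, 37, 115, 87, 28, 2, 4], [14, 32, 64, 63, 111, 76, 9]],
   [[41, 97, 116, 32, 57, 112, 39], [51, 95, 36, 58, 17, 8, 57], [41, 82, 112, 101, 74, 69, 88], [69, 46, 55, 108, 126, 40, 82]],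
   [[69, 12, 41, 102, 125, 120, 33], [118, 73, 70, 68, 99, 54, 49], [69, 86, 52, 16, 48, 47, 67], [94, 85, 20, 39, 8, 24, 75]],
   [[81, 83, 97, 78, 41, 104, 84], [94, 3, 31, 122, 49, 52, 110], [81, 77, 117, 107, 94, 61, 57], [70, 15, 96, 56, 91, 101, 28]],
   [[63, 66, 77, 102, 93, 87, 78], [47, 107, 25, 91, 20, 19, 105], [63, 85, 126, 56, 97, 23, 30], [84, 115, 46, 52, 41, 21, 81]],
   [[101, 24, 18, 92, 23, 53, 97], [85, 110, 65, 104, 106, 94, 75], [101, 104, 71, 26, 21, 67, 105], [66, 27, 36, 101, 118, 30, 121]],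
   [[71, 76, 1, 49, 63, 106, 86], [4, 116, 31, 115, 69, 73, 110], [71, 102, 116, 62, 73, 26, 97], [117, 105, 94, 38, 111, 118, 67]],
   [[82, 103, 111, 47, 66, 51, 120], [118, 28, 63, 6, 17, 91, 12], [82, 63, 17, 98, 110, 71, 32], [77, 94, 37, 61, 73, 64, 22]],
   [[124, 4, 56, 106, 94, 51, 126], [123, 65, 2, 30, 74, 80, 7], [124, 8, 92, 26, 109, 63, 126], [90, 65, 119, 2, 75, 5, 58]],
   [[1, 8, 123, 111, 38, 107, 113], [1, 70, 40, 2, 36, 126, 27], [1, 31, 51, 47, 19, 107, 5], [1, 15, 65, 83, 30, 20, 105]],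
   [[24, 126, 109, 118, 4, 100, 56], [46, 35, 16, 10, 11, 65, 113], [24, 36, 69, 13, 99, 44, 39], [84, 22, 126, 34, 35, 124, 46]],
   [[121, 100, 115, 76, 28, 24, 113], [19, 68, 48, 65, 97, 75, 121], [121, 115, 124, 91, 120, 76, 75], [17, 101, 20, 102, 72, 108, 82]],
   [[80, 114, 102, 65, 79, 112, 48], [104, 34, 103, 93, 97, 33, 96], [80, 122, 124, 35, 3, 20, 105], [100, 116, 114, 111, 82, 24, 83]],
   [[2, 112, 14, 3, 72, 78, 34], [9, 1, 49, 52, 103, 65, 36], [2, 28, 76, 50, 11, 121, 58], [89, 1, 116, 72, 62, 55, 56]],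
   [[113, 8, 53, 39, 43, 34, 115], [50, 65, 26, 2, 77, 97, 31], [113, 53, 85, 19, 11, 116, 117], [96, 15, 65, 127, 103, 68, 66]],
   [[18, 126, 125, 14, 117, 87, 114], [76, 74, 86, 20, 75, 122, 59], [18, 9, 126, 67, 48, 84, 45], [55, 77, 30, 53, 76, 92, 114]],
   [[60, 87, 92, 59, 13, 46, 119], [31, 109, 123, 116, 76, 66, 71], [60, 56, 19, 92, 13, 11, 86], [104, 51, 3, 123, 95, 38, 47]],
   [[9, 3, 113, 5, 86, 42, 18], [61, 63, 53, 60, 127, 35, 101], [9, 13, 102, 69, 3, 95, 73], [74, 90, 3, 75, 57, 28, 65]],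
   [[77, 44, 16, 109, 43, 110, 58], [84, 124, 58, 49, 4, 9, 94], [77, 46, 122, 20, 127, 70, 91], [115, 73, 103, 27, 111, 55, 14]],
   [[90, 47, 42, 55, 76, 115, 80], [92, 121, 90, 56, 50, 69, 114], [90, 76, 94, 35, 38, 115, 12], [29, 108, 5, 69, 106, 121, 66]],
   [[41, 69, 54, 124, 113, 67, 107], [97, 22, 52, 77, 11, 45, 87], [41, 121, 67, 91, 101, 20, 74], [118, 79, 30, 50, 62, 69, 61]],
   [[9, 39, 13, 34, 121, 111, 114], [15, 81, 5, 14, 100, 89, 44], [9, 24, 97, 92, 8, 86, 91], [17, 56, 97, 16, 18, 126, 107]],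
   [[32, 15, 82, 124, 31, 113, 118], [15, 42, 69, 98, 18, 1, 60], [32, 100, 112, 110, 21, 87, 102], [22, 66, 113, 72, 119, 1, 114]],
   [[30, 6, 66, 37, 54, 62, 50], [121, 82, 80, 48, 51, 33, 86], [30, 92, 48, 127, 101, 53, 29], [61, 124, 25, 43, 79, 75, 127]],
   [[100, 91, 105, 57, 62, 95, 43], [19, 41, 34, 52, 97, 78, 109], [100, 48, 20, 10, 27, 18, 8], [112, 72, 108, 64, 104, 106, 7]],
   [[59, 2, 15, 90, 72, 75, 27], [50, 2, 94, 106, 26, 65, 122], [59, 87, 116, 14, 50, 84, 58], [65, 99, 59, 80, 87, 36, 76]],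
   [[70, 86, 29, 10, 118, 33, 4], [50, 125, 64, 117, 3, 18, 60], [70, 81, 4, 61, 88, 95, 109], [74, 126, 4, 88, 51, 45, 123]],
   [[125, 103, 96, 83, 113, 47, 24], [41, 67, 108, 125, 61, 91, 95], [125, 99, 56, 106, 87, 74, 112], [87, 100, 75, 93, 113, 40, 25]],
   [[97, 87, 112, 114, 57, 74, 76], [56, 12, 108, 75, 61, 94, 103], [97, 16, 71, 90, 102, 79, 122], [92, 59, 118, 36, 2, 72, 21]],
   [[52, 95, 40, 43, 16, 124, 85], [100, 104, 63, 42, 16, 46, 11], [52, 55, 18, 79, 35, 58, 64], [105, 106, 124, 55, 110, 19, 64]],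
   [[41, 95, 122, 109, 31, 73, 111], [46, 72, 27, 28, 113, 51, 18], [41, 91, 106, 40, 89, 103, 18], [9, 18, 120, 85, 82, 93, 30]],
   [[37, 32, 17, 80, 63, 115, 90], [93, 119, 94, 63, 89, 2, 81], [37, 3, 60, 14, 111, 46, 102], [115, 113, 90, 35, 85, 40, 67]],
   [[69, 37, 112, 123, 18, 34, 45], [89, 23, 108, 66, 7, 55, 52], [69, 28, 125, 108, 65, 110, 117], [91, 40, 17, 68, 87, 22, 75]],
   [[4, 91, 73, 102, 65, 60, 123], [42, 113, 1, 20, 119, 66, 58], [4, 117, 107, 16, 34, 37, 106], [68, 117, 1, 122, 8, 101, 42]],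
   [[73, 59, 71, 99, 16, 64, 27], [27, 113, 78, 58, 16, 66, 32], [73, 42, 6, 23, 5, 33, 112], [91, 79, 75, 54, 87, 123, 108]],
   [[51, 102, 78, 84, 49, 75, 19], [11, 17, 47, 71, 90, 65, 125], [51, 85, 124, 63, 98, 61, 88], [75, 40, 19, 26, 53, 87, 111]],
   [[92, 83, 33, 97, 52, 101, 62], [123, 50, 40, 98, 71, 127, 12], [92, 61, 122, 45, 9, 72, 26], [71, 29, 43, 87, 10, 51, 119]],
   [[3, 50, 56, 28, 61, 103, 32], [88, 89, 76, 95, 27, 64, 45], [3, 22, 120, 96, 37, 30, 90], [120, 121, 85, 34, 46, 61, 53]],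
   [[27, 33, 32, 111, 101, 105, 107], [6, 96, 72, 120, 31, 4, 90], [27, 31, 124, 51, 28, 114, 6], [81, 67, 3, 100, 119, 109, 121]],
   [[65, 85, 50, 53, 5, 127, 15], [121, 28, 105, 76, 106, 114, 120], [65, 16, 84, 123, 64, 23, 75], [17, 37, 22, 100, 2, 74, 16]],
   [[92, 113, 21, 78, 123, 30, 37], [54, 81, 106, 67, 88, 28, 112], [92, 59, 50, 56, 5, 24, 11], [76, 70, 92, 74, 106, 40, 125]],
   [[26, 32, 101, 35, 61, 9, 37], [91, 81, 25, 123, 43, 2, 68], [26, 59, 96, 78, 54, 64, 7], [39, 29, 122, 79, 83, 36, 32]],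
   [[80, 100, 53, 45, 111, 107, 37], [7, 93, 48, 72, 68, 119, 69], [80, 19, 48, 114, 33, 4, 74], [15, 22, 32, 76, 27, 31, 26]],
   [[15, 88, 44, 66, 29, 86, 120], [35, 100, 93, 27, 117, 66, 108], [15, 13, 74, 25, 33, 29, 101], [85, 3, 40, 127, 34, 69, 120]],
   [[7, 43, 86, 47, 113, 52, 25], [99, 104, 10, 28, 63, 21, 89], [7, 61, 81, 76, 106, 83, 17], [23, 36, 50, 126, 87, 14, 68]],
   [[120, 100, 14, 8, 44, 17, 30], [100, 67, 79, 8, 68, 87, 26], [120, 11, 50, 28, 69, 9, 118], [84, 34, 23, 116, 107, 77, 83]],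
   [[99, 72, 12, 36, 46, 127, 69], [70, 73, 85, 81, 37, 93, 83], [99, 36, 43, 100, 106, 103, 55], [30, 54, 33, 15, 106, 35, 10]],
   [[65, 37, 33, 74, 53, 17, 44], [50, 75, 6, 112, 18, 54, 51], [65, 89, 84, 104, 91, 17, 115], [89, 18, 37, 122, 121, 42, 88]],
   [[4, 24, 86, 16, 89, 50, 102], [123, 100, 1, 10, 8, 76, 105], [4, 69, 110, 56, 113, 3, 10], [123, 91, 1, 27, 46, 61, 120]],
   [[35, 64, 48, 77, 26, 71, 65], [66, 127, 31, 87, 56, 60, 2], [35, 50, 1, 31, 37, 56, 83], [4, 56, 41, 26, 7, 61, 123]],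
   [[86, 83, 90, 63, 50, 46, 27], [29, 115, 30, 27, 53, 86, 89], [86, 14, 53, 51, 58, 65, 21], [22, 97, 109, 14, 59, 68, 54]],
   [[56, 47, 54, 108, 61, 10, 59], [52, 117, 37, 85, 103, 51, 75], [56, 57, 123, 28, 47, 41, 114], [3, 93, 109, 71, 34, 100, 91]],
   [[92, 2, 42, 97, 59, 9, 74], [76, 2, 27, 108, 88, 106, 46], [92, 9, 78, 106, 22, 26, 115], [39, 79, 21, 37, 74, 25, 123]],
   [[48, 124, 117, 100, 99, 29, 27], [120, 50, 82, 126, 116, 117, 47], [48, 51, 41, 5, 23, 73, 22], [80, 83, 88, 30, 75, 74, 110]],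
   [[116, 77, 33, 119, 62, 101, 109], [70, 79, 26, 96, 103, 66, 62], [116, 4, 8, 11, 98, 126, 41], [41, 37, 2, 4, 54, 109, 88]],
   [[5, 116, 36, 77, 44, 3, 35], [101, 69, 100, 20, 27, 96, 29], [5, 91, 89, 52, 112, 50, 124], [47, 6, 46, 126, 99, 69, 54]],
   [[42, 67, 112, 28, 124, 82, 14], [62, 84, 49, 37, 28, 112, 104], [42, 3, 13, 125, 58, 45, 95], [110, 108, 35, 73, 17, 36, 57]],
   [[47, 72, 65, 2, 25, 82, 13], [58, 8, 70, 60, 22, 73, 62], [47, 121, 49, 42, 48, 107, 93], [20, 109, 29, 58, 79, 95, 60]],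
   [[16, 73, 66, 3, 12, 57, 52], [112, 120, 30, 14, 1, 95, 124], [16, 92, 79, 72, 11, 18, 125], [38, 33, 11, 23, 1, 100, 31]],
   [[77, 1, 52, 101, 69, 95, 16], [2, 97, 92, 17, 64, 24, 78], [77, 87, 50, 120, 110, 16, 107], [53, 93, 101, 126, 32, 121, 47]],
   [[28, 102, 6, 79, 54, 100, 59], [57, 34, 38, 79, 104, 124, 122], [28, 44, 25, 106, 110, 105, 33], [29, 53, 24, 71, 94, 93, 39]],
   [[86, 23, 29, 36, 58, 53, 16], [104, 116, 94, 114, 64, 86, 107], [86, 95, 94, 117, 98, 26, 55], [6, 87, 59, 5, 114, 88, 31]],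
   [[43, 47, 89, 77, 13, 37, 61], [124, 77, 3, 111, 15, 95, 24], [43, 70, 11, 58, 103, 89, 41], [23, 65, 56, 82, 30, 5, 123]],
   [[12, 123, 74, 107, 6, 91, 104], [46, 102, 118, 119, 10, 34, 21], [12, 4, 82, 76, 77, 98, 118], [24, 111, 2, 3, 98, 70, 9]],
   [[118, 76, 2, 4, 110, 18, 25], [81, 4, 8, 53, 36, 22, 63], [118, 94, 64, 52, 108, 21, 107], [74, 13, 23, 97, 125, 98, 4]],
   [[27, 82, 32, 120, 1, 40, 55], [16, 42, 97, 36, 31, 4, 55], [27, 30, 119, 25, 100, 61, 126], [81, 9, 82, 21, 76, 122, 56]],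
   [[54, 26, 126, 103, 84, 14, 107], [102, 104, 127, 55, 93, 75, 50], [54, 64, 82, 111, 113, 70, 32], [49, 101, 71, 89, 99, 64, 2]],
   [[20, 81, 56, 36, 22, 122, 54], [110, 17, 88, 13, 89, 80, 53], [20, 37, 33, 72, 13, 67, 119], [101, 62, 6, 115, 7, 97, 123]],
   [[68, 126, 28, 62, 127, 71, 53], [18, 51, 11, 105, 102, 63, 10], [68, 93, 15, 8, 78, 117, 89], [87, 25, 66, 8, 92, 42, 67]],
   [[125, 3, 24, 65, 10, 55, 34], [57, 59, 118, 43, 47, 123, 49], [125, 20, 10, 80, 114, 115, 66], [48, 111, 37, 107, 39, 119, 47]],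
   [[116, 107, 52, 4, 51, 84, 89], [82, 78, 8, 58, 45, 33, 5], [116, 31, 103, 92, 118, 47, 58], [76, 17, 116, 115, 88, 122, 87]],
   [[41, 107, 67, 98, 65, 125, 108], [7, 20, 81, 13, 103, 11, 23], [41, 94, 69, 99, 59, 16, 8], [87, 49, 43, 64, 32, 22, 120]],
   [[15, 124, 105, 92, 43, 1, 60], [32, 86, 27, 108, 61, 10, 66], [15, 30, 60, 62, 115, 91, 119], [103, 12, 80, 58, 100, 10, 21]],
   [[15, 119, 22, 108, 42, 8, 56], [122, 15, 84, 32, 95, 63, 67], [15, 84, 98, 72, 106, 31, 51], [121, 83, 63, 20, 33, 75, 28]],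
   [[99, 53, 22, 47, 103, 58, 23], [68, 104, 17, 31, 125, 42, 7], [99, 109, 34, 111, 1, 93, 72], [16, 10, 92, 85, 44, 14, 21]],
   [[117, 91, 75, 87, 39, 37, 1], [64, 48, 89, 83, 6, 57, 39], [117, 43, 38, 14, 112, 122, 98], [41, 39, 56, 23, 119, 27, 124]],
   [[31, 83, 6, 125, 24, 23, 37], [21, 126, 122, 33, 49, 47, 88], [31, 89, 7, 11, 112, 30, 57], [33, 126, 91, 87, 82, 100, 38]],
   [[9, 52, 117, 76, 95, 125, 84], [37, 81, 15, 36, 108, 97, 35], [9, 74, 124, 106, 33, 121, 86], [26, 85, 62, 27, 103, 10, 76]],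
   [[103, 54, 55, 112, 7, 58, 8], [6, 116, 98, 64, 25, 13, 28], [103, 13, 123, 69, 41, 52, 14], [53, 119, 108, 91, 50, 126, 81]],
   [[75, 52, 114, 99, 91, 79, 58], [29, 88, 33, 59, 17, 50, 127], [75, 54, 78, 8, 29, 79, 53], [36, 102, 33, 8, 29, 88, 75]],
   [[63, 52, 102, 81, 76, 125, 80], [72, 70, 122, 13, 39, 95, 103], [63, 70, 47, 99, 98, 21, 123], [24, 67, 61, 77, 5, 47, 124]],
   [[50, 118, 46, 107, 90, 18, 109], [15, 22, 94, 109, 54, 33, 93], [50, 86, 104, 36, 13, 42, 16], [23, 47, 102, 97, 64, 110, 11]],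
   [[31, 26, 2, 95, 47, 8, 113], [88, 4, 91, 32, 38, 55, 9], [31, 12, 90, 40, 30, 83, 92], [17, 115, 55, 53, 97, 61, 35]],
   [[72, 24, 105, 125, 50, 73, 70], [33, 79, 119, 121, 123, 36, 120], [72, 67, 4, 69, 27, 124, 96], [122, 14, 4, 119, 19, 54, 118]],
   [[83, 75, 7, 80, 33, 116, 40], [53, 60, 13, 101, 102, 37, 110], [83, 78, 3, 56, 61, 11, 95], [125, 121, 101, 36, 63, 19, 58]],
   [[32, 103, 78, 122, 10, 117, 57], [115, 100, 75, 116, 70, 1, 95], [32, 28, 97, 68, 45, 109, 66], [53, 112, 56, 28, 38, 1, 48]],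
   [[11, 107, 122, 127, 50, 49, 65], [101, 85, 105, 49, 99, 38, 37], [11, 54, 73, 31, 115, 70, 59], [84, 102, 37, 51, 44, 109, 99]],
   [[81, 49, 24, 28, 32, 30, 27], [108, 40, 12, 122, 126, 16, 19], [81, 29, 6, 93, 1, 4, 97], [16, 36, 32, 41, 27, 90, 10]],
   [[45, 16, 69, 38, 119, 117, 100], [98, 48, 30, 91, 2, 38, 120], [45, 101, 116, 26, 15, 42, 114], [101, 90, 30, 49, 99, 75, 50]],
   [[10, 24, 41, 115, 70, 78, 44], [90, 49, 30, 48, 50, 110, 63], [10, 33, 39, 20, 69, 108, 3], [115, 51, 53, 50, 61, 113, 86]],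
   [[86, 107, 35, 70, 63, 39, 118], [86, 19, 36, 57, 9, 65, 63], [86, 115, 121, 80, 70, 110, 9], [60, 122, 115, 124, 17, 76, 25]],
   [[99, 94, 65, 18, 1, 55, 108], [16, 79, 114, 108, 71, 74, 20], [99, 17, 76, 44, 34, 38, 60], [74, 71, 48, 111, 72, 87, 91]],
   [[35, 65, 17, 29, 74, 90, 8], [52, 102, 76, 64, 48, 83, 54], [35, 13, 37, 90, 85, 54, 18], [100, 26, 31, 121, 90, 127, 49]],
   [[91, 21, 118, 105, 85, 86, 47], [117, 69, 31, 75, 104, 36, 18], [91, 8, 101, 19, 20, 87, 124], [117, 78, 35, 2, 51, 89, 11]],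
   [[81, 122, 115, 93, 3, 66, 57], [98, 114, 109, 100, 49, 119, 82], [81, 101, 111, 3, 77, 119, 5], [117, 125, 53, 123, 95, 105, 43]],
   [[57, 60, 38, 119, 46, 56, 69], [33, 124, 34, 20, 110, 90, 67], [57, 23, 56, 76, 11, 125, 122], [5, 60, 89, 41, 98, 79, 120]],
   [[106, 110, 78, 25, 73, 24, 9], [40, 63, 3, 104, 72, 6, 80], [106, 80, 118, 68, 125, 26, 104], [90, 65, 100, 15, 110, 35, 108]],
   [[93, 113, 36, 11, 42, 120, 53], [37, 42, 57, 7, 97, 61, 123], [93, 23, 110, 66, 106, 20, 75], [67, 97, 20, 11, 52, 19, 105]],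
   [[41, 84, 120, 8, 53, 88, 39], [45, 99, 42, 8, 51, 36, 27], [41, 9, 77, 45, 60, 8, 86], [34, 124, 9, 32, 58, 3, 15]],
   [[81, 2, 23, 12, 71, 49, 55], [21, 2, 98, 106, 113, 68, 101], [81, 94, 35, 14, 46, 122, 57], [11, 23, 58, 37, 118, 24, 124]],
   [[42, 32, 102, 68, 14, 20, 77], [69, 14, 19, 13, 51, 2, 27], [42, 125, 108, 38, 100, 85, 47], [92, 35, 29, 20, 90, 54, 59]],
   [[83, 84, 18, 37, 4, 10, 16], [87, 68, 16, 100, 64, 79, 82], [83, 4, 18, 95, 49, 125, 17], [60, 120, 2, 11, 124, 80, 57]],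
   [[122, 29, 127, 67, 39, 68, 72], [54, 45, 51, 83, 84, 56, 19], [122, 109, 47, 64, 25, 13, 8], [61, 14, 93, 64, 109, 42, 8]],
   [[56, 68, 51, 10, 70, 5, 80], [13, 18, 45, 26, 111, 116, 47], [56, 95, 20, 79, 100, 106, 6], [93, 78, 14, 112, 10, 123, 101]],
   [[9, 124, 23, 8, 41, 94, 81], [9, 51, 82, 8, 108, 17, 37], [9, 110, 4, 41, 75, 14, 114], [31, 58, 4, 30, 88, 9, 43]],
   [[86, 105, 81, 20, 85, 119, 39], [100, 117, 20, 95, 28, 69, 124], [86, 96, 26, 61, 23, 70, 8], [46, 101, 122, 64, 33, 61, 63]],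
   [[77, 96, 85, 71, 30, 5, 82], [81, 100, 113, 109, 104, 78, 76], [77, 94, 20, 31, 109, 27, 26], [96, 79, 40, 35, 44, 17, 106]],
   [[119, 76, 106, 66, 69, 97, 72], [108, 54, 66, 126, 85, 114, 62], [119, 102, 96, 78, 94, 8, 43], [27, 81, 87, 32, 24, 42, 46]],
   [[32, 81, 90, 48, 61, 68, 75], [77, 120, 102, 51, 9, 1, 70], [32, 49, 98, 76, 27, 71, 13], [59, 118, 30, 101, 56, 1, 115]],
   [[64, 116, 78, 111, 53, 101, 88], [19, 88, 45, 112, 49, 31, 1], [64, 48, 84, 24, 57, 114, 103], [101, 35, 122, 119, 127, 125, 1]],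
   [[44, 16, 57, 83, 120, 97, 1], [64, 30, 71, 114, 2, 52, 84], [44, 45, 19, 14, 124, 38, 113], [3, 91, 41, 122, 92, 82, 77]],
   [[45, 24, 122, 119, 43, 116, 63], [94, 118, 103, 53, 55, 13, 125], [45, 111, 104, 110, 95, 8, 16], [10, 117, 121, 32, 64, 82, 118]],
   [[93, 67, 111, 72, 110, 117, 28], [20, 67, 39, 93, 58, 124, 85], [93, 57, 105, 22, 50, 122, 43], [102, 95, 74, 43, 29, 82, 27]],
   [[125, 98, 27, 41, 88, 68, 112], [88, 107, 7, 30, 41, 78, 39], [125, 102, 54, 108, 9, 67, 49], [53, 47, 94, 37, 60, 73, 58]],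
   [[27, 55, 42, 74, 63, 50, 9], [82, 119, 112, 18, 54, 97, 109], [27, 63, 69, 13, 34, 84, 14], [62, 118, 101, 83, 26, 102, 95]],
   [[125, 74, 71, 78, 107, 25, 110], [90, 55, 10, 86, 44, 72, 99], [125, 67, 28, 48, 45, 26, 31], [28, 88, 124, 47, 87, 95, 70]],
   [[76, 52, 20, 81, 38, 56, 16], [107, 82, 68, 102, 64, 6, 35], [76, 5, 100, 59, 6, 4, 70], [34, 48, 32, 113, 31, 116, 80]],
   [[48, 88, 49, 14, 6, 65, 12], [5, 72, 88, 24, 63, 62, 37], [48, 97, 65, 104, 91, 52, 105], [72, 81, 33, 66, 7, 6, 76]],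
   [[90, 58, 126, 62, 19, 107, 5], [74, 62, 10, 87, 100, 15, 12], [90, 94, 21, 74, 83, 102, 101], [14, 110, 3, 31, 9, 52, 121]],
   [[126, 124, 49, 75, 90, 101, 22], [86, 3, 13, 58, 78, 28, 103], [126, 11, 115, 22, 1, 77, 39], [16, 105, 110, 123, 15, 87, 37]],
   [[94, 88, 19, 84, 11, 122, 2], [25, 64, 67, 73, 93, 98, 22], [94, 45, 17, 105, 78, 70, 22], [21, 42, 123, 48, 17, 92, 113]],
   [[44, 103, 20, 40, 10, 126, 57], [69, 122, 9, 106, 13, 98, 86], [44, 124, 97, 81, 102, 30, 38], [11, 45, 50, 108, 83, 95, 80]],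
   [[61, 58, 113, 16, 37, 48, 14], [90, 59, 98, 25, 8, 40, 126], [61, 29, 113, 24, 14, 78, 68], [122, 37, 112, 69, 77, 3, 48]],
   [[10, 54, 32, 106, 68, 127, 125], [78, 96, 29, 97, 123, 4, 13], [10, 61, 126, 106, 65, 19, 26], [119, 22, 77, 23, 65, 110, 103]],
   [[9, 22, 110, 119, 47, 1, 42], [32, 127, 112, 33, 13, 30, 52], [9, 29, 26, 10, 67, 43, 62], [99, 106, 15, 98, 12, 75, 25]],
   [[121, 99, 85, 19, 40, 15, 86], [122, 62, 21, 113, 76, 97, 39], [121, 69, 30, 29, 31, 10, 18], [20, 24, 124, 56, 88, 31, 106]],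
   [[59, 74, 104, 62, 114, 51, 22], [124, 111, 117, 33, 90, 105, 76], [59, 24, 110, 111, 109, 70, 15], [12, 24, 103, 51, 49, 23, 95]],
   [[5, 60, 63, 117, 27, 49, 53], [97, 103, 96, 35, 53, 116, 72], [5, 112, 32, 110, 31, 121, 91], [26, 100, 27, 56, 77, 4, 75]],
   [[123, 119, 109, 31, 68, 105, 107], [42, 96, 36, 39, 65, 25, 52], [123, 93, 62, 21, 96, 11, 12], [79, 89, 118, 54, 49, 44, 60]],
   [[52, 72, 125, 38, 3, 96, 20], [7, 23, 94, 99, 30, 65, 97], [52, 115, 121, 63, 84, 9, 75], [15, 41, 108, 47, 53, 88, 73]],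
   [[28, 9, 47, 39, 112, 97, 107], [14, 108, 51, 12, 62, 89, 119], [28, 11, 84, 48, 40, 79, 74], [121, 69, 25, 62, 38, 46, 59]],
   [[93, 123, 110, 112, 9, 124, 111], [68, 26, 124, 84, 62, 101, 83], [93, 3, 67, 26, 39, 11, 106], [121, 123, 13, 34, 81, 31, 6]],
   [[85, 69, 49, 120, 21, 84, 87], [33, 65, 50, 60, 3, 38, 17], [85, 98, 78, 104, 8, 116, 12], [103, 26, 80, 16, 104, 70, 94]],
   [[59, 104, 121, 43, 51, 79, 44], [15, 124, 59, 17, 9, 106, 121], [59, 103, 15, 30, 19, 76, 70], [47, 28, 75, 124, 35, 109, 23]],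
   [[29, 100, 36, 122, 124, 76, 4], [83, 88, 64, 102, 116, 68, 6], [29, 69, 49, 20, 32, 57, 15], [45, 120, 49, 36, 57, 16, 30]],
   [[100, 3, 71, 55, 58, 10, 50], [114, 112, 58, 80, 55, 7, 60], [100, 47, 57, 82, 36, 104, 52], [101, 73, 31, 62, 80, 15, 17]],
   [[79, 43, 31, 54, 10, 117, 99], [122, 14, 55, 30, 89, 104, 92], [79, 41, 2, 57, 34, 20, 103], [67, 4, 42, 85, 10, 20, 57]],
   [[55, 11, 43, 73, 52, 2, 27], [49, 32, 84, 19, 66, 6, 42], [55, 112, 81, 51, 100, 82, 57], [49, 21, 9, 93, 27, 55, 46]],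
   [[53, 35, 114, 15, 120, 124, 7], [44, 92, 48, 72, 111, 114, 69], [53, 41, 103, 95, 43, 99, 87], [97, 18, 36, 72, 111, 43, 120]],
   [[17, 55, 119, 1, 61, 24, 56], [8, 59, 88, 41, 9, 96, 6], [17, 97, 80, 96, 44, 116, 34], [10, 71, 35, 52, 11, 7, 15]],
   [[82, 37, 30, 9, 28, 112, 42], [105, 20, 94, 97, 47, 53, 58], [82, 25, 96, 80, 21, 28, 116], [84, 9, 118, 100, 50, 62, 58]],
   [[26, 23, 58, 59, 60, 34, 91], [12, 37, 49, 62, 26, 5, 77], [26, 87, 55, 127, 43, 51, 10], [43, 49, 36, 113, 65, 123, 125]],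
   [[67, 65, 118, 72, 87, 97, 44], [54, 3, 94, 60, 79, 34, 52], [67, 31, 74, 46, 104, 71, 24], [56, 91, 33, 61, 125, 79, 98]],
   [[108, 58, 76, 4, 48, 21, 18], [61, 85, 8, 71, 21, 5, 75], [108, 10, 125, 40, 60, 71, 124], [68, 109, 89, 111, 65, 103, 80]],
   [[22, 72, 44, 39, 30, 17, 92], [94, 67, 60, 17, 126, 41, 19], [22, 94, 119, 10, 112, 43, 11], [72, 38, 122, 46, 93, 96, 45]],
   [[41, 72, 96, 48, 22, 117, 59], [7, 51, 81, 124, 114, 122, 126], [41, 84, 107, 51, 79, 83, 76], [27, 75, 114, 124, 62, 102, 78]],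
   [[120, 38, 49, 15, 56, 66, 5], [109, 49, 45, 121, 119, 30, 17], [120, 91, 27, 53, 14, 18, 29], [112, 111, 43, 84, 79, 28, 6]],
   [[50, 8, 113, 73, 60, 102, 118], [87, 15, 28, 2, 96, 110, 93], [50, 25, 8, 16, 103, 79, 82], [14, 61, 98, 4, 8, 52, 117]],
   [[80, 108, 23, 52, 106, 44, 76], [53, 123, 105, 11, 35, 66, 34], [80, 86, 33, 116, 28, 29, 50], [48, 62, 61, 103, 74, 52, 75]],
   [[60, 37, 29, 90, 125, 101, 81], [51, 26, 7, 97, 81, 54, 34], [60, 72, 63, 46, 27, 34, 109], [86, 83, 103, 79, 90, 115, 77]],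
   [[118, 6, 107, 97, 46, 68, 77], [52, 88, 90, 84, 63, 70, 122], [118, 60, 20, 47, 41, 28, 57], [22, 76, 84, 36, 80, 34, 107]],
   [[60, 73, 32, 98, 42, 52, 16], [26, 53, 100, 33, 64, 4, 57], [60, 123, 105, 49, 42, 34, 50], [46, 102, 23, 48, 96, 70, 92]],
   [[1, 74, 41, 13, 15, 10, 54], [1, 24, 49, 56, 84, 61, 34], [1, 5, 7, 64, 79, 120, 21], [1, 6, 3, 28, 66, 118, 8]],
   [[64, 11, 81, 100, 34, 79, 82], [126, 58, 35, 70, 123, 42, 1], [64, 25, 35, 109, 3, 102, 9], [120, 104, 93, 56, 66, 20, 1]],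
   [[123, 37, 97, 108, 122, 111, 31], [17, 57, 84, 73, 117, 71, 82], [123, 100, 52, 39, 35, 16, 118], [78, 98, 24, 23, 32, 60, 38]],
   [[7, 57, 27, 105, 3, 55, 59], [82, 66, 17, 113, 101, 68, 111], [7, 32, 78, 48, 26, 12, 9], [59, 97, 91, 123, 10, 2, 69]],
   [[40, 24, 9, 3, 80, 82, 101], [56, 48, 107, 60, 62, 61, 46], [40, 82, 106, 119, 6, 34, 121], [58, 121, 105, 88, 7, 89, 124]],
   [[105, 121, 82, 73, 126, 22, 25], [49, 76, 111, 114, 3, 9, 75], [105, 41, 16, 7, 78, 19, 53], [113, 85, 44, 106, 4, 25, 3]],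
   [[109, 96, 101, 44, 53, 39, 125], [92, 113, 90, 5, 65, 87, 85], [109, 9, 90, 76, 121, 26, 105], [111, 29, 65, 109, 80, 102, 36]],
   [[77, 86, 31, 44, 90, 21, 64], [83, 49, 7, 21, 116, 26, 64], [77, 74, 67, 56, 30, 34, 100], [92, 103, 56, 90, 21, 71, 63]],
   [[60, 56, 80, 100, 49, 86, 124], [31, 39, 3, 13, 69, 74, 65], [60, 38, 19, 87, 65, 11, 10], [96, 39, 124, 103, 67, 89, 112]],
   [[9, 85, 78, 95, 56, 123, 52], [100, 111, 53, 101, 104, 29, 59], [9, 71, 19, 111, 91, 104, 107], [63, 95, 72, 62, 100, 52, 42]],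
   [[67, 6, 24, 109, 126, 43, 73], [93, 118, 116, 55, 51, 60, 42], [67, 64, 88, 112, 101, 73, 76], [92, 95, 60, 126, 120, 114, 2]],
   [[103, 71, 24, 118, 96, 6, 91], [49, 102, 70, 60, 56, 3, 19], [103, 16, 95, 61, 37, 55, 9], [90, 50, 87, 26, 2, 29, 35]],
   [[19, 122, 76, 104, 90, 7, 96], [11, 53, 30, 72, 63, 18, 82], [19, 40, 74, 91, 82, 118, 8], [88, 13, 114, 64, 84, 66, 73]],
   [[18, 17, 13, 45, 38, 108, 107], [124, 127, 99, 27, 126, 12, 84], [18, 99, 90, 97, 11, 64, 28], [63, 10, 110, 37, 11, 23, 32]],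
   [[15, 90, 98, 113, 48, 112, 69], [40, 103, 88, 22, 67, 83, 48], [15, 22, 54, 6, 59, 84, 19], [95, 21, 29, 86, 10, 6, 55]],
   [[15, 99, 59, 105, 120, 45, 69], [104, 55, 99, 61, 112, 22, 75], [15, 39, 126, 24, 50, 14, 35], [33, 27, 66, 121, 113, 122, 47]],
   [[111, 84, 32, 50, 63, 114, 49], [125, 53, 19, 118, 57, 4, 40], [111, 102, 27, 52, 45, 31, 85], [114, 28, 36, 113, 27, 55, 13]],
   [[13, 75, 4, 26, 63, 87, 119], [124, 46, 4, 121, 95, 96, 41], [13, 26, 117, 91, 14, 115, 107], [115, 98, 70, 52, 84, 28, 121]],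
   [[30, 3, 92, 90, 10, 118, 81], [88, 90, 86, 74, 71, 52, 95], [30, 59, 81, 100, 107, 104, 112], [22, 38, 71, 111, 15, 82, 29]],
   [[26, 40, 63, 95, 3, 125, 111], [91, 75, 61, 97, 43, 99, 111], [26, 64, 95, 94, 37, 98, 80], [12, 53, 11, 118, 66, 23, 2]],
   [[21, 73, 25, 94, 101, 49, 54], [93, 11, 54, 51, 106, 23, 108], [21, 15, 11, 51, 36, 86, 61], [74, 25, 6, 87, 77, 22, 114]],
   [[110, 109, 95, 70, 91, 63, 67], [92, 95, 20, 110, 62, 103, 67], [110, 49, 16, 60, 72, 2, 119], [120, 32, 79, 61, 4, 126, 45]],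
   [[75, 17, 63, 61, 16, 58, 27], [18, 12, 54, 78, 16, 114, 81], [75, 99, 105, 24, 30, 2, 92], [119, 32, 56, 38, 46, 37, 112]],
   [[111, 9, 59, 55, 51, 18, 39], [22, 104, 24, 20, 72, 38, 85], [111, 102, 65, 107, 54, 100, 118], [84, 34, 9, 87, 66, 121, 80]],
   [[20, 123, 53, 76, 42, 89, 50], [41, 14, 99, 50, 98, 44, 89], [20, 88, 8, 108, 12, 13, 51], [48, 110, 20, 4, 21, 11, 19]],
   [[10, 38, 15, 32, 68, 4, 125], [37, 42, 32, 43, 86, 8, 48], [10, 83, 103, 74, 59, 88, 95], [35, 119, 52, 118, 95, 109, 9]],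
   [[53, 90, 10, 83, 49, 74, 76], [127, 113, 17, 117, 34, 77, 36], [53, 122, 57, 19, 54, 84, 29], [92, 77, 46, 43, 25, 106, 23]],
   [[48, 29, 41, 31, 26, 12, 124], [31, 10, 7, 39, 61, 60, 97], [48, 110, 104, 123, 121, 84, 42], [118, 24, 30, 59, 98, 99, 92]],
   [[18, 64, 8, 27, 86, 10, 112], [13, 36, 19, 4, 37, 103, 2], [18, 39, 13, 90, 107, 91, 54], [40, 107, 27, 55, 106, 90, 62]],
   [[125, 52, 17, 42, 67, 103, 9], [54, 101, 43, 118, 50, 27, 67], [125, 91, 2, 111, 53, 76, 46], [26, 4, 49, 67, 13, 54, 82]],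
   [[46, 89, 71, 38, 44, 115, 51], [86, 17, 35, 9, 61, 58, 96], [46, 61, 17, 1, 42, 72, 33], [8, 7, 17, 95, 12, 72, 127]],
   [[35, 83, 84, 75, 17, 71, 6], [70, 52, 116, 92, 86, 115, 38], [35, 41, 123, 18, 112, 118, 97], [23, 79, 127, 76, 71, 89, 14]],
   [[77, 114, 95, 16, 69, 73, 17], [72, 13, 33, 17, 8, 126, 121], [77, 39, 14, 29, 23, 49, 26], [50, 102, 28, 126, 88, 74, 81]],
   [[83, 64, 126, 56, 91, 11, 87], [126, 79, 65, 17, 50, 43, 2], [83, 38, 26, 63, 45, 48, 76], [127, 113, 58, 28, 105, 73, 102]],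
   [[87, 78, 32, 59, 41, 114, 13], [113, 15, 84, 101, 23, 4, 60], [87, 104, 84, 66, 4, 43, 96], [42, 47, 16, 66, 51, 103, 39]],
   [[110, 95, 42, 82, 28, 61, 35], [41, 112, 78, 109, 51, 25, 75], [110, 42, 112, 105, 46, 24, 21], [44, 55, 18, 94, 126, 107, 17]],
   [[81, 118, 103, 38, 46, 123, 109], [11, 92, 49, 24, 13, 101, 7], [81, 12, 59, 103, 45, 97, 24], [15, 86, 126, 124, 60, 29, 50]],
   [[81, 102, 33, 60, 86, 115, 114], [96, 69, 52, 46, 118, 100, 23], [81, 22, 92, 12, 24, 119, 90], [13, 26, 94, 86, 70, 101, 74]],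
   [[50, 64, 36, 75, 127, 103, 73], [110, 72, 81, 44, 28, 85, 2], [50, 114, 73, 117, 105, 81, 25], [100, 82, 60, 99, 71, 20, 3]],
   [[90, 31, 119, 79, 9, 124, 73], [47, 52, 124, 63, 90, 105, 80], [90, 14, 89, 116, 107, 108, 67], [105, 108, 53, 91, 115, 11, 69]],
   [[81, 85, 104, 29, 94, 109, 93], [39, 119, 3, 66, 110, 14, 72], [81, 22, 17, 38, 72, 42, 103], [77, 118, 61, 21, 73, 67, 5]],
   [[17, 125, 82, 116, 43, 42, 37], [48, 124, 22, 58, 49, 102, 73], [17, 12, 91, 115, 9, 18, 14], [99, 66, 113, 115, 98, 127, 52]],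
   [[116, 111, 55, 68, 87, 37, 60], [60, 99, 82, 27, 71, 78, 90], [116, 114, 14, 95, 38, 125, 98], [38, 59, 56, 7, 66, 19, 104]],
   [[4, 16, 65, 118, 48, 37, 126], [51, 46, 1, 72, 2, 18, 55], [4, 99, 69, 105, 20, 7, 111], [104, 73, 1, 67, 17, 78, 109]],
   [[50, 47, 31, 73, 106, 9, 13], [90, 7, 96, 122, 67, 69, 40], [50, 100, 123, 11, 15, 58, 51], [65, 104, 24, 33, 22, 127, 101]],
   [[17, 116, 59, 29, 58, 107, 34], [20, 42, 76, 69, 21, 106, 49], [17, 115, 79, 29, 107, 121, 62], [119, 70, 109, 100, 118, 121, 60]],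
   [[115, 62, 42, 27, 123, 4, 40], [123, 68, 32, 17, 38, 81, 73], [115, 60, 12, 108, 22, 44, 1], [64, 111, 93, 89, 34, 36, 40]],
   [[73, 103, 3, 34, 87, 106, 95], [41, 45, 91, 80, 55, 37, 120], [73, 91, 53, 95, 125, 70, 30], [21, 119, 10, 73, 116, 111, 93]],
   [[31, 118, 80, 81, 21, 110, 103], [12, 125, 82, 108, 78, 41, 74], [31, 94, 114, 9, 16, 4, 66], [122, 57, 32, 114, 16, 84, 121]],
   [[85, 99, 49, 6, 86, 127, 91], [15, 30, 22, 73, 125, 118, 101], [85, 47, 62, 76, 27, 82, 23], [103, 25, 95, 15, 97, 44, 88]],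
   [[56, 16, 125, 91, 73, 77, 126], [94, 26, 48, 37, 2, 38, 107], [56, 60, 7, 113, 127, 85, 83], [100, 99, 3, 120, 82, 43, 21]],
   [[36, 73, 10, 62, 57, 90, 113], [82, 125, 55, 121, 13, 54, 41], [36, 44, 59, 21, 124, 76, 86], [57, 14, 92, 3, 109, 93, 127]],
   [[24, 44, 110, 5, 36, 43, 58], [115, 42, 123, 18, 19, 107, 44], [24, 48, 34, 9, 38, 76, 53], [86, 89, 20, 94, 95, 93, 106]],
   [[16, 127, 84, 24, 44, 79, 45], [80, 124, 58, 9, 1, 35, 63], [16, 31, 113, 58, 36, 20, 76], [26, 119, 33, 79, 1, 49, 46]],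
   [[101, 15, 8, 9, 75, 124, 51], [12, 122, 112, 4, 41, 31, 98], [101, 5, 27, 32, 78, 57, 84], [84, 44, 86, 97, 29, 8, 11]],
   [[81, 108, 9, 82, 77, 30, 104], [56, 49, 66, 60, 111, 42, 86], [81, 23, 49, 125, 79, 32, 75], [106, 118, 80, 121, 78, 32, 37]],
   [[25, 78, 7, 62, 123, 22, 10], [90, 101, 59, 37, 126, 13, 121], [25, 65, 84, 15, 30, 81, 49], [58, 53, 30, 25, 34, 88, 56]],
   [[103, 59, 81, 25, 48, 107, 125], [38, 111, 122, 91, 117, 101, 87], [103, 66, 124, 116, 125, 119, 32], [20, 60, 87, 12, 33, 64, 62]],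
   [[67, 1, 75, 98, 27, 111, 53], [2, 113, 47, 5, 102, 11, 114], [67, 38, 121, 124, 34, 113, 6], [30, 82, 18, 36, 49, 66, 77]],
   [[78, 106, 22, 47, 104, 12, 51], [71, 18, 126, 94, 104, 125, 51], [78, 60, 28, 95, 98, 100, 87], [26, 111, 95, 72, 19, 6, 121]],
   [[117, 7, 39, 100, 103, 41, 58], [113, 105, 26, 87, 120, 6, 20], [117, 70, 37, 122, 3, 109, 30], [47, 63, 94, 71, 102, 117, 99]],
   [[28, 45, 30, 6, 69, 58, 20], [103, 5, 13, 65, 77, 41, 122], [28, 22, 65, 95, 14, 45, 74], [71, 13, 19, 14, 28, 122, 67]],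
   [[81, 53, 23, 45, 99, 30, 90], [57, 101, 79, 29, 23, 99, 47], [81, 3, 46, 71, 114, 69, 41], [42, 40, 70, 121, 103, 19, 76]],
   [[64, 6, 86, 92, 50, 47, 94], [57, 72, 74, 68, 7, 95, 1], [64, 104, 46, 50, 63, 93, 72], [45, 115, 116, 65, 57, 66, 1]],
   [[31, 10, 4, 112, 93, 65, 78], [102, 87, 4, 85, 97, 47, 70], [31, 81, 91, 46, 38, 35, 39], [80, 30, 96, 24, 55, 110, 101]],
   [[6, 66, 94, 92, 81, 122, 104], [114, 12, 13, 103, 108, 41, 14], [6, 74, 23, 60, 50, 48, 40], [124, 48, 49, 25, 121, 89, 43]],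
   [[93, 6, 5, 101, 77, 124, 51], [118, 112, 114, 79, 17, 87, 91], [93, 10, 127, 98, 8, 75, 46], [47, 18, 85, 16, 102, 23, 13]],
   [[36, 2, 19, 8, 11, 127, 56], [26, 2, 85, 8, 28, 84, 45], [36, 1, 19, 17, 92, 99, 32], [2, 12, 65, 53, 10, 64, 110]],
   [[12, 98, 5, 44, 90, 119, 120], [56, 89, 60, 61, 38, 9, 82], [12, 28, 114, 41, 111, 58, 26], [22, 61, 127, 126, 3, 96, 90]],
   [[111, 2, 70, 89, 57, 88, 65], [40, 2, 110, 93, 21, 112, 104], [111, 103, 100, 42, 28, 118, 2], [70, 64, 119, 3, 100, 75, 56]],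
   [[125, 87, 53, 76, 5, 117, 79], [29, 85, 13, 33, 99, 119, 36], [125, 49, 121, 41, 64, 13, 91], [51, 105, 5, 22, 28, 45, 16]],
   [[62, 112, 108, 3, 106, 38, 64], [59, 51, 39, 87, 118, 52, 64], [62, 32, 42, 86, 23, 83, 126], [89, 76, 113, 74, 116, 2, 65]],
   [[63, 106, 87, 127, 121, 116, 126], [72, 7, 31, 103, 93, 107, 9], [63, 115, 31, 38, 19, 68, 65], [87, 58, 55, 35, 125, 5, 23]],
   [[33, 106, 117, 105, 43, 58, 125], [95, 85, 39, 68, 111, 94, 77], [33, 96, 11, 99, 18, 77, 5], [109, 103, 45, 14, 119, 108, 110]],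
   [[89, 73, 33, 60, 48, 58, 96], [23, 118, 94, 70, 3, 19, 83], [89, 84, 108, 62, 114, 46, 42], [81, 110, 96, 50, 40, 28, 74]],
   [[91, 26, 124, 105, 2, 12, 93], [62, 16, 81, 113, 99, 122, 61], [91, 27, 18, 122, 116, 67, 66], [96, 67, 61, 102, 71, 105, 3]],
   [[24, 4, 3, 43, 127, 78, 9], [61, 57, 2, 125, 124, 113, 102], [24, 51, 72, 36, 85, 53, 64], [109, 90, 120, 68, 69, 112, 64]],
   [[114, 65, 8, 6, 86, 24, 20], [62, 108, 100, 4, 36, 117, 60], [114, 62, 116, 100, 97, 8, 72], [91, 70, 67, 32, 12, 43, 96]],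
   [[1, 57, 36, 52, 82, 54, 23], [1, 40, 101, 110, 12, 97, 52], [1, 47, 19, 27, 23, 118, 90], [1, 99, 20, 12, 102, 120, 73]],
   [[78, 90, 82, 55, 83, 14, 22], [20, 67, 101, 6, 102, 92, 33], [78, 1, 85, 44, 7, 22, 51], [2, 95, 77, 106, 50, 47, 121]],
   [[77, 4, 11, 45, 29, 67, 75], [39, 67, 2, 96, 85, 77, 68], [77, 72, 12, 33, 34, 112, 125], [100, 124, 103, 99, 45, 108, 97]],
   [[34, 9, 21, 15, 89, 32, 85], [121, 33, 43, 123, 86, 32, 68], [34, 65, 123, 121, 27, 125, 117], [27, 12, 40, 96, 103, 13, 25]],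
   [[103, 66, 64, 87, 57, 120, 125], [52, 6, 84, 45, 106, 99, 4], [103, 24, 101, 11, 102, 15, 44], [17, 5, 40, 28, 30, 116, 73]],
   [[57, 111, 28, 53, 91, 45, 26], [26, 104, 44, 37, 13, 51, 74], [57, 75, 23, 106, 17, 32, 20], [42, 110, 122, 49, 58, 32, 119]],
   [[61, 96, 24, 99, 95, 20, 35], [25, 19, 86, 114, 118, 74, 72], [61, 92, 84, 100, 124, 70, 125], [80, 58, 91, 6, 30, 18, 65]],
   [[81, 82, 95, 76, 87, 102, 80], [65, 66, 83, 20, 15, 126, 79], [81, 126, 48, 99, 38, 14, 94], [97, 13, 95, 114, 70, 66, 38]],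
   [[3, 70, 33, 40, 49, 1, 20], [32, 33, 84, 44, 20, 36, 119], [3, 75, 36, 80, 94, 112, 52], [122, 123, 44, 79, 68, 40, 76]],
   [[122, 123, 48, 104, 17, 118, 5], [3, 26, 67, 98, 19, 23, 125], [122, 78, 4, 36, 31, 26, 50], [52, 71, 4, 108, 11, 12, 45]],
   [[45, 122, 47, 124, 111, 106, 29], [63, 5, 15, 82, 34, 99, 20], [45, 98, 103, 33, 16, 77, 46], [98, 35, 100, 109, 16, 106, 75]],
   [[51, 89, 26, 43, 110, 11, 83], [98, 13, 19, 79, 70, 40, 105], [51, 119, 36, 98, 121, 28, 10], [101, 15, 82, 79, 61, 86, 81]],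
   [[9, 115, 2, 34, 50, 116, 119], [100, 4, 66, 101, 24, 12, 118], [9, 93, 37, 39, 20, 62, 96], [110, 12, 57, 111, 41, 83, 19]],
   [[111, 33, 84, 106, 38, 97, 68], [107, 27, 98, 88, 68, 105, 34], [111, 88, 51, 19, 38, 60, 125], [73, 27, 7, 113, 90, 12, 41]],
   [[5, 106, 52, 32, 88, 10, 21], [76, 91, 77, 123, 65, 8, 42], [5, 21, 78, 31, 53, 52, 99], [48, 93, 49, 87, 3, 18, 63]],
   [[98, 104, 22, 120, 99, 81, 79], [17, 103, 105, 100, 10, 93, 59], [98, 55, 100, 59, 71, 7, 91], [37, 73, 76, 70, 90, 120, 48]],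
   [[122, 69, 59, 102, 87, 121, 105], [83, 114, 7, 110, 96, 43, 86], [122, 84, 88, 1, 124, 43, 23], [8, 58, 43, 45, 89, 63, 112]],
   [[84, 63, 25, 67, 121, 74, 20], [118, 63, 108, 94, 44, 85, 65], [84, 13, 26, 54, 105, 30, 64], [120, 63, 36, 94, 101, 118, 64]],
   [[71, 119, 88, 80, 25, 20, 64], [84, 125, 104, 12, 72, 75, 64], [71, 84, 57, 52, 127, 98, 119], [21, 42, 73, 80, 60, 125, 119]],
   [[83, 41, 35, 37, 57, 39, 68], [95, 40, 36, 46, 18, 115, 100], [83, 89, 60, 23, 16, 119, 61], [68, 54, 106, 53, 16, 75, 99]],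
   [[82, 106, 108, 38, 87, 10, 43], [110, 121, 127, 89, 84, 14, 44], [82, 29, 101, 88, 100, 59, 93], [20, 112, 92, 121, 51, 14, 66]],
   [[48, 14, 70, 34, 98, 71, 69], [36, 96, 124, 30, 105, 104, 24], [48, 98, 69, 60, 106, 22, 62], [39, 72, 27, 18, 115, 114, 56]],
   [[111, 103, 26, 95, 114, 116, 120], [37, 83, 99, 3, 84, 93, 74], [111, 71, 64, 59, 3, 6, 12], [38, 54, 22, 86, 27, 85, 4]],
   [[19, 38, 97, 22, 108, 57, 120], [55, 88, 62, 29, 110, 100, 87], [19, 97, 65, 69, 28, 61, 105], [54, 105, 12, 66, 94, 6, 50]],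
   [[47, 68, 111, 114, 84, 92, 31], [41, 76, 7, 48, 18, 83, 5], [47, 115, 85, 113, 12, 112, 96], [40, 10, 63, 47, 96, 51, 115]],
   [[29, 12, 67, 62, 83, 25, 126], [23, 91, 33, 35, 20, 69, 72], [29, 124, 73, 79, 12, 59, 98], [117, 54, 58, 42, 100, 45, 91]],
   [[67, 95, 6, 127, 40, 36, 45], [122, 46, 42, 26, 51, 10, 85], [67, 9, 56, 98, 105, 103, 62], [118, 26, 94, 116, 15, 127, 109]],
   [[21, 48, 59, 65, 112, 22, 126], [26, 59, 76, 39, 87, 85, 18], [21, 20, 35, 127, 62, 71, 40], [3, 82, 106, 21, 104, 85, 27]],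
   [[103, 11, 71, 44, 58, 52, 30], [103, 61, 85, 88, 112, 5, 11], [103, 27, 88, 53, 23, 13, 19], [50, 79, 80, 66, 61, 87, 123]],
   [[125, 19, 54, 1, 68, 65, 98], [8, 94, 56, 123, 84, 54, 40], [125, 76, 106, 119, 117, 42, 39], [70, 24, 55, 17, 108, 41, 36]],
   [[108, 6, 23, 73, 115, 85, 90], [119, 78, 76, 21, 113, 50, 106], [108, 87, 57, 126, 95, 76, 67], [57, 7, 76, 18, 14, 33, 126]],
   [[118, 115, 37, 31, 8, 81, 90], [85, 37, 86, 16, 62, 7, 75], [118, 60, 46, 15, 36, 30, 80], [127, 81, 99, 69, 87, 115, 23]],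
   [[70, 62, 101, 28, 2, 11, 118], [15, 16, 108, 63, 91, 26, 125], [70, 115, 28, 98, 29, 96, 24], [20, 40, 68, 94, 30, 77, 109]],
   [[9, 120, 87, 24, 52, 22, 25], [72, 86, 55, 73, 65, 102, 108], [9, 3, 110, 6, 4, 30, 42], [26, 24, 16, 27, 51, 67, 84]],
   [[12, 89, 44, 118, 108, 100, 37], [116, 122, 49, 48, 82, 5, 20], [12, 101, 65, 91, 72, 20, 39], [107, 45, 126, 127, 94, 120, 111]],
   [[8, 69, 94, 58, 74, 42, 63], [116, 91, 60, 1, 40, 122, 74], [8, 23, 103, 27, 53, 118, 62], [124, 45, 11, 1, 88, 63, 97]],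
   [[57, 95, 6, 16, 78, 50, 105], [26, 102, 98, 93, 8, 78, 73], [57, 14, 18, 15, 35, 119, 111], [10, 113, 102, 21, 117, 107, 35]],
   [[109, 22, 1, 20, 89, 51, 112], [4, 10, 63, 77, 55, 25, 110], [109, 51, 107, 27, 75, 123, 81], [88, 106, 111, 30, 36, 20, 60]],
   [[63, 15, 46, 73, 37, 53, 75], [53, 72, 22, 105, 48, 51, 84], [63, 37, 86, 113, 117, 38, 19], [44, 14, 24, 111, 98, 54, 112]],
   [[10, 38, 75, 84, 56, 73, 125], [30, 36, 85, 37, 70, 115, 27], [10, 36, 83, 76, 27, 88, 65], [37, 112, 28, 113, 52, 30, 101]],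
   [[25, 95, 47, 59, 16, 108, 48], [59, 89, 28, 42, 16, 80, 70], [25, 66, 85, 111, 93, 127, 125], [61, 96, 115, 20, 40, 80, 98]],
   [[36, 105, 102, 14, 64, 88, 18], [14, 21, 120, 101, 85, 121, 16], [36, 109, 54, 4, 45, 53, 101], [83, 119, 8, 66, 114, 9, 18]],
   [[76, 13, 68, 105, 81, 22, 109], [79, 123, 72, 5, 19, 14, 76], [76, 41, 4, 100, 66, 79, 92], [11, 42, 4, 63, 65, 54, 58]],
   [[109, 74, 115, 58, 6, 10, 38], [67, 77, 93, 109, 120, 80, 34], [109, 16, 44, 15, 112, 52, 45], [68, 27, 113, 38, 2, 83, 65]],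
   [[103, 23, 113, 13, 108, 75, 63], [7, 122, 99, 108, 28, 46, 49], [103, 96, 41, 31, 84, 28, 19], [54, 30, 43, 99, 104, 81, 83]],
   [[94, 56, 124, 33, 119, 66, 22], [117, 120, 94, 25, 102, 125, 88], [94, 13, 101, 117, 76, 95, 45], [33, 29, 84, 119, 12, 66, 51]],
   [[30, 12, 55, 27, 31, 34, 109], [17, 46, 24, 26, 45, 14, 93], [30, 97, 20, 57, 31, 18, 14], [17, 97, 69, 100, 65, 60, 47]],
   [[15, 71, 126, 20, 123, 85, 110], [88, 102, 76, 115, 68, 105, 112], [15, 99, 111, 121, 83, 24, 88], [45, 42, 81, 87, 119, 101, 96]],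
   [[66, 82, 58, 31, 17, 127, 33], [19, 122, 76, 46, 3, 83, 123], [66, 108, 78, 103, 93, 68, 56], [46, 88, 121, 124, 98, 94, 89]],
   [[18, 2, 64, 72, 9, 127, 15], [28, 2, 82, 12, 3, 103, 4], [18, 60, 32, 72, 91, 39, 30], [25, 70, 123, 58, 71, 4, 50]],
   [[5, 45, 63, 113, 15, 88, 84], [43, 91, 42, 74, 93, 73, 55], [5, 34, 53, 9, 78, 98, 54], [127, 59, 126, 119, 60, 57, 34]],
   [[78, 56, 14, 44, 94, 105, 52], [54, 70, 27, 89, 17, 74, 5], [78, 2, 60, 26, 93, 70, 100], [56, 2, 108, 33, 43, 98, 78]],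
   [[21, 96, 30, 102, 49, 124, 16], [109, 38, 44, 78, 64, 61, 63], [21, 106, 113, 52, 123, 126, 82], [35, 77, 19, 89, 49, 42, 60]],
   [[21, 64, 5, 120, 37, 31, 121], [72, 58, 76, 27, 5, 20, 2], [21, 29, 37, 127, 80, 62, 1], [64, 31, 57, 3, 120, 125, 104]],
   [[33, 35, 64, 10, 118, 83, 94], [90, 3, 49, 11, 125, 91, 4], [33, 105, 61, 86, 69, 6, 5], [110, 14, 46, 83, 120, 111, 80]],
   [[49, 42, 113, 105, 40, 28, 18], [29, 18, 44, 94, 82, 78, 5], [49, 1, 109, 117, 3, 21, 113], [2, 18, 72, 102, 106, 105, 65]],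
   [[104, 67, 12, 70, 1, 20, 92], [16, 108, 26, 30, 58, 97, 126], [104, 41, 61, 64, 50, 5, 25], [11, 82, 43, 102, 45, 111, 8]],
   [[55, 98, 96, 108, 117, 19, 111], [78, 6, 50, 62, 104, 19, 23], [55, 85, 100, 4, 41, 78, 90], [59, 15, 8, 126, 104, 85, 89]],
   [[36, 37, 102, 127, 32, 26, 111], [3, 47, 17, 71, 72, 16, 42], [36, 15, 27, 108, 5, 85, 52], [87, 106, 71, 120, 65, 70, 113]],
   [[20, 4, 71, 18, 107, 73, 3], [75, 11, 2, 45, 3, 59, 70], [20, 65, 97, 125, 127, 56, 96], [68, 24, 42, 13, 43, 6, 70]],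
   [[4, 95, 93, 107, 38, 59, 17], [92, 6, 1, 113, 28, 23, 52], [4, 96, 43, 94, 78, 35, 23], [23, 78, 1, 36, 24, 121, 123]],
   [[50, 3, 12, 52, 112, 45, 54], [74, 72, 65, 69, 39, 110, 89], [50, 18, 102, 76, 27, 54, 19], [66, 95, 33, 80, 93, 3, 121]],
   [[64, 47, 54, 24, 62, 36, 93], [14, 56, 71, 20, 28, 103, 1], [64, 28, 70, 78, 7, 94, 127], [21, 35, 38, 12, 40, 117, 1]],
   [[16, 119, 49, 121, 38, 80, 98], [50, 86, 113, 45, 1, 55, 33], [16, 58, 24, 77, 9, 106, 11], [21, 80, 59, 5, 1, 86, 35]],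
   [[64, 90, 55, 68, 117, 67, 78], [52, 21, 9, 93, 75, 103, 1], [64, 25, 27, 52, 44, 94, 22], [26, 6, 63, 97, 121, 78, 1]],
   [[27, 2, 40, 94, 75, 108, 4], [45, 2, 64, 91, 117, 95, 100], [27, 35, 114, 1, 40, 49, 126], [8, 49, 111, 43, 19, 59, 29]],
   [[88, 95, 24, 40, 59, 109, 56], [126, 46, 83, 76, 72, 68, 5], [88, 6, 20, 59, 5, 117, 106], [63, 45, 47, 118, 43, 71, 92]],
   [[81, 36, 32, 92, 44, 60, 79], [29, 101, 6, 18, 48, 4, 44], [81, 93, 65, 1, 11, 30, 60], [8, 38, 61, 62, 5, 70, 12]],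
   [[73, 16, 115, 22, 37, 68, 45], [77, 54, 60, 80, 2, 97, 28], [73, 20, 23, 65, 103, 36, 119], [62, 56, 82, 9, 80, 114, 54]],
   [[127, 45, 70, 88, 91, 65, 67], [120, 96, 60, 107, 59, 45, 88], [127, 108, 20, 28, 123, 29, 58], [40, 62, 17, 12, 21, 103, 120]],
   [[43, 125, 28, 93, 9, 71, 27], [104, 27, 55, 120, 75, 10, 100], [43, 97, 84, 125, 17, 11, 96], [66, 13, 55, 111, 82, 33, 97]],
   [[22, 59, 103, 39, 118, 88, 119], [80, 99, 38, 104, 68, 29, 12], [22, 53, 32, 81, 50, 61, 95], [120, 127, 21, 34, 107, 4, 27]],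
   [[123, 33, 114, 105, 63, 91, 70], [35, 81, 61, 38, 88, 33, 44], [123, 113, 98, 8, 48, 119, 28], [108, 11, 41, 8, 97, 113, 126]],
   [[21, 106, 75, 61, 96, 100, 125], [94, 67, 48, 81, 111, 88, 72], [21, 86, 89, 19, 37, 20, 10], [33, 110, 103, 46, 71, 86, 76]],
   [[126, 59, 36, 70, 123, 109, 94], [84, 95, 69, 98, 42, 65, 18], [126, 19, 10, 17, 26, 71, 47], [28, 10, 127, 14, 20, 39, 73]],
   [[58, 61, 88, 67, 94, 62, 40], [23, 53, 33, 90, 116, 26, 42], [58, 64, 112, 28, 47, 68, 36], [87, 73, 34, 78, 100, 98, 2]],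
   [[30, 67, 122, 42, 73, 89, 53], [73, 119, 35, 101, 48, 26, 60], [30, 15, 67, 95, 48, 9, 38], [113, 13, 47, 81, 114, 98, 120]],
   [[70, 49, 76, 23, 64, 114, 71], [65, 115, 98, 118, 88, 27, 16], [70, 28, 124, 119, 116, 88, 25], [59, 35, 121, 20, 111, 93, 91]],
   [[105, 21, 112, 120, 110, 1, 88], [32, 58, 11, 12, 41, 72, 101], [105, 23, 13, 18, 60, 110, 45], [115, 43, 121, 14, 35, 68, 56]],
   [[115, 63, 69, 24, 110, 99, 67], [46, 115, 55, 41, 33, 96, 29], [115, 56, 36, 106, 15, 53, 1], [64, 50, 79, 45, 100, 75, 92]],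
   [[62, 33, 59, 77, 16, 60, 109], [74, 33, 79, 55, 16, 72, 58], [62, 66, 32, 47, 34, 84, 36], [123, 20, 68, 39, 114, 4, 22]],
   [[112, 10, 98, 82, 20, 62, 11], [66, 59, 46, 57, 62, 50, 13], [112, 5, 98, 9, 88, 44, 118], [51, 112, 49, 59, 117, 42, 94]],
   [[120, 126, 117, 98, 58, 52, 67], [81, 100, 103, 51, 94, 25, 117], [120, 105, 122, 119, 51, 36, 84], [91, 5, 54, 97, 88, 22, 46]],
   [[51, 86, 73, 127, 29, 114, 126], [72, 22, 69, 37, 56, 103, 105], [51, 104, 125, 94, 90, 13, 2], [19, 64, 24, 43, 13, 95, 118]],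
   [[34, 96, 28, 50, 91, 38, 85], [54, 93, 33, 44, 9, 92, 94], [34, 74, 15, 49, 31, 82, 87], [79, 82, 47, 54, 20, 83, 102]],
   [[96, 121, 100, 63, 27, 46, 47], [96, 19, 5, 43, 72, 29, 28], [96, 56, 77, 29, 92, 93, 66], [48, 104, 19, 15, 36, 41, 40]],
   [[42, 105, 58, 60, 62, 32, 74], [122, 24, 20, 57, 5, 32, 97], [42, 23, 40, 86, 59, 30, 62], [70, 5, 22, 100, 87, 96, 76]],
   [[98, 91, 42, 35, 37, 106, 77], [45, 112, 104, 33, 90, 85, 36], [98, 71, 73, 36, 120, 127, 80], [11, 94, 101, 61, 114, 109, 50]],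
   [[66, 27, 93, 52, 90, 87, 112], [93, 78, 7, 106, 123, 116, 79], [66, 113, 78, 47, 55, 31, 57], [126, 85, 19, 22, 14, 38, 84]],
   [[33, 9, 83, 105, 109, 113, 85], [121, 92, 24, 123, 83, 120, 114], [33, 2, 114, 121, 85, 5, 102], [55, 2, 23, 57, 83, 54, 99]],
   [[29, 47, 124, 96, 3, 53, 65], [13, 29, 51, 100, 91, 69, 77], [29, 6, 37, 67, 60, 16, 59], [82, 23, 21, 102, 32, 67, 77]],
   [[86, 98, 22, 89, 111, 55, 19], [56, 27, 124, 86, 99, 28, 5], [86, 118, 77, 84, 41, 61, 87], [65, 9, 47, 82, 31, 3, 56]],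
   [[108, 94, 54, 79, 55, 71, 114], [20, 112, 7, 40, 30, 109, 67], [108, 109, 107, 9, 123, 26, 73], [3, 63, 57, 11, 20, 123, 72]],
   [[115, 108, 88, 45, 103, 16, 1], [64, 60, 49, 110, 32, 23, 74], [115, 75, 93, 43, 9, 106, 24], [97, 91, 108, 113, 49, 67, 73]],
   [[18, 85, 121, 67, 80, 102, 87], [25, 66, 11, 55, 67, 58, 83], [18, 50, 72, 81, 74, 45, 39], [109, 20, 58, 116, 21, 3, 112]],
   [[76, 7, 78, 110, 11, 120, 47], [91, 5, 92, 78, 113, 12, 19], [76, 80, 31, 18, 81, 118, 24], [18, 21, 67, 93, 29, 116, 31]],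
   [[54, 13, 114, 27, 38, 21, 115], [68, 110, 117, 51, 17, 11, 112], [54, 72, 33, 68, 32, 30, 80], [20, 89, 59, 49, 115, 16, 51]],
   [[25, 109, 20, 78, 112, 97, 107], [39, 81, 19, 49, 23, 124, 123], [25, 79, 94, 108, 104, 46, 65], [53, 93, 24, 7, 51, 98, 117]],
   [[50, 59, 103, 42, 121, 53, 41], [60, 116, 105, 63, 54, 67, 102], [50, 102, 63, 72, 114, 42, 49], [54, 119, 42, 25, 56, 78, 17]],
   [[56, 75, 120, 1, 24, 2, 4], [8, 32, 64, 47, 63, 17, 5], [56, 47, 34, 76, 118, 95, 85], [84, 25, 43, 121, 101, 29, 90]],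
   [[99, 51, 58, 55, 52, 119, 88], [69, 93, 10, 67, 43, 49, 40], [99, 17, 44, 88, 58, 25, 102], [25, 87, 88, 34, 27, 126, 49]],
   [[24, 98, 42, 111, 120, 88, 97], [81, 19, 124, 39, 38, 48, 33], [24, 96, 113, 88, 18, 79, 118], [106, 124, 82, 109, 108, 11, 9]],
   [[25, 52, 2, 61, 4, 12, 112], [58, 4, 16, 48, 11, 25, 82], [25, 29, 79, 22, 98, 23, 95], [40, 79, 3, 109, 68, 82, 13]],
   [[79, 94, 74, 49, 86, 116, 127], [73, 59, 76, 18, 74, 11, 45], [79, 122, 9, 105, 89, 86, 81], [84, 123, 79, 80, 37, 61, 49]],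
   [[111, 98, 86, 115, 55, 107, 76], [122, 108, 33, 88, 112, 87, 57], [111, 10, 22, 94, 92, 114, 33], [39, 24, 85, 26, 73, 103, 22]],
   [[67, 30, 64, 60, 108, 82, 25], [61, 56, 71, 97, 28, 50, 4], [67, 51, 57, 13, 105, 59, 36], [125, 36, 87, 34, 76, 23, 88]],
   [[86, 31, 108, 44, 28, 5, 116], [116, 102, 84, 123, 63, 39, 12], [86, 117, 122, 29, 51, 6, 21], [110, 29, 61, 72, 19, 112, 50]],
   [[32, 52, 119, 75, 14, 86, 125], [37, 74, 84, 14, 87, 1, 105], [32, 83, 63, 18, 84, 105, 27], [99, 52, 69, 43, 60, 1, 105]],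
   [[118, 16, 78, 32, 124, 111, 7], [44, 30, 114, 15, 2, 8, 103], [118, 56, 115, 71, 120, 106, 8], [75, 31, 78, 64, 47, 109, 18]],
   [[39, 107, 18, 104, 15, 72, 101], [82, 88, 35, 57, 92, 40, 25], [39, 91, 3, 5, 80, 76, 37], [69, 65, 77, 22, 107, 72, 123]],
   [[21, 64, 115, 57, 94, 35, 18], [29, 102, 58, 104, 38, 91, 2], [21, 72, 22, 30, 120, 57, 61], [62, 59, 96, 12, 95, 77, 14]],
   [[104, 24, 68, 48, 103, 61, 38], [91, 57, 15, 124, 126, 118, 11], [104, 81, 15, 77, 100, 21, 33], [114, 103, 73, 88, 27, 50, 107]],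
   [[112, 21, 46, 48, 95, 102, 99], [21, 54, 117, 45, 98, 106, 9], [112, 99, 71, 25, 73, 96, 31], [117, 87, 31, 92, 33, 25, 57]],
   [[81, 52, 99, 2, 56, 68, 86], [70, 8, 15, 29, 104, 101, 47], [81, 83, 62, 64, 15, 117, 112], [92, 3, 60, 115, 85, 29, 8]],
   [[23, 108, 92, 49, 37, 126, 86], [14, 23, 45, 83, 53, 51, 79], [23, 81, 52, 22, 46, 49, 113], [9, 78, 45, 49, 107, 66, 96]],
   [[1, 13, 90, 3, 35, 83, 100], [1, 9, 38, 37, 86, 24, 126], [1, 46, 91, 101, 78, 26, 104], [1, 124, 27, 82, 14, 55, 37]],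
   [[5, 59, 112, 94, 88, 57, 69], [59, 34, 58, 94, 15, 74, 65], [5, 87, 92, 112, 73, 74, 43], [125, 77, 124, 54, 21, 70, 91]],
   [[119, 23, 121, 57, 108, 13, 103], [51, 22, 102, 117, 65, 15, 12], [119, 27, 84, 81, 45, 89, 93], [108, 93, 96, 40, 27, 52, 127]],
   [[101, 114, 29, 102, 64, 24, 86], [83, 90, 119, 93, 125, 53, 16], [101, 35, 15, 84, 103, 39, 21], [120, 17, 34, 79, 26, 107, 48]],
   [[3, 23, 14, 104, 120, 34, 75], [104, 105, 27, 118, 24, 73, 55], [3, 99, 35, 52, 120, 62, 97], [67, 66, 116, 106, 121, 5, 6]],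
   [[107, 74, 60, 38, 15, 114, 57], [98, 79, 38, 27, 88, 97, 86], [107, 10, 32, 81, 118, 46, 122], [78, 116, 38, 118, 15, 4, 73]],
   [[13, 24, 37, 43, 1, 53, 124], [16, 29, 55, 38, 36, 35, 86], [13, 34, 126, 78, 46, 91, 26], [19, 105, 92, 78, 103, 107, 115]],
   [[50, 126, 58, 43, 102, 74, 38], [27, 117, 86, 5, 23, 99, 80], [50, 11, 25, 126, 82, 78, 36], [115, 41, 71, 88, 47, 7, 22]],
   [[10, 14, 103, 124, 123, 36, 5], [67, 88, 3, 89, 78, 35, 63], [10, 12, 49, 121, 42, 102, 97], [99, 63, 60, 62, 118, 17, 50]],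
   [[115, 84, 31, 62, 45, 54, 74], [70, 59, 52, 40, 101, 74, 83], [115, 118, 11, 34, 101, 43, 21], [125, 44, 126, 85, 67, 36, 55]],
   [[125, 7, 78, 40, 103, 63, 127], [28, 65, 95, 122, 42, 114, 96], [125, 65, 112, 121, 35, 74, 108], [121, 46, 9, 117, 56, 71, 123]],
   [[83, 97, 66, 32, 79, 16, 59], [37, 43, 87, 102, 32, 8, 47], [83, 69, 24, 44, 118, 95, 28], [124, 38, 68, 101, 97, 41, 58]],
   [[29, 99, 82, 9, 112, 23, 39], [102, 79, 50, 110, 59, 91, 112], [29, 68, 31, 97, 76, 41, 9], [82, 5, 56, 18, 121, 96, 58]],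
   [[45, 5, 99, 76, 85, 46, 118], [44, 13, 46, 114, 70, 113, 84], [45, 70, 104, 100, 42, 27, 98], [89, 94, 22, 26, 61, 84, 74]],
   [[97, 61, 79, 63, 32, 86, 30], [88, 10, 54, 41, 85, 16, 73], [97, 107, 125, 16, 86, 106, 18], [34, 72, 70, 75, 8, 53, 22]],
   [[11, 13, 107, 62, 71, 68, 108], [71, 119, 116, 49, 107, 81, 84], [11, 35, 112, 127, 29, 89, 84], [39, 108, 13, 74, 112, 73, 61]],
   [[9, 87, 113, 49, 50, 12, 26], [110, 118, 79, 111, 89, 63, 12], [9, 69, 87, 33, 53, 35, 10], [105, 40, 54, 104, 46, 97, 93]],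
   [[18, 85, 108, 122, 32, 39, 88], [101, 88, 13, 42, 89, 16, 51], [18, 40, 109, 86, 76, 110, 6], [15, 43, 107, 25, 42, 27, 98]],
   [[14, 108, 111, 60, 96, 69, 91], [21, 19, 94, 76, 97, 123, 107], [14, 53, 4, 7, 108, 91, 114], [62, 50, 4, 55, 81, 105, 74]],
   [[55, 118, 22, 100, 47, 29, 31], [63, 96, 14, 123, 106, 58, 60], [55, 125, 78, 31, 13, 21, 23], [95, 96, 7, 72, 120, 65, 43]],
   [[19, 58, 27, 97, 116, 37, 79], [82, 63, 38, 5, 108, 84, 14], [19, 96, 119, 76, 97, 127, 15], [18, 113, 7, 36, 98, 41, 43]],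
   [[116, 121, 67, 37, 47, 25, 5], [53, 91, 117, 67, 86, 72, 106], [116, 48, 103, 119, 93, 14, 33], [78, 71, 54, 81, 12, 14, 53]],
   [[57, 88, 43, 98, 60, 36, 68], [99, 104, 114, 93, 109, 82, 50], [57, 78, 32, 63, 83, 55, 33], [68, 30, 23, 40, 105, 4, 35]],
   [[125, 73, 17, 58, 13, 9, 2], [91, 64, 48, 123, 95, 108, 34], [125, 66, 87, 65, 33, 110, 124], [65, 75, 108, 31, 43, 81, 73]],
   [[124, 68, 81, 50, 65, 53, 59], [121, 58, 107, 49, 20, 38, 105], [124, 62, 68, 103, 40, 1, 30], [32, 110, 105, 82, 21, 66, 109]],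
   [[103, 9, 48, 59, 79, 63, 93], [73, 14, 40, 75, 94, 90, 52], [103, 123, 97, 72, 121, 115, 77], [95, 18, 23, 34, 54, 113, 42]],
   [[69, 79, 83, 121, 12, 78, 70], [34, 99, 112, 96, 22, 15, 83], [69, 10, 53, 126, 94, 85, 99], [50, 86, 15, 84, 33, 24, 60]],
   [[10, 9, 8, 29, 115, 69, 37], [6, 5, 121, 4, 115, 63, 95], [10, 123, 92, 101, 53, 59, 93], [68, 44, 49, 45, 58, 95, 34]],
   [[63, 101, 43, 73, 69, 18, 64], [43, 94, 123, 99, 126, 18, 64], [63, 61, 119, 54, 125, 26, 21], [30, 3, 106, 23, 52, 85, 18]],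
   [[91, 119, 112, 126, 33, 76, 77], [96, 127, 25, 106, 39, 112, 83], [91, 98, 16, 84, 9, 56, 126], [35, 108, 117, 51, 4, 23, 121]],
   [[102, 38, 35, 50, 108, 77, 21], [74, 52, 76, 37, 70, 122, 3], [102, 127, 19, 35, 96, 113, 93], [74, 52, 37, 51, 122, 118, 102]],
   [[44, 96, 10, 27, 59, 97, 121], [34, 74, 87, 78, 46, 24, 26], [44, 62, 99, 36, 109, 77, 29], [87, 37, 56, 9, 38, 48, 70]],
   [[68, 52, 40, 84, 48, 82, 113], [67, 58, 18, 29, 9, 25, 19], [68, 101, 16, 86, 73, 88, 53], [52, 13, 71, 98, 4, 55, 70]],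
   [[96, 86, 108, 47, 82, 88, 32], [106, 39, 18, 23, 118, 64, 65], [96, 125, 62, 74, 36, 69, 13], [49, 104, 78, 63, 67, 94, 95]],
   [[33, 126, 72, 51, 60, 76, 118], [42, 84, 36, 66, 93, 43, 70], [33, 4, 99, 23, 14, 48, 44], [122, 43, 2, 57, 91, 123, 46]],
   [[30, 88, 27, 34, 1, 58, 110], [16, 60, 21, 119, 95, 52, 42], [30, 89, 43, 36, 124, 32, 116], [26, 110, 40, 80, 23, 32, 95]],
   [[92, 43, 41, 115, 56, 50, 91], [76, 6, 11, 54, 88, 126, 100], [92, 31, 82, 32, 20, 4, 51], [55, 79, 32, 106, 48, 8, 123]],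
   [[36, 54, 19, 51, 106, 76, 82], [7, 49, 13, 110, 50, 12, 67], [36, 61, 65, 22, 64, 62, 6], [20, 54, 118, 95, 72, 119, 16]],
   [[89, 119, 73, 108, 125, 15, 80], [29, 78, 47, 92, 5, 62, 69], [89, 117, 107, 96, 42, 9, 53], [86, 44, 63, 118, 99, 74, 66]],
   [[68, 122, 36, 58, 6, 80, 19], [113, 27, 11, 54, 42, 15, 10], [68, 120, 84, 26, 11, 97, 15], [29, 55, 80, 58, 5, 108, 81]],
   [[26, 84, 122, 57, 104, 98, 102], [122, 37, 96, 21, 49, 86, 83], [26, 23, 67, 112, 92, 99, 16], [63, 87, 42, 22, 64, 36, 108]],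
   [[112, 46, 121, 111, 41, 61, 115], [125, 60, 83, 120, 99, 21, 119], [112, 36, 17, 116, 119, 33, 74], [43, 51, 9, 86, 47, 11, 37]],
   [[80, 104, 76, 107, 11, 64, 53], [103, 109, 62, 26, 33, 56, 32], [80, 57, 31, 116, 11, 13, 83], [78, 15, 63, 81, 43, 54, 42]],
   [[99, 30, 70, 114, 83, 53, 29], [44, 110, 29, 84, 37, 52, 119], [99, 16, 90, 67, 54, 21, 103], [99, 90, 65, 109, 2, 9, 49]],
   [[43, 69, 47, 115, 40, 124, 52], [91, 74, 5, 60, 105, 44, 92], [43, 46, 91, 62, 52, 58, 39], [43, 113, 40, 105, 10, 50, 61]],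
   [[119, 117, 16, 93, 125, 120, 54], [111, 3, 95, 18, 4, 24, 46], [119, 37, 11, 71, 38, 17, 96], [88, 74, 43, 22, 120, 113, 49]],
   [[75, 23, 127, 106, 101, 41, 115], [82, 14, 109, 41, 51, 91, 116], [75, 15, 72, 116, 83, 121, 16], [47, 42, 86, 81, 64, 75, 85]],
   [[117, 87, 111, 41, 22, 95, 105], [90, 115, 55, 34, 84, 112, 72], [117, 60, 108, 78, 67, 61, 94], [34, 124, 85, 111, 72, 112, 78]],
   [[120, 111, 104, 19, 78, 67, 6], [70, 75, 11, 125, 5, 84, 45], [120, 48, 126, 20, 39, 67, 40], [108, 118, 115, 57, 123, 121, 58]],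
   [[98, 91, 30, 11, 56, 52, 17], [19, 103, 76, 124, 83, 63, 89], [98, 58, 54, 81, 34, 100, 31], [115, 95, 126, 120, 106, 79, 17]],
   [[91, 4, 78, 87, 56, 11, 19], [108, 71, 2, 11, 107, 112, 74], [91, 105, 73, 29, 52, 28, 11], [40, 94, 77, 54, 91, 6, 26]],
   [[28, 90, 8, 101, 25, 66, 22], [50, 69, 35, 4, 38, 124, 101], [28, 20, 111, 13, 3, 89, 45], [126, 110, 117, 3, 119, 72, 42]],
   [[71, 66, 7, 55, 94, 99, 29], [82, 7, 81, 63, 124, 112, 5], [71, 23, 127, 11, 68, 75, 93], [98, 115, 56, 25, 43, 55, 40]],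
   [[55, 29, 36, 114, 52, 34, 25], [119, 102, 66, 35, 20, 70, 60], [55, 23, 106, 65, 7, 75, 4], [39, 119, 64, 95, 18, 3, 47]],
   [[52, 19, 101, 82, 93, 22, 27], [117, 120, 87, 66, 15, 89, 127], [52, 18, 106, 35, 77, 80, 31], [23, 112, 28, 73, 114, 111, 82]],
   [[51, 95, 59, 40, 37, 46, 57], [113, 68, 108, 5, 57, 13, 103], [51, 49, 15, 6, 73, 47, 121], [82, 3, 11, 94, 116, 36, 28]],
   [[108, 47, 71, 74, 84, 58, 75], [72, 49, 7, 67, 109, 63, 122], [108, 122, 63, 3, 124, 125, 35], [48, 56, 42, 127, 17, 72, 28]],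
   [[78, 98, 69, 107, 24, 21, 112], [87, 15, 58, 93, 77, 100, 105], [78, 91, 16, 96, 7, 19, 12], [51, 23, 52, 116, 4, 94, 86]],
   [[57, 91, 8, 124, 45, 113, 65], [101, 30, 73, 4, 88, 56, 37], [57, 36, 26, 55, 114, 67, 16], [63, 117, 77, 49, 64, 79, 106]],
   [[32, 112, 75, 94, 42, 108, 44], [117, 74, 26, 91, 99, 1, 96], [32, 126, 102, 83, 65, 60, 100], [118, 68, 39, 90, 92, 1, 102]],
   [[65, 115, 20, 62, 118, 112, 105], [111, 77, 125, 118, 121, 55, 110], [65, 35, 73, 90, 3, 25, 103], [57, 41, 122, 5, 28, 18, 56]],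
   [[1, 29, 8, 105, 90, 16, 118], [1, 74, 39, 4, 32, 115, 126], [1, 68, 48, 46, 94, 41, 121], [1, 55, 30, 89, 124, 120, 28]],
   [[118, 108, 2, 67, 52, 107, 73], [25, 4, 63, 76, 75, 100, 21], [118, 114, 23, 5, 38, 26, 107], [11, 105, 3, 44, 101, 122, 116]],
   [[18, 71, 19, 109, 51, 13, 67], [5, 121, 66, 103, 120, 20, 60], [18, 17, 56, 111, 76, 117, 66], [52, 55, 78, 41, 54, 27, 119]],
   [[71, 81, 78, 68, 112, 18, 15], [111, 102, 35, 106, 70, 125, 43], [71, 5, 52, 41, 111, 6, 72], [25, 59, 27, 120, 118, 105, 56]],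
   [[2, 56, 116, 74, 91, 71, 31], [113, 1, 15, 86, 105, 61, 95], [2, 93, 38, 62, 1, 56, 23], [16, 1, 41, 116, 120, 44, 55]],
   [[23, 70, 27, 89, 54, 10, 100], [120, 43, 14, 11, 92, 105, 39], [23, 28, 26, 5, 100, 68, 36], [120, 118, 112, 13, 127, 48, 80]],
   [[13, 59, 38, 72, 12, 107, 3], [17, 81, 61, 45, 7, 104, 37], [13, 51, 56, 96, 58, 119, 14], [85, 20, 19, 71, 122, 57, 49]],
   [[105, 18, 12, 41, 107, 15, 63], [53, 17, 74, 78, 19, 115, 9], [105, 99, 19, 84, 118, 110, 87], [55, 127, 105, 124, 76, 103, 45]],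
   [[84, 26, 114, 86, 82, 109, 94], [62, 9, 24, 72, 67, 20, 90], [84, 24, 47, 124, 61, 120, 19], [84, 113, 40, 103, 101, 110, 76]],
   [[72, 30, 96, 62, 13, 11, 2], [111, 64, 112, 15, 61, 10, 14], [72, 107, 49, 57, 29, 3, 9], [76, 108, 59, 12, 107, 35, 13]],
   [[29, 42, 120, 50, 7, 88, 57], [110, 27, 101, 61, 55, 36, 42], [29, 121, 68, 123, 25, 7, 46], [59, 10, 17, 92, 119, 7, 21]],
   [[76, 57, 86, 89, 116, 41, 90], [19, 91, 56, 124, 34, 79, 69], [76, 38, 57, 26, 79, 21, 40], [106, 123, 100, 93, 46, 29, 56]],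
   [[35, 113, 107, 3, 108, 78, 69], [49, 57, 28, 104, 87, 9, 109], [35, 47, 81, 103, 41, 26, 40], [80, 126, 108, 111, 49, 47, 101]],
   [[65, 23, 92, 47, 3, 5, 70], [113, 97, 81, 102, 67, 47, 112], [65, 29, 71, 58, 114, 117, 74], [53, 88, 93, 44, 70, 58, 52]],
   [[7, 44, 98, 36, 28, 91, 114], [60, 99, 94, 10, 68, 86, 49], [7, 67, 26, 50, 25, 15, 109], [79, 91, 21, 33, 126, 45, 22]],
   [[39, 72, 115, 87, 74, 47, 32], [31, 18, 76, 33, 106, 64, 35], [39, 5, 52, 68, 61, 54, 110], [95, 36, 93, 75, 126, 39, 85]],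
   [[7, 59, 64, 19, 105, 23, 35], [30, 55, 40, 99, 33, 105, 4], [7, 46, 121, 55, 44, 51, 20], [59, 18, 40, 89, 104, 97, 111]],
   [[103, 55, 114, 2, 81, 38, 121], [19, 8, 39, 95, 49, 15, 50], [103, 63, 115, 102, 110, 6, 113], [9, 68, 100, 24, 97, 82, 122]],
   [[15, 35, 67, 77, 4, 90, 108], [13, 74, 16, 86, 127, 69, 67], [15, 107, 79, 123, 28, 24, 113], [121, 98, 48, 42, 10, 54, 5]],
   [[69, 31, 122, 121, 112, 38, 4], [107, 103, 64, 115, 61, 7, 42], [69, 86, 82, 29, 119, 76, 114], [86, 122, 6, 119, 47, 68, 81]],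
   [[18, 8, 13, 82, 113, 54, 89], [117, 63, 115, 2, 62, 82, 9], [18, 81, 14, 39, 86, 33, 48], [58, 91, 115, 44, 90, 26, 98]],
   [[72, 86, 8, 83, 101, 39, 1], [64, 53, 74, 4, 120, 31, 5], [72, 96, 115, 39, 77, 16, 79], [118, 80, 103, 74, 32, 73, 75]],
   [[27, 92, 86, 65, 118, 125, 24], [54, 119, 124, 113, 49, 20, 62], [27, 121, 115, 81, 78, 71, 25], [119, 65, 25, 71, 112, 77, 15]],
   [[57, 63, 43, 124, 82, 59, 118], [62, 33, 34, 105, 36, 114, 21], [57, 56, 113, 51, 111, 25, 64], [3, 76, 123, 69, 102, 33, 64]],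
   [[116, 15, 41, 44, 64, 81, 19], [87, 112, 91, 126, 103, 45, 16], [116, 76, 7, 1, 49, 16, 112], [8, 77, 65, 27, 32, 56, 88]],
   [[45, 109, 61, 2, 90, 41, 96], [125, 8, 33, 30, 5, 67, 3], [45, 41, 101, 12, 35, 7, 27], [58, 25, 3, 11, 104, 51, 14]]]

set_option maxRecDepth 100000 in
theorem chk7 : all2 (chk 7 C7) (enum 7) cert7 = true := by decide +kernel

variable {F : Type*} [Field F]

noncomputable def p7 (F : Type*) [Field F] : F[X] := X ^ 7 + X + 1

theorem p7_natDegree : (p7 F).natDegree = 7 := by unfold p7; compute_degree!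
theorem p7_monic : (p7 F).Monic := by unfold p7; monicity!

theorem charpoly_C7 (h2 : (2 : F) = 0) : (dec F 7 C7).charpoly = p7 F := by
  apply charpoly_dec p7_monic p7_natDegree.symm
  intro i j
  fin_cases i <;> fin_cases j <;> simp [C7, bt, p7, coeff_X, coeff_one, Nat.testBit, Nat.shiftRight_eq_div_pow, neg_one' h2]

/-- **`GL_7(2)`.** -/
theorem gl_two_seven (h : Nat.card F = 2) (A : GL (Fin 7) F) (hA : 2 ≤ ((A : Matrix (Fin 7) (Fin 7) F) - 1).rank) :
    ∃ y : GL (Fin 7) F, (y : Matrix (Fin 7) (Fin 7) F).charpoly = p7 F ∧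
      ((A * y : GL (Fin 7) F) : Matrix (Fin 7) (Fin 7) F).charpoly = p7 F := by
  have hF := zero_or_one h
  have h2 := two_eq_zero hF
  rw [← charpoly_C7 h2]
  exact main hF h2 (C := C7) (C' := D7) rfl (by decide) chk7 A hA

theorem p7_irreducible (h : Nat.card F = 2) : Irreducible (p7 F) := by
  have hF := zero_or_one h
  have h2 := two_eq_zero hF
  refine irr_of_orb hF h2 p7_monic p7_natDegree.symm (by norm_num) (C := C7) (C' := D7) rfl (by decide) ?_
    (by decide +kernel)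
  intro i j
  fin_cases i <;> fin_cases j <;> simp [C7, bt, p7, coeff_X, coeff_one, Nat.testBit, Nat.shiftRight_eq_div_pow, neg_one' h2]

theorem p7_ne_reverse : p7 F ≠ (p7 F).reverse := by
  intro h
  have := congrArg (fun f : F[X] => f.coeff 1) h
  simp only [coeff_reverse, p7_natDegree] at this
  rw [Polynomial.revAt_le (by norm_num)] at this
  simp [p7, coeff_X, coeff_one] at this

end Cfsg.Agent.H194.GLTwo
end

-- part: H194/OreTwo
section
/-!
# Every element of `Ω(V)` is a commutator, over the field with two elements (helper194)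

Base cases in dimensions 8, 10, 12, 14 from the base corner theorem (helper434) and the lemma on `GL_m(2)`,
`3 ≤ m ≤ 7`; recursion with identity blocks (helper958) and the block theorem (helper140).
-/

set_option autoImplicit false
set_option linter.unusedSectionVars false

namespace Cfsg.Agent.H194.OreTwo

open Polynomial Matrix QuadraticMap Cfsg.Agent.LieClassical.OrthCore
  Cfsg.Agent.LieClassical.OrthTrans Cfsg.Agent.LieClassical.OrthFinite Cfsg.Agent.H140.OreO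

universe u v

variable {F : Type u} [Field F] {V : Type v} [AddCommGroup V] [Module F V] {n : ℕ}
  {Q : QuadraticForm F V}

/-! ### Coprimality of good polynomials -/

theorem cop4 {d e : ℕ} {c f : F[X]} (hc : GoodPoly d c) (hf : GoodPoly e f) (hd : 2 ≤ d)
    (he : 2 ≤ e) (hde : d ≠ e) :
    IsCoprime c f ∧ IsCoprime c f.reverse ∧ IsCoprime c.reverse f ∧
      IsCoprime c.reverse f.reverse := by
  have c0 : c.coeff 0 ≠ 0 := coeff_zero_ne hc.irr (by rw [hc.deg]; exact hd)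
  have f0 : f.coeff 0 ≠ 0 := coeff_zero_ne hf.irr (by rw [hf.deg]; exact he)
  have ic := irreducible_rev hc.irr c0
  have jf := irreducible_rev hf.irr f0
  have dc := natDegree_rev c0
  have df := natDegree_rev f0
  refine ⟨coprime_of_deg_ne hc.irr hf.irr ?_, coprime_of_deg_ne hc.irr jf ?_,
    coprime_of_deg_ne ic hf.irr ?_, coprime_of_deg_ne ic jf ?_⟩
  · rw [hf.deg, hc.deg]; exact hde.symm
  · rw [df, hf.deg, hc.deg]; exact hde.symm
  · rw [dc, hf.deg, hc.deg]; exact hde.symm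
  · rw [dc, df, hf.deg, hc.deg]; exact hde.symm

/-- All good polynomials of degree outside `S` are units at `y`. -/
def Av (S : ℕ → Prop) (y : V ≃ₗ[F] V) : Prop :=
  ∀ (d : ℕ) (c : F[X]), 2 ≤ d → ¬ S d → GoodPoly d c →
    Un (y : Module.End F V) c ∧ Un (y : Module.End F V) c.reverse

theorem Av.mono {S S' : ℕ → Prop} {y : V ≃ₗ[F] V} (h : Av S y) (hS : ∀ d, S d → S' d) :
    Av S' y := fun d c hd hn hc => h d c hd (fun hs => hn (hS d hs)) hc

theorem Av.conj {S : ℕ → Prop} {y : V ≃ₗ[F] V} (h : Av S y) (g : V ≃ₗ[F] V) :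
    Av S (g * y * g⁻¹) := fun d c hd hn hc =>
  ⟨(h d c hd hn hc).1.conj' g, (h d c hd hn hc).2.conj' g⟩

theorem av_one (S : ℕ → Prop) : Av S (1 : V ≃ₗ[F] V) := by
  intro d c hd _ hc
  have h0 : aeval ((1 : V ≃ₗ[F] V) : Module.End F V) (X - C 1 : F[X]) = 0 := by
    rw [map_sub, aeval_X, aeval_C, map_one]
    show (LinearEquiv.refl F V : V →ₗ[F] V) - 1 = 0
    rw [LinearEquiv.refl_toLinearMap]
    exact sub_self _
  have c0 : c.coeff 0 ≠ 0 := coeff_zero_ne hc.irr (by rw [hc.deg]; exact hd)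
  have hX : (X - C 1 : F[X]) ≠ 0 := X_sub_C_ne_zero 1
  refine ⟨un_of_coprime h0 (coprime_of_deg hc.irr hX ?_),
    un_of_coprime h0 (coprime_of_deg (irreducible_rev hc.irr c0) hX ?_)⟩
  · rw [natDegree_X_sub_C, hc.deg]; omega
  · rw [natDegree_X_sub_C, natDegree_rev c0, hc.deg]; omega

theorem Av.lev [FiniteDimensional F V] {S : ℕ → Prop} {y : V ≃ₗ[F] V} (hy : Av S y) {m : ℕ}
    (hm : 2 ≤ m) {c : F[X]} (hc : GoodPoly m c) {X : GL (Fin m) F}
    (hX : (X : Matrix (Fin m) (Fin m) F).charpoly = c) :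
    Av (fun d => S d ∨ d = m) (H140.OreO.lev X y) := by
  intro d f hd hn hf
  rw [not_or] at hn
  obtain ⟨h1, h2, h3, h4⟩ := cop4 hf hc hd hm hn.2
  have e1 : aeval (X : Matrix (Fin m) (Fin m) F) c = 0 := by
    rw [← hX]; exact aeval_self_charpoly _
  have e2 : aeval (ti X : Matrix (Fin m) (Fin m) F) c.reverse = 0 := by
    rw [← hX]; exact aeval_ti_reverse X
  have hyf := hy d f hd hn.1 hf
  exact ⟨un_lev (Un.of_coprime_mat e1 h1) hyf.1 (Un.of_coprime_mat e2 h2),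
    un_lev (Un.of_coprime_mat e1 h3) hyf.2 (Un.of_coprime_mat e2 h4)⟩

theorem Av.cop [FiniteDimensional F V] {S : ℕ → Prop} {y : V ≃ₗ[F] V} (hy : Av S y) {m : ℕ}
    (hm : 2 ≤ m) (hS : ¬ S m) {c : F[X]} (hc : GoodPoly m c) {X : GL (Fin m) F}
    (hX : (X : Matrix (Fin m) (Fin m) F).charpoly = c) : Cop X y := by
  have h := hy m c hm hS hc
  apply cop_of_charpoly
  · rw [hX]; exact h.1
  · rw [hX]; exact h.2
  · rw [hX]; exact hc.cop

theorem Av.of_autE {V' : Type*} [AddCommGroup V'] [Module F V'] {e : V ≃ₗ[F] V'} {S : ℕ → Prop}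
    {y : V ≃ₗ[F] V} (h : Av S (autE e y)) : Av S y := fun d c hd hn hc =>
  ⟨(h d c hd hn hc).1.of_autE, (h d c hd hn hc).2.of_autE⟩

theorem Sol.mono {g : V ≃ₗ[F] V} {s : Fˣ} {R R' : (V ≃ₗ[F] V) → Prop} (h : Sol Q g s R)
    (hR : ∀ y, R y → R' y) : Sol Q g s R' := by
  obtain ⟨k, hk, y, hy, e, hr⟩ := h
  exact ⟨k, hk, y, hy, e, hR y hr⟩

theorem unit_eq_one (hcard : Nat.card F = 2) (a : F) (ha : a ≠ 0) : a = 1 := by
  rcases Cfsg.Agent.H194.GLTwo.zero_or_one hcard a with h | h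
  · exact absurd h ha
  · exact h

theorem det_eq_one' (hcard : Nat.card F = 2) {m : ℕ} (X : GL (Fin m) F) :
    (X : Matrix (Fin m) (Fin m) F).det = 1 := by
  apply unit_eq_one hcard
  exact ((Matrix.isUnit_iff_isUnit_det _).1 X.isUnit).ne_zero

theorem charpoly_conj' {m : ℕ} (K Y : GL (Fin m) F) :
    ((K * Y * K⁻¹ : GL (Fin m) F) : Matrix (Fin m) (Fin m) F).charpoly =
      (Y : Matrix (Fin m) (Fin m) F).charpoly := by
  have h := Matrix.charpoly_units_conj K (Y : Matrix (Fin m) (Fin m) F)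
  rwa [← Units.val_mul, ← Matrix.coe_units_inv, ← Units.val_mul] at h

theorem finite_of (hcard : Nat.card F = 2) : Finite F :=
  Nat.finite_of_card_ne_zero (by rw [hcard]; norm_num)

/-! ### Base -/

theorem base_two (hcard : Nat.card F = 2) {m : ℕ} (hm : 2 ≤ m) {p : F[X]} (hp : GoodPoly m p)
    (hgl : ∀ A : GL (Fin m) F, 2 ≤ ((A : Matrix (Fin m) (Fin m) F) - 1).rank →
      ∃ y : GL (Fin m) F, (y : Matrix (Fin m) (Fin m) F).charpoly = p ∧
        ((A * y : GL (Fin m) F) : Matrix (Fin m) (Fin m) F).charpoly = p)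
    [FiniteDimensional F V] (hQ : Nondeg Q) (hN : 5 ≤ Module.finrank F V) {g : V ≃ₗ[F] V}
    (hg : g ∈ Om Q) (hB : BaseCorner m Q g) : Sol Q g 1 (Av (fun d => d = m)) := by
  have := finite_of hcard
  obtain ⟨w, w', hf, hS, hdet, hA⟩ := hB
  have he := hf.MQ_toModel
  let A : GL (Fin m) F := GeneralLinearGroup.mkOfDetNeZero (corner Q g w w')
    (by rw [hdet]; exact one_ne_zero)
  have hAc : (A : Matrix (Fin m) (Fin m) F) = corner Q g w w' := rfl
  have hGM : Good (MQ m (res Q w w')) := good_of_finite (nondeg_MQ (hf.nondeg_res hQ))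
    (by rw [← hf.toModel.finrank_eq]; exact hN)
  have hgO : autE hf.toModel g ∈ O (MQ m (res Q w w')) := (autE_mem_O he).2 (Om_le hg)
  have hA' : ∀ a, (autE hf.toModel g (a, 0, 0)).1 = (A : Matrix (Fin m) (Fin m) F) *ᵥ a :=
    fun a => H141.SpinFacts.corner_toModel hf g a
  have hS' : ∀ v, ∃ c d, autE hf.toModel g (c, v, 0) = (0, v, d) := by
    intro v
    obtain ⟨c, d, hcd⟩ := hS v v.2
    refine ⟨c, d, ?_⟩
    rw [autE_apply, H141.SpinFacts.toModel_symm_left, hcd,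
      ← H141.SpinFacts.toModel_symm_right hf, LinearEquiv.apply_symm_apply]
  obtain ⟨Y, K, hY, hAY, hK⟩ : ∃ Y K : GL (Fin m) F,
      (Y : Matrix (Fin m) (Fin m) F).charpoly = p ∧ A = (K * Y * K⁻¹) * Y⁻¹ ∧
      (K : Matrix (Fin m) (Fin m) F).det = 1 := by
    rcases hA with h1 | ⟨-, h1⟩
    · obtain ⟨Y, hY⟩ := exists_matrix p hp.monic (coeff_zero_ne hp.irr (by rw [hp.deg]; exact hm))
        hp.deg
      refine ⟨Y, 1, hY, ?_, by simp⟩
      have : A = 1 := Units.ext (by rw [hAc, h1]; rfl)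
      rw [this]; group
    · obtain ⟨Y, hY, hAY⟩ := hgl A h1
      obtain ⟨K, hK, hKd⟩ := exists_conj_matrix (A * Y) Y (hAY.trans hY.symm)
        (by rw [hY]; exact hp.irr) 1 one_ne_zero
      exact ⟨Y, K, hY, by rw [← hK]; group, hKd⟩
  have hX : ((K * Y * K⁻¹ : GL (Fin m) F) : Matrix (Fin m) (Fin m) F).charpoly = p := by
    rw [charpoly_conj', hY]
  have a1 : Av (fun _ => False) (1 : perp Q w w' ≃ₗ[F] perp Q w w') := av_one _
  have := Cfsg.Agent.H140.OreO.base hGM (by omega) hgO hA' hS' hAY hK (s := 1)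
    (by rw [Units.val_one]; exact det_eq_one' hcard Y) (a1.cop hm id hp hX) (a1.cop hm id hp hY)
  refine this.of_autE he fun y hy => ?_
  obtain ⟨v, hv⟩ := hy
  apply Av.of_autE (e := hf.toModel)
  rw [hv]
  exact ((a1.lev hm hp hY).conj v).mono (fun d hd => hd.resolve_left id)

/-! ### Recursion step -/

theorem step_two (hcard : Nat.card F = 2) {m : ℕ} (hm : 3 ≤ m) {S : ℕ → Prop} (hS : ¬ S m)
    [FiniteDimensional F V] (hQ : Nondeg Q) (h1 : 4 * m + 2 ≤ Module.finrank F V)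
    (h2 : 3 * m + 4 ≤ Module.finrank F V) (h5 : 2 * m + 5 ≤ Module.finrank F V)
    (ih : ∀ w w' : Fin m → V, Frame Q w w' → ∀ g₁ ∈ Om (res Q w w'),
      Sol (res Q w w') g₁ 1 (Av S))
    {g : V ≃ₗ[F] V} (hg : g ∈ Om Q) : Sol Q g 1 (Av (fun d => S d ∨ d = m)) := by
  have := finite_of hcard
  obtain ⟨w, w', hf, hc1⟩ := H958.Ore.idFrame (m := m) hQ (Om_le hg) h1 h2
    (fun h => absurd (Cfsg.Agent.H194.GLTwo.two_eq_zero
      (Cfsg.Agent.H194.GLTwo.zero_or_one hcard)) h)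
  have he := hf.MQ_toModel
  have hnd := hf.nondeg_res hQ
  have hfr := hf.finrank_perp
  have hGM : Good (MQ m (res Q w w')) := good_of_finite (nondeg_MQ hnd)
    (by rw [← hf.toModel.finrank_eq]; omega)
  have hG1 : Good (res Q w w') := good_of_finite hnd (by omega)
  obtain ⟨c, hc⟩ := exists_good F m (by omega) (by
    rw [hcard]
    calc 5 ≤ 2 ^ 3 := by norm_num
      _ ≤ 2 ^ m := Nat.pow_le_pow_right (by norm_num) hm)
  obtain ⟨X, hX⟩ := exists_matrix c hc.monic (coeff_zero_ne hc.irr (by rw [hc.deg]; omega)) hc.deg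
  have hcorner : ∀ a, (autE hf.toModel g (a, 0, 0)).1 = a := fun a => by
    have := H141.SpinFacts.corner_toModel hf g a
    rw [hc1, one_mulVec] at this
    exact this
  have key := Cfsg.Agent.H140.OreO.block hGM (by omega) hG1.exists_hyp
    ((autE_mem_Om he).2 hg) hcorner
    (fun g₁ hg₁ h => H141.SpinFacts.Om_of_lev hnd (by omega) hg₁ h) (s := 1) (t := 1) (Av S)
    (ih w w' hf) (fun X _ => (X : Matrix (Fin m) (Fin m) F).charpoly = c)
    (fun y hy => ⟨X, 1, by simpa using det_eq_one' hcard X, hX, fun k =>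
      (hy.conj k).cop (by omega) hS hc hX⟩)
  rw [mul_one] at key
  refine key.of_autE he fun y hy => ?_
  obtain ⟨y', v, X', hy', hX', e⟩ := hy
  apply Av.of_autE (e := hf.toModel)
  rw [e]
  exact (hy'.lev (by omega) hc hX').conj v

/-! ### The induction -/

/-- The statement `T(N, S)`. -/
def T (F : Type u) [Field F] (N : ℕ) (S : ℕ → Prop) : Prop :=
  ∀ (V : Type v) [AddCommGroup V] [Module F V] [FiniteDimensional F V] (Q : QuadraticForm F V),
    Nondeg Q → Module.finrank F V = N → ∀ g ∈ Om Q, Sol Q g 1 (Av S)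

theorem T.mono {N : ℕ} {S S' : ℕ → Prop} (h : T.{u, v} F N S) (hS : ∀ d, S d → S' d) :
    T.{u, v} F N S' := fun V _ _ _ Q hQ hN g hg =>
  Sol.mono (h V Q hQ hN g hg) (fun _ hy => hy.mono hS)

theorem T.step (hcard : Nat.card F = 2) {N N' m : ℕ} {S S' : ℕ → Prop} (h : T.{u, v} F N S)
    (hm : 3 ≤ m) (hS : ¬ S m) (hN : N' = N + 2 * m) (h1 : 4 * m + 2 ≤ N') (h2 : 3 * m + 4 ≤ N')
    (h5 : 2 * m + 5 ≤ N') (hSS : ∀ d, S d → S' d) (hSm : S' m) : T.{u, v} F N' S' := by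
  intro V _ _ _ Q hQ hd g hg
  refine Sol.mono (step_two (Q := Q) hcard hm hS hQ (by rw [hd]; exact h1) (by rw [hd]; exact h2)
    (by rw [hd]; exact h5) (fun w w' hf g₁ hg₁ => ?_) hg) fun y hy => hy.mono ?_
  · have := hf.finrank_perp
    exact h _ _ (hf.nondeg_res hQ) (by omega) g₁ hg₁
  · rintro d (hd | rfl)
    · exact hSS d hd
    · exact hSm

open Cfsg.Agent.H194.GLTwo in
theorem good_of {m : ℕ} {p : F[X]} (hmon : p.Monic) (hirr : Irreducible p)
    (hdeg : p.natDegree = m) (hm : 2 ≤ m) (hne : p ≠ p.reverse) (hcard : Nat.card F = 2) :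
    GoodPoly m p := by
  refine ⟨hmon, hirr, hdeg, ?_⟩
  have h0 : p.coeff 0 ≠ 0 := coeff_zero_ne hirr (by omega)
  rw [hirr.coprime_iff_not_dvd]
  rintro ⟨q, hq⟩
  apply hne
  have hq0 : q ≠ 0 := by
    rintro rfl
    rw [mul_zero, reverse_eq_zero] at hq
    exact hirr.ne_zero hq
  have hdeg' : q.natDegree = 0 := by
    have h1 := natDegree_rev h0
    rw [hq, natDegree_mul hirr.ne_zero hq0] at h1
    omega
  obtain ⟨d, rfl⟩ : ∃ d, q = C d := ⟨_, eq_C_of_natDegree_eq_zero hdeg'⟩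
  have hd0 : d ≠ 0 := by
    rintro rfl
    exact hq0 C_0
  rw [unit_eq_one hcard d hd0, C_1, mul_one] at hq
  exact hq.symm

/-- The lemma on `GL_m(2)`. -/
def GLm (F : Type u) [Field F] (m : ℕ) : Prop :=
  ∃ p : F[X], GoodPoly m p ∧ ∀ A : GL (Fin m) F, 2 ≤ ((A : Matrix (Fin m) (Fin m) F) - 1).rank →
      ∃ y : GL (Fin m) F, (y : Matrix (Fin m) (Fin m) F).charpoly = p ∧
        ((A * y : GL (Fin m) F) : Matrix (Fin m) (Fin m) F).charpoly = p

open Cfsg.Agent.H194.GLTwo in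
theorem glm (hcard : Nat.card F = 2) {m : ℕ} (h3 : 3 ≤ m) (h7 : m ≤ 7) : GLm F m := by
  obtain rfl | rfl | rfl | rfl | rfl : m = 3 ∨ m = 4 ∨ m = 5 ∨ m = 6 ∨ m = 7 := by omega
  · exact ⟨p3 F, good_of p3_monic (p3_irreducible hcard) p3_natDegree (by norm_num)
      p3_ne_reverse hcard, gl_two_three hcard⟩
  · exact ⟨p4 F, good_of p4_monic (p4_irreducible hcard) p4_natDegree (by norm_num)
      p4_ne_reverse hcard, gl_two_four hcard⟩
  · exact ⟨p5 F, good_of p5_monic (p5_irreducible hcard) p5_natDegree (by norm_num)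
      p5_ne_reverse hcard, gl_two_five hcard⟩
  · exact ⟨p6 F, good_of p6_monic (p6_irreducible hcard) p6_natDegree (by norm_num)
      p6_ne_reverse hcard, gl_two_six hcard⟩
  · exact ⟨p7 F, good_of p7_monic (p7_irreducible hcard) p7_natDegree (by norm_num)
      p7_ne_reverse hcard, gl_two_seven hcard⟩

/-- `Ω` is not trivial. -/
theorem exists_ne_one (hG : Good Q) : ∃ g ∈ Om Q, g ≠ 1 := by
  obtain ⟨x, y, h⟩ := hG.exists_hyp
  obtain ⟨g, hg, e⟩ := hG.trans_sing h.left h.right h.left_ne h.right_ne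
  refine ⟨g, by rw [Om, hG.commutator_eq_E]; exact hg, ?_⟩
  rintro rfl
  have h1 : x = y := e
  have h2 := h.pair
  rw [← h1, h.polar_left] at h2
  exact zero_ne_one h2

theorem T.base (hcard : Nat.card F = 2) {N : ℕ} {S : ℕ → Prop} (h8 : 8 ≤ N) (h14 : N ≤ 14)
    (hS : ∀ m, 2 * m ≤ N → N ≤ 2 * m + 2 → S m) : T.{u, v} F N S := by
  intro V _ _ _ Q hQ hd
  have := finite_of hcard
  have hG : Good Q := good_of_finite hQ (by omega)
  have key : ∀ g ∈ Om Q, g ≠ 1 → Sol Q g 1 (Av S) := by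
    intro g hg hg1
    have hs : ∀ c : F, ∃ v, g v ≠ c • v := by
      intro c
      rcases Cfsg.Agent.H194.GLTwo.zero_or_one hcard c with rfl | rfl
      · obtain ⟨x, y, h⟩ := hG.exists_hyp
        refine ⟨x, fun hx => h.left_ne ?_⟩
        rw [zero_smul] at hx
        exact (LinearEquiv.map_eq_zero_iff g).1 hx
      · by_contra hcon
        push Not at hcon
        apply hg1
        apply LinearEquiv.ext
        intro v
        rw [hcon v, one_smul]
        rfl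
    obtain ⟨m, h3, hm1, hm2, hB⟩ := H434.Corn.exists_baseCorner hQ (by omega) hg hs
    obtain ⟨p, hp, hgl⟩ := glm (F := F) hcard h3 (by omega)
    refine Sol.mono (base_two hcard (by omega) hp hgl hQ (by omega) hg hB) fun y hy => hy.mono ?_
    rintro d rfl
    exact hS d (by omega) (by omega)
  intro g hg
  by_cases hg1 : g = 1
  · obtain ⟨g₀, hg₀, hne⟩ := exists_ne_one hG
    obtain ⟨k, hk, y, hy, -, hr⟩ := key g₀ hg₀ hne
    exact ⟨1, one_mem _, y, hy, by rw [hg1]; group, hr⟩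
  · exact key g hg hg1

theorem T.all (hcard : Nat.card F = 2) (N : ℕ) (hN : 8 ≤ N) (he : Even N) :
    T.{u, v} F N (fun d => d ≤ max 7 ((N - 2) / 4)) := by
  have b8 : T.{u, v} F 8 (fun d => d = 3 ∨ d = 4) :=
    T.base hcard (by norm_num) (by norm_num) (fun m h1 h2 => by omega)
  have b10 : T.{u, v} F 10 (fun d => d = 4 ∨ d = 5) :=
    T.base hcard (by norm_num) (by norm_num) (fun m h1 h2 => by omega)
  have b12 : T.{u, v} F 12 (fun d => d = 5 ∨ d = 6) :=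
    T.base hcard (by norm_num) (by norm_num) (fun m h1 h2 => by omega)
  have b14 : T.{u, v} F 14 (fun d => d = 6 ∨ d = 7) :=
    T.base hcard (by norm_num) (by norm_num) (fun m h1 h2 => by omega)
  have b16 : T.{u, v} F 16 (fun d => d = 3 ∨ d = 4 ∨ d = 5) :=
    b10.step hcard (m := 3) (by norm_num) (by omega) (by norm_num) (by norm_num) (by norm_num)
      (by norm_num) (fun d hd => by omega) (by omega)
  have b18 : T.{u, v} F 18 (fun d => d = 3 ∨ d = 5 ∨ d = 6) :=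
    b12.step hcard (m := 3) (by norm_num) (by omega) (by norm_num) (by norm_num) (by norm_num)
      (by norm_num) (fun d hd => by omega) (by omega)
  have b20 : T.{u, v} F 20 (fun d => d = 4 ∨ d = 5 ∨ d = 6) :=
    b12.step hcard (m := 4) (by norm_num) (by omega) (by norm_num) (by norm_num) (by norm_num)
      (by norm_num) (fun d hd => by omega) (by omega)
  have b22 : T.{u, v} F 22 (fun d => d = 4 ∨ d = 6 ∨ d = 7) :=
    b14.step hcard (m := 4) (by norm_num) (by omega) (by norm_num) (by norm_num) (by norm_num)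
      (by norm_num) (fun d hd => by omega) (by omega)
  have b24 : T.{u, v} F 24 (fun d => d = 5 ∨ d = 6 ∨ d = 7) :=
    b14.step hcard (m := 5) (by norm_num) (by omega) (by norm_num) (by norm_num) (by norm_num)
      (by norm_num) (fun d hd => by omega) (by omega)
  have b26 : T.{u, v} F 26 (fun d => d = 3 ∨ d = 4 ∨ d = 5 ∨ d = 6) :=
    b18.step hcard (m := 4) (by norm_num) (by omega) (by norm_num) (by norm_num) (by norm_num)
      (by norm_num) (fun d hd => by omega) (by omega)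
  have b28 : T.{u, v} F 28 (fun d => d = 3 ∨ d = 4 ∨ d = 5 ∨ d = 6) :=
    b16.step hcard (m := 6) (by norm_num) (by omega) (by norm_num) (by norm_num) (by norm_num)
      (by norm_num) (fun d hd => by omega) (by omega)
  have b30 : T.{u, v} F 30 (fun d => d = 3 ∨ d = 4 ∨ d = 5 ∨ d = 7) :=
    b16.step hcard (m := 7) (by norm_num) (by omega) (by norm_num) (by norm_num) (by norm_num)
      (by norm_num) (fun d hd => by omega) (by omega)
  have b32 : T.{u, v} F 32 (fun d => d = 3 ∨ d = 5 ∨ d = 6 ∨ d = 7) :=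
    b18.step hcard (m := 7) (by norm_num) (by omega) (by norm_num) (by norm_num) (by norm_num)
      (by norm_num) (fun d hd => by omega) (by omega)
  have small : ∀ {N : ℕ} {S : ℕ → Prop}, T.{u, v} F N S → (∀ d, S d → d ≤ 7) →
      T.{u, v} F N (fun d => d ≤ max 7 ((N - 2) / 4)) := fun h hS =>
    h.mono (fun d hd => le_trans (hS d hd) (le_max_left _ _))
  induction N using Nat.strong_induction_on with
  | _ N ih =>
    by_cases h34 : 34 ≤ N
    · set m := (N - 2) / 4 with hm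
      have hm8 : 8 ≤ m := by omega
      obtain ⟨r, hr⟩ := he
      have hN1 : 8 ≤ N - 2 * m := by omega
      have := ih (N - 2 * m) (by omega) hN1 ⟨r - m, by omega⟩
      refine this.step hcard (m := m) (by omega) ?_ (by omega) (by omega) (by omega) (by omega)
        (fun d hd => ?_) (le_max_right _ _)
      · rw [not_le, max_lt_iff]
        constructor <;> omega
      · refine le_trans hd (max_le_max le_rfl ?_)
        omega
    · obtain ⟨r, hr⟩ := he
      have hcases : N = 8 ∨ N = 10 ∨ N = 12 ∨ N = 14 ∨ N = 16 ∨ N = 18 ∨ N = 20 ∨ N = 22 ∨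
          N = 24 ∨ N = 26 ∨ N = 28 ∨ N = 30 ∨ N = 32 := by omega
      rcases hcases with rfl | rfl | rfl | rfl | rfl | rfl | rfl | rfl | rfl | rfl | rfl | rfl | rfl
      · exact small b8 (fun d hd => by omega)
      · exact small b10 (fun d hd => by omega)
      · exact small b12 (fun d hd => by omega)
      · exact small b14 (fun d hd => by omega)
      · exact small b16 (fun d hd => by omega)
      · exact small b18 (fun d hd => by omega)
      · exact small b20 (fun d hd => by omega)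
      · exact small b22 (fun d hd => by omega)
      · exact small b24 (fun d hd => by omega)
      · exact small b26 (fun d hd => by omega)
      · exact small b28 (fun d hd => by omega)
      · exact small b30 (fun d hd => by omega)
      · exact small b32 (fun d hd => by omega)

/-- **Ore for `Ω(V)` over the field with two elements.** -/
theorem ore_two (hcard : Nat.card F = 2) [FiniteDimensional F V] (hQ : Nondeg Q)
    (hN : 8 ≤ Module.finrank F V) (g : V ≃ₗ[F] V) (hg : g ∈ Om Q) :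
    ∃ k ∈ Om Q, ∃ y ∈ Om Q, g = k * y * k⁻¹ * y⁻¹ := by
  have := finite_of hcard
  have h2 := Cfsg.Agent.H194.GLTwo.two_eq_zero (Cfsg.Agent.H194.GLTwo.zero_or_one hcard)
  obtain ⟨k, hk, y, hy, e, -⟩ := T.all.{u, v} hcard _ hN
    (H141.SpinFacts.even_finrank h2 hQ) V Q hQ rfl g hg
  exact ⟨k, hk, y, hy.mem_Om (good_of_finite hQ (by omega)), e⟩

end Cfsg.Agent.H194.OreTwo
end

-- part: H194/OreNegSix
section
/-!
# Orthonormal families over finite fields of odd order; `-1` in dimension six (helper194)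

* `exists_orthonormal` : in a nondegenerate quadratic space of dimension `> k` over a finite field of
  odd order there are `k` pairwise orthogonal vectors with `Q = 1`;
* `neg_six` : if `finrank V = 6` and `-1 ∈ ⁅O Q, O Q⁆`, then `-1 = k y k⁻¹ y⁻¹` with
  `k ∈ ⁅O Q, O Q⁆`, `y ∈ O Q`.
-/

set_option autoImplicit false

namespace Cfsg.Agent.H194.OreNegSix

open QuadraticMap Cfsg.Agent.LieClassical.OrthCore Cfsg.Agent.LieClassical.OrthTrans
  Cfsg.Agent.LieClassical.OrthFinite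
open scoped commutatorElement

variable {F V : Type*} [Field F] [AddCommGroup V] [Module F V] {Q : QuadraticForm F V}

theorem polar_sum' {ι : Type*} (s : Finset ι) (x : V) (c : ι → F) (e : ι → V) :
    polar Q x (∑ i ∈ s, c i • e i) = ∑ i ∈ s, c i * polar Q x (e i) := by
  classical
  induction s using Finset.induction_on with
  | empty => simp
  | insert a s ha ih =>
    rw [Finset.sum_insert ha, Finset.sum_insert ha, polar_add_right, polar_smul_right, ih,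
      smul_eq_mul]

/-- Claim A: outside an orthogonal family there is a non-singular vector. -/
theorem exists_nonsing_perp (h2 : (2 : F) ≠ 0) (hQ : Nondeg Q) {n : ℕ} (e : Fin n → V)
    (he : ∀ i, Q (e i) ≠ 0) (ho : ∀ i j, i ≠ j → polar Q (e i) (e j) = 0)
    (hn : n < Module.finrank F V) :
    ∃ v, Q v ≠ 0 ∧ ∀ i, polar Q (e i) v = 0 := by
  classical
  by_contra hcon
  push Not at hcon
  have hz : ∀ v, (∀ i, polar Q (e i) v = 0) → Q v = 0 := by
    intro v hv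
    by_contra hne
    obtain ⟨i, hi⟩ := hcon v hne
    exact hi (hv i)
  obtain ⟨w, hw0, hw⟩ := exists_perp_ne e hn
  apply hw0
  apply hQ
  intro y
  set z : V := y - ∑ i, ((2 * Q (e i))⁻¹ * polar Q (e i) y) • e i with hzd
  have hzp : ∀ j, polar Q (e j) z = 0 := by
    intro j
    have h1 : polar Q (e j) (∑ i, ((2 * Q (e i))⁻¹ * polar Q (e i) y) • e i) =
        ∑ i, ((2 * Q (e i))⁻¹ * polar Q (e i) y) * polar Q (e j) (e i) := polar_sum' _ _ _ _
    rw [hzd, polar_sub_right, h1, Finset.sum_eq_single j]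
    · rw [polar_self']
      have := he j
      field_simp
      ring
    · intro i _ hij
      rw [ho j i (Ne.symm hij), mul_zero]
    · intro h
      exact absurd (Finset.mem_univ j) h
  have hwz : polar Q w z = 0 := by
    have h3 : ∀ i, polar Q (e i) (w + z) = 0 := by
      intro i
      rw [polar_add_right, hw, hzp, add_zero]
    have := hz _ h3
    rw [Q_add, hz _ hw, hz _ hzp] at this
    simpa using this
  have hy : y = z + ∑ i, ((2 * Q (e i))⁻¹ * polar Q (e i) y) • e i := by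
    rw [hzd]; abel
  have h4 : polar Q w (∑ i, ((2 * Q (e i))⁻¹ * polar Q (e i) y) • e i) =
      ∑ i, ((2 * Q (e i))⁻¹ * polar Q (e i) y) * polar Q w (e i) := polar_sum' _ _ _ _
  rw [hy, polar_add_right, hwz, h4, zero_add]
  apply Finset.sum_eq_zero
  intro i _
  rw [polar_comm Q w, hw, mul_zero]

/-- `a s² + b t² = 1` is solvable. -/
theorem exists_rep_one [Finite F] (h2 : (2 : F) ≠ 0) {a b : F} (ha : a ≠ 0) (hb : b ≠ 0) :
    ∃ s t : F, a * s ^ 2 + b * t ^ 2 = 1 := by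
  have := Fintype.ofFinite F
  have hodd : Fintype.card F % 2 = 1 := by
    have : ringChar F ≠ 2 := by
      intro h
      apply h2
      have := ringChar.spec F 2
      rw [h] at this
      exact_mod_cast this.2 dvd_rfl
    exact FiniteField.odd_card_of_char_ne_two this
  obtain ⟨s, t, hst⟩ := FiniteField.exists_root_sum_quadratic (R := F)
    (f := Polynomial.C a * Polynomial.X ^ 2)
    (g := Polynomial.C b * Polynomial.X ^ 2 - Polynomial.C 1)
    (Polynomial.degree_C_mul_X_pow 2 ha)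
    (by
      rw [Polynomial.degree_sub_eq_left_of_degree_lt]
      · exact Polynomial.degree_C_mul_X_pow 2 hb
      · rw [Polynomial.degree_C_mul_X_pow 2 hb]
        exact lt_of_le_of_lt Polynomial.degree_C_le (by norm_num)) hodd
  refine ⟨s, t, ?_⟩
  simp only [Polynomial.eval_mul, Polynomial.eval_C, Polynomial.eval_pow, Polynomial.eval_X,
    Polynomial.eval_sub] at hst
  linear_combination hst

/-- Outside an orthogonal family, two dimensions short, there is a vector with `Q = 1`. -/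
theorem exists_one_perp [Finite F] (h2 : (2 : F) ≠ 0) (hQ : Nondeg Q) {n : ℕ} (e : Fin n → V)
    (he : ∀ i, Q (e i) ≠ 0) (ho : ∀ i j, i ≠ j → polar Q (e i) (e j) = 0)
    (hn : n + 1 < Module.finrank F V) :
    ∃ v, Q v = 1 ∧ ∀ i, polar Q (e i) v = 0 := by
  obtain ⟨v, hv, hev⟩ := exists_nonsing_perp h2 hQ e he ho (by omega)
  obtain ⟨w, hw, hew⟩ := exists_nonsing_perp h2 hQ (Fin.cons v e : Fin (n + 1) → V)
    (by
      intro i
      refine Fin.cases ?_ ?_ i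
      · simpa using hv
      · intro i; simpa using he i)
    (by
      intro i j
      refine Fin.cases ?_ ?_ i
      · refine Fin.cases ?_ ?_ j
        · intro h; exact absurd rfl h
        · intro j _
          simp only [Fin.cons_zero, Fin.cons_succ]
          rw [polar_comm]; exact hev j
      · intro i
        refine Fin.cases ?_ ?_ j
        · intro _
          simp only [Fin.cons_zero, Fin.cons_succ]
          exact hev i
        · intro j h
          simp only [Fin.cons_succ]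
          exact ho i j (fun h' => h (by rw [h']))) hn
  have hvw : polar Q v w = 0 := by simpa using hew 0
  have hew' : ∀ i, polar Q (e i) w = 0 := fun i => by simpa using hew i.succ
  obtain ⟨s, t, hst⟩ := exists_rep_one h2 hv hw
  refine ⟨s • v + t • w, ?_, ?_⟩
  · rw [Q_add, QuadraticMap.map_smul, QuadraticMap.map_smul, polar_smul_left, polar_smul_right,
      hvw]
    simp only [smul_eq_mul, mul_zero, add_zero]
    linear_combination hst
  · intro i
    rw [polar_add_right, polar_smul_right, polar_smul_right, hev, hew']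
    simp

/-- **Orthonormal families.** -/
theorem exists_orthonormal [Finite F] (h2 : (2 : F) ≠ 0) (hQ : Nondeg Q) (k : ℕ)
    (hk : k < Module.finrank F V) :
    ∃ e : Fin k → V, (∀ i, Q (e i) = 1) ∧ ∀ i j, i ≠ j → polar Q (e i) (e j) = 0 := by
  induction k with
  | zero => exact ⟨Fin.elim0, fun i => i.elim0, fun i => i.elim0⟩
  | succ k ih =>
    obtain ⟨e, he, ho⟩ := ih (by omega)
    obtain ⟨v, hv, hev⟩ := exists_one_perp h2 hQ e (fun i => by rw [he i]; exact one_ne_zero) ho hk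
    refine ⟨(Fin.cons v e : Fin (k + 1) → V), ?_, ?_⟩
    · intro i
      refine Fin.cases ?_ ?_ i
      · simpa using hv
      · intro i; simpa using he i
    · intro i j
      refine Fin.cases ?_ ?_ i
      · refine Fin.cases ?_ ?_ j
        · intro h; exact absurd rfl h
        · intro j _
          simp only [Fin.cons_zero, Fin.cons_succ]
          rw [polar_comm]; exact hev j
      · intro i
        refine Fin.cases ?_ ?_ j
        · intro _
          simp only [Fin.cons_zero, Fin.cons_succ]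
          exact hev i
        · intro j h
          simp only [Fin.cons_succ]
          exact ho i j (fun h' => h (by rw [h']))

/-- An orthogonal family of nonsingular vectors is linearly independent. -/
theorem linearIndependent_of_orth (h2 : (2 : F) ≠ 0) {n : ℕ} (e : Fin n → V)
    (he : ∀ i, Q (e i) ≠ 0) (ho : ∀ i j, i ≠ j → polar Q (e i) (e j) = 0) :
    LinearIndependent F e := by
  classical
  rw [Fintype.linearIndependent_iff]
  intro c hc j
  have h1 : polar Q (e j) (∑ i, c i • e i) = ∑ i, c i * polar Q (e j) (e i) := polar_sum' _ _ _ _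
  rw [hc, polar_zero_right, Finset.sum_eq_single j] at h1
  · rw [polar_self'] at h1
    have h3 : c j * (2 * Q (e j)) = 0 := h1.symm
    rcases mul_eq_zero.1 h3 with h | h
    · exact h
    · exact absurd h (mul_ne_zero h2 (he j))
  · intro i _ hij
    rw [ho j i (Ne.symm hij), mul_zero]
  · intro h
    exact absurd (Finset.mem_univ j) h

/-- A reflection in a member of an orthogonal family. -/
theorem refl_orth {v x : V} (hv : Q v ≠ 0) (h : polar Q v x = 0) : refl Q v hv x = x := by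
  rw [refl_apply, h, mul_zero, zero_smul, sub_zero]

theorem refl_self' {v : V} (hv : Q v ≠ 0) : refl Q v hv v = - v := by
  rw [refl_apply, polar_self']
  have : (Q v)⁻¹ * (2 * Q v) = 2 := by field_simp
  rw [this]
  module

/-- The swap `x ↔ y` by the reflection in `x - y`. -/
theorem refl_sub_left {x y : V} (h : Q (x - y) ≠ 0) (hxy : Q x = Q y) :
    refl Q (x - y) h x = y := by
  have e : Q (x - y) = polar Q (x - y) x := by
    rw [sub_eq_add_neg, Q_add, QuadraticMap.map_neg, polar_add_left, polar_self', polar_neg_right,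
      polar_neg_left, polar_comm Q y x, ← hxy]
    ring
  rw [refl_apply, ← e, inv_mul_cancel₀ h]
  module

theorem refl_sub_right {x y : V} (h : Q (x - y) ≠ 0) (hxy : Q x = Q y) :
    refl Q (x - y) h y = x := by
  have h1 : refl Q (x - y) h (refl Q (x - y) h x) = x := by
    have := LinearEquiv.congr_fun (refl_mul_self h) x
    simpa using this
  rwa [refl_sub_left h hxy] at h1

theorem comm_mem_left {G : Type*} [Group G] {H : Subgroup G} {a b c : G}
    (hab : a * b ∈ H) (habc : a * b * c ∈ H) : c ∈ H := by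
  have := H.mul_mem (H.inv_mem hab) habc
  rwa [inv_mul_cancel_left] at this

theorem neg_eq_prod (h2 : (2 : F) ≠ 0) (hd : Module.finrank F V = 6) (e : Fin 6 → V)
    (he : ∀ i, Q (e i) ≠ 0) (ho : ∀ i j, i ≠ j → polar Q (e i) (e j) = 0) :
    (LinearEquiv.neg F : V ≃ₗ[F] V) = refl Q (e 0) (he 0) * refl Q (e 1) (he 1) *
      (refl Q (e 2) (he 2) * refl Q (e 3) (he 3)) *
      (refl Q (e 4) (he 4) * refl Q (e 5) (he 5)) := by
  have hli := linearIndependent_of_orth h2 e he ho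
  have : Module.Finite F V := Module.finite_of_finrank_pos (by omega)
  let b := basisOfLinearIndependentOfCardEqFinrank hli (by rw [hd]; rfl)
  have hb : ∀ i, b i = e i := fun i => by simp [b]
  apply b.ext'
  intro i
  rw [hb]
  have hs : ∀ i, refl Q (e i) (he i) (e i) = - e i := fun i => refl_self' (he i)
  have hn : ∀ i j, i ≠ j → refl Q (e i) (he i) (e j) = e j := fun i j h => refl_orth _ (ho i j h)
  simp only [LinearEquiv.mul_apply, LinearEquiv.neg_apply]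
  fin_cases i <;> simp [hs, hn]

/-- If `-1 ∈ Ω` in dimension six there is an orthonormal family of six vectors. -/
theorem exists_orthonormal_six [Finite F] (h2 : (2 : F) ≠ 0) (hd : Module.finrank F V = 6)
    (hQ : Nondeg Q) (h : (LinearEquiv.neg F : V ≃ₗ[F] V) ∈ ⁅O Q, O Q⁆) :
    ∃ e : Fin 6 → V, (∀ i, Q (e i) = 1) ∧ ∀ i j, i ≠ j → polar Q (e i) (e j) = 0 := by
  have : Module.Finite F V := Module.finite_of_finrank_pos (by omega)
  have hG : Good Q := good_of_finite hQ (by omega)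
  obtain ⟨e, he, ho⟩ := exists_orthonormal h2 hQ 5 (by omega)
  obtain ⟨v, hv, hev⟩ := exists_nonsing_perp h2 hQ e (fun i => by rw [he i]; exact one_ne_zero) ho
    (by omega)
  -- the family `e 0, …, e 4, v`
  let f : Fin 6 → V := ![e 0, e 1, e 2, e 3, e 4, v]
  have hf : ∀ i, Q (f i) ≠ 0 := by
    intro i
    fin_cases i <;> simp [f, he, hv]
  have hve : ∀ i, polar Q v (e i) = 0 := fun i => by rw [polar_comm]; exact hev i
  have hfo : ∀ i j, i ≠ j → polar Q (f i) (f j) = 0 := by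
    intro i j hij
    fin_cases i <;> fin_cases j <;> first | exact absurd rfl hij | (simp [f, hev, hve, ho])
  have h1 := neg_eq_prod h2 hd f hf hfo
  have hm : ∀ i j : Fin 6, Q (f i) = 1 → Q (f j) = 1 →
      refl Q (f i) (hf i) * refl Q (f j) (hf j) ∈ ⁅O Q, O Q⁆ := by
    intro i j hi hj
    rw [hG.commutator_eq_E]
    exact hG.refl_mul_refl_mem _ _ (hj.trans hi.symm)
  have h45 : refl Q (f 4) (hf 4) * refl Q (f 5) (hf 5) ∈ ⁅O Q, O Q⁆ := by
    rw [h1] at h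
    refine comm_mem_left (Subgroup.mul_mem _ (hm 0 1 ?_ ?_) (hm 2 3 ?_ ?_)) h <;> simp [f, he]
  have hsq := Cfsg.Agent.H141.SpinFacts.isSquare_of_refl_mul_refl h2 (hf 4) (hf 5) h45
  have h4 : Q (f 4) = 1 := by simp [f, he]
  have h5 : f 5 = v := by simp [f]
  rw [h4, one_mul, h5] at hsq
  obtain ⟨c, hc⟩ := hsq
  have hc0 : c ≠ 0 := by
    rintro rfl
    rw [mul_zero] at hc
    exact hv hc
  refine ⟨![e 0, e 1, e 2, e 3, e 4, c⁻¹ • v], ?_, ?_⟩
  · intro i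
    fin_cases i <;> simp [he, QuadraticMap.map_smul]
    rw [hc]
    field_simp
  · intro i j hij
    fin_cases i <;> fin_cases j <;>
      first | exact absurd rfl hij | (simp [polar_smul_left, polar_smul_right, hev, hve, ho])

/-- **`-1` in dimension six**, with `y² = 1`. -/
theorem neg_six' [Finite F] (h2 : (2 : F) ≠ 0) (hd : Module.finrank F V = 6)
    (hQ : Nondeg Q) (h : (LinearEquiv.neg F : V ≃ₗ[F] V) ∈ ⁅O Q, O Q⁆) :
    ∃ k ∈ ⁅O Q, O Q⁆, ∃ y ∈ O Q, y * y = 1 ∧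
      (LinearEquiv.neg F : V ≃ₗ[F] V) = k * y * k⁻¹ * y⁻¹ := by
  have : Module.Finite F V := Module.finite_of_finrank_pos (by omega)
  have hG : Good Q := good_of_finite hQ (by omega)
  obtain ⟨e, he, ho⟩ := exists_orthonormal_six h2 hd hQ h
  have he' : ∀ i, Q (e i) ≠ 0 := fun i => by rw [he i]; exact one_ne_zero
  have hli := linearIndependent_of_orth h2 e he' ho
  let b := basisOfLinearIndependentOfCardEqFinrank hli (by rw [hd]; rfl)
  have hb : ∀ i, b i = e i := fun i => by simp [b]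
  have hs : ∀ i, refl Q (e i) (he' i) (e i) = - e i := fun i => refl_self' (he' i)
  have hn : ∀ i j, i ≠ j → refl Q (e i) (he' i) (e j) = e j := fun i j h => refl_orth _ (ho i j h)
  have hsub : ∀ i j, i ≠ j → Q (e i - e j) = 2 := by
    intro i j hij
    rw [sub_eq_add_neg, Q_add, QuadraticMap.map_neg, polar_neg_right, ho i j hij, he, he]
    ring
  have hadd : ∀ i j, i ≠ j → Q (e i + e j) = 2 := by
    intro i j hij
    rw [Q_add, ho i j hij, he, he]
    ring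
  have hsub' : ∀ i j, i ≠ j → Q (e i - e j) ≠ 0 := fun i j hij => by rw [hsub i j hij]; exact h2
  have hadd' : ∀ i j, i ≠ j → Q (e i + e j) ≠ 0 := fun i j hij => by rw [hadd i j hij]; exact h2
  have hm : ∀ {v w : V} (hv : Q v ≠ 0) (hw : Q w ≠ 0), Q v = 2 → Q w = 2 →
      refl Q v hv * refl Q w hw ∈ ⁅O Q, O Q⁆ := by
    intro v w hv hw h1 h3
    rw [hG.commutator_eq_E]
    exact hG.refl_mul_refl_mem _ _ (h3.trans h1.symm)
  let k : V ≃ₗ[F] V := refl Q (e 0 - e 3) (hsub' 0 3 (by decide)) *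
    refl Q (e 1 - e 4) (hsub' 1 4 (by decide)) *
    (refl Q (e 2 - e 5) (hsub' 2 5 (by decide)) * refl Q (e 0 + e 1) (hadd' 0 1 (by decide)))
  let y : V ≃ₗ[F] V := refl Q (e 3) (he' 3) * refl Q (e 4) (he' 4) * refl Q (e 5) (he' 5)
  have hk : k ∈ ⁅O Q, O Q⁆ :=
    Subgroup.mul_mem _ (hm _ _ (hsub _ _ (by decide)) (hsub _ _ (by decide)))
      (hm _ _ (hsub _ _ (by decide)) (hadd _ _ (by decide)))
  have hy : y ∈ O Q :=
    Subgroup.mul_mem _ (Subgroup.mul_mem _ (refl_mem_O _) (refl_mem_O _)) (refl_mem_O _)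
  have hyy : y * y = 1 := by
    apply b.ext'
    intro i
    rw [hb]
    simp only [y, LinearEquiv.mul_apply]
    fin_cases i <;> simp [hs, hn]
  refine ⟨k, hk, y, hy, hyy, ?_⟩
  have hky : k * y = LinearEquiv.neg F * y * k := by
    have r1 : ∀ i j (hij : i ≠ j), refl Q (e i - e j) (hsub' i j hij) (e i) = e j :=
      fun i j hij => refl_sub_left _ ((he i).trans (he j).symm)
    have r2 : ∀ i j (hij : i ≠ j), refl Q (e i - e j) (hsub' i j hij) (e j) = e i :=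
      fun i j hij => refl_sub_right _ ((he i).trans (he j).symm)
    have r3 : ∀ i j l (hij : i ≠ j), i ≠ l → j ≠ l →
        refl Q (e i - e j) (hsub' i j hij) (e l) = e l := by
      intro i j l hij hil hjl
      apply refl_orth
      rw [polar_sub_left, ho i l hil, ho j l hjl, sub_zero]
    have r4 : ∀ i j l (hij : i ≠ j), i ≠ l → j ≠ l →
        refl Q (e i + e j) (hadd' i j hij) (e l) = e l := by
      intro i j l hij hil hjl
      apply refl_orth
      rw [polar_add_left, ho i l hil, ho j l hjl, add_zero]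
    have r5 : ∀ i j (hij : i ≠ j), refl Q (e i + e j) (hadd' i j hij) (e i) = - e j := by
      intro i j hij
      rw [refl_apply, hadd i j hij, polar_add_left, ho j i hij.symm, polar_self', he]
      have : (2 : F)⁻¹ * (2 * 1 + 0) = 1 := by field_simp; ring
      rw [this]
      module
    have r6 : ∀ i j (hij : i ≠ j), refl Q (e i + e j) (hadd' i j hij) (e j) = - e i := by
      intro i j hij
      rw [refl_apply, hadd i j hij, polar_add_left, ho i j hij, polar_self', he]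
      have : (2 : F)⁻¹ * (0 + 2 * 1) = 1 := by field_simp; ring
      rw [this]
      module
    apply b.ext'
    intro i
    rw [hb]
    simp only [k, y, LinearEquiv.mul_apply, LinearEquiv.neg_apply]
    fin_cases i <;> simp [hs, hn, r1, r2, r3, r4, r5, r6]
  rw [hky]
  group

/-- **`-1` in dimension six.** -/
theorem neg_six [Finite F] (h2 : (2 : F) ≠ 0) (hd : Module.finrank F V = 6)
    (hQ : Nondeg Q) (h : (LinearEquiv.neg F : V ≃ₗ[F] V) ∈ ⁅O Q, O Q⁆) :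
    ∃ k ∈ ⁅O Q, O Q⁆, ∃ y ∈ O Q, (LinearEquiv.neg F : V ≃ₗ[F] V) = k * y * k⁻¹ * y⁻¹ := by
  obtain ⟨k, hk, y, hy, -, e⟩ := neg_six' h2 hd hQ h
  exact ⟨k, hk, y, hy, e⟩

end Cfsg.Agent.H194.OreNegSix
end

-- part: H141/NegTen
section
/-!
# The element `-1` in dimension ten (helper141, for Ore-Omega)

* `neg_eq_list`, `spin_neg`, `det_neg` (LEMMA A): `-1` is the product of the reflections in the members of
  an orthogonal basis; spinor sign and determinant of `-1`;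
* `hsc_eq`, `spin_hsc`, `det_hsc`, `cl_iff` (LEMMA B): `Cl Q s y ↔ y ∈ O Q, det y = 1, spin y = chi s`;
* `neg_ten`.
-/

set_option autoImplicit false
set_option linter.unusedSectionVars false

namespace Cfsg.Agent.H141.NegTen

open QuadraticMap Cfsg.Agent.LieClassical.OrthCore Cfsg.Agent.LieClassical.OrthTrans
open Cfsg.Agent.LieClassical.OrthFinite
open Cfsg.Agent.H160.QSpin Cfsg.Agent.H140.OreO Cfsg.Agent.H141.SpinFacts
open Cfsg.Agent.H194.OreNegSix

variable {F V : Type*} [Field F] [AddCommGroup V] [Module F V] {Q : QuadraticForm F V}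

/-! ### Lemma A -/

theorem neg_mem_O (Q : QuadraticForm F V) : (LinearEquiv.neg F : V ≃ₗ[F] V) ∈ O Q := by
  intro x
  rw [LinearEquiv.neg_apply, QuadraticMap.map_neg]

/-- `-1` as an element of `O Q`. -/
def nO (Q : QuadraticForm F V) : O Q := ⟨LinearEquiv.neg F, neg_mem_O Q⟩

theorem list_prod_apply {N : ℕ} (f : Fin N → V) (hf : ∀ i, Q (f i) ≠ 0)
    (ho : ∀ i j, i ≠ j → polar Q (f i) (f j) = 0) (l : List (Fin N)) (hl : l.Nodup) (j : Fin N) :
    (((l.map fun i => rO Q (f i) (hf i)).prod : O Q) : V ≃ₗ[F] V) (f j) =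
      if j ∈ l then - f j else f j := by
  induction l with
  | nil => simp
  | cons a l ih =>
    rw [List.nodup_cons] at hl
    have e : ((((a :: l).map fun i => rO Q (f i) (hf i)).prod : O Q) : V ≃ₗ[F] V) (f j) =
        refl Q (f a) (hf a) ((((l.map fun i => rO Q (f i) (hf i)).prod : O Q) : V ≃ₗ[F] V) (f j)) :=
      rfl
    rw [e, ih hl.2]
    by_cases hj : j = a
    · subst hj
      rw [if_neg hl.1, if_pos List.mem_cons_self, refl_self']
    · have h1 : refl Q (f a) (hf a) (f j) = f j := refl_orth _ (ho a j (Ne.symm hj))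
      by_cases hjl : j ∈ l
      · rw [if_pos hjl, if_pos (List.mem_cons_of_mem _ hjl), map_neg, h1]
      · rw [if_neg hjl, if_neg (by simp [hj, hjl]), h1]

/-- **LEMMA A.** -/
theorem neg_eq_list (h2 : (2 : F) ≠ 0) {N : ℕ} (hd : Module.finrank F V = N) (hN : 0 < N)
    (f : Fin N → V) (hf : ∀ i, Q (f i) ≠ 0) (ho : ∀ i j, i ≠ j → polar Q (f i) (f j) = 0) :
    nO Q = ((List.finRange N).map fun i => rO Q (f i) (hf i)).prod := by
  have hli := linearIndependent_of_orth h2 f hf ho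
  have : Module.Finite F V := Module.finite_of_finrank_pos (by omega)
  have : Nonempty (Fin N) := ⟨⟨0, hN⟩⟩
  let b := basisOfLinearIndependentOfCardEqFinrank hli (by rw [hd]; simp)
  have hb : ∀ i, b i = f i := fun i => by simp [b]
  apply Subtype.ext
  apply b.ext'
  intro i
  rw [hb, list_prod_apply f hf ho _ (List.nodup_finRange N) i, if_pos (List.mem_finRange i)]
  rfl

theorem spin_rO [Finite F] [Finite V] (h2 : (2 : F) ≠ 0) {v : V} (hv : Q v ≠ 0) :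
    spin Q (rO Q v hv) = - chi (Q v) := spin_refl' h2 hv

/-- The spinor sign of `-1`. -/
theorem spin_neg [Finite F] [Finite V] (h2 : (2 : F) ≠ 0) {N : ℕ} (hd : Module.finrank F V = N)
    (hN : 0 < N) (f : Fin N → V) (hf : ∀ i, Q (f i) ≠ 0)
    (ho : ∀ i j, i ≠ j → polar Q (f i) (f j) = 0) :
    spin Q (nO Q) = ∏ i, (- chi (Q (f i))) := by
  rw [neg_eq_list h2 hd hN f hf ho, map_list_prod, List.map_map, ← List.ofFn_eq_map,
    List.prod_ofFn]
  exact Finset.prod_congr rfl fun i _ => spin_rO h2 (hf i)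

theorem det_rO [FiniteDimensional F V] {v : V} (hv : Q v ≠ 0) :
    LinearEquiv.det (rO Q v hv : V ≃ₗ[F] V) = -1 := det_refl hv

/-- If `-1 ∈ Ω` then the product of the signs is one. -/
theorem prod_eq_one_of_neg_mem [Finite F] [Finite V] (h2 : (2 : F) ≠ 0) {N : ℕ}
    (hd : Module.finrank F V = N) (hN : 0 < N) (f : Fin N → V) (hf : ∀ i, Q (f i) ≠ 0)
    (ho : ∀ i j, i ≠ j → polar Q (f i) (f j) = 0)
    (h : (LinearEquiv.neg F : V ≃ₗ[F] V) ∈ ⁅O Q, O Q⁆) : ∏ i, (- chi (Q (f i))) = 1 := by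
  rw [← spin_neg h2 hd hN f hf ho]
  exact hom_eq_one (spin Q) h (neg_mem_O Q)

/-! ### Lemma B -/

theorem Q_sub_hyp {x x' : V} (h : Hyp Q x x') (s : Fˣ) : Q (x - (s : F) • x') = - (s : F) := by
  rw [sub_eq_add_neg, Q_add, QuadraticMap.map_neg, polar_neg_right, polar_smul_right, h.pair,
    QuadraticMap.map_smul, h.left, h.right]
  simp

theorem hsc_eq {x x' : V} (h : Hyp Q x x') (s : Fˣ) (h1 : Q (x - x') ≠ 0)
    (h2 : Q (x - (s : F) • x') ≠ 0) :
    hsc h s = refl Q (x - x') h1 * refl Q (x - (s : F) • x') h2 := by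
  have e1 : Q (x - x') = -1 := by
    have := Q_sub_hyp h 1
    simpa using this
  have hs : (s : F) * ((s⁻¹ : Fˣ) : F) = 1 := by rw [← Units.val_mul]; simp
  have hs0 : (s : F) ≠ 0 := s.ne_zero
  apply LinearEquiv.ext
  intro v
  rw [hsc_apply, LinearEquiv.mul_apply, refl_apply, refl_apply, e1, Q_sub_hyp h]
  have e2 : ∀ c : F, polar Q (x - c • x') v = polar Q x v - c * polar Q x' v := by
    intro c
    rw [polar_sub_left, polar_smul_left, smul_eq_mul]
  have e3 : polar Q (x - x') v = polar Q x v - polar Q x' v := polar_sub_left _ _ _ _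
  have e4 : polar Q (x - x') (x - (s : F) • x') = - (s : F) - 1 := by
    rw [polar_sub_left, polar_sub_right, polar_sub_right, polar_smul_right, polar_smul_right,
      h.polar_left, h.polar_right, h.pair, h.pair', smul_eq_mul, smul_eq_mul]
    ring
  rw [polar_sub_right, polar_smul_right, e3, e2, e4, Units.val_inv_eq_inv_val]
  simp only [smul_eq_mul]
  have : (-(s : F))⁻¹ = - (s : F)⁻¹ := by rw [inv_neg]
  rw [this]
  have h3 : (-1 : F)⁻¹ = -1 := by rw [inv_neg, inv_one]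
  rw [h3]
  match_scalars <;> field_simp <;> ring

section Fin

variable [Finite F] [FiniteDimensional F V] [Finite V]

theorem spin_hsc (h2 : (2 : F) ≠ 0) {x x' : V} (h : Hyp Q x x') (s : Fˣ) :
    spin Q ⟨hsc h s, hsc_mem h s⟩ = chi (s : F) := by
  have e1 : Q (x - x') = -1 := by
    have := Q_sub_hyp h 1
    simpa using this
  have h1 : Q (x - x') ≠ 0 := by rw [e1]; exact neg_ne_zero.2 one_ne_zero
  have h3 : Q (x - (s : F) • x') ≠ 0 := by rw [Q_sub_hyp h]; exact neg_ne_zero.2 s.ne_zero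
  have e : (⟨hsc h s, hsc_mem h s⟩ : O Q) = rO Q _ h1 * rO Q _ h3 := Subtype.ext (hsc_eq h s h1 h3)
  rw [e, map_mul, spin_rO h2, spin_rO h2, e1, Q_sub_hyp h, neg_mul_neg]
  exact chi_neg_one_mul_self _ s.ne_zero

theorem det_hsc {x x' : V} (h : Hyp Q x x') (s : Fˣ) : LinearEquiv.det (hsc h s) = 1 := by
  have e1 : Q (x - x') = -1 := by
    have := Q_sub_hyp h 1
    simpa using this
  have h1 : Q (x - x') ≠ 0 := by rw [e1]; exact neg_ne_zero.2 one_ne_zero
  have h3 : Q (x - (s : F) • x') ≠ 0 := by rw [Q_sub_hyp h]; exact neg_ne_zero.2 s.ne_zero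
  rw [hsc_eq h s h1 h3, map_mul, det_refl, det_refl]
  simp

/-- **LEMMA B.** -/
theorem cl_iff (h2 : (2 : F) ≠ 0) (hG : Good Q) {s : Fˣ} {y : V ≃ₗ[F] V} :
    Cl Q s y ↔ ∃ hy : y ∈ O Q, LinearEquiv.det y = 1 ∧ spin Q ⟨y, hy⟩ = chi (s : F) := by
  constructor
  · intro h
    obtain ⟨x, x', hx⟩ := hG.exists_hyp
    have h1 := h.2 x x' hx
    refine ⟨h.1, ?_, ?_⟩
    · have h3 := det_eq_one h1
      rw [map_mul, map_inv, det_hsc, inv_one, mul_one] at h3
      exact h3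
    · have h3 := hom_eq_one (spin Q) h1 (comm_le h1)
      have e : (⟨y * (hsc hx s)⁻¹, comm_le h1⟩ : O Q) = ⟨y, h.1⟩ * ⟨hsc hx s, hsc_mem hx s⟩⁻¹ := rfl
      rw [e, map_mul, map_inv, spin_hsc h2, mul_inv_eq_one] at h3
      exact h3
  · rintro ⟨hy, hdet, hs⟩
    refine ⟨hy, fun x x' hx => ?_⟩
    have hm : y * (hsc hx s)⁻¹ ∈ O Q := (O Q).mul_mem hy ((O Q).inv_mem (hsc_mem hx s))
    refine mem_Om_of_odd h2 hG hm ?_ ?_
    · rw [map_mul, map_inv, det_hsc, inv_one, mul_one]; exact hdet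
    · have e : (⟨y * (hsc hx s)⁻¹, hm⟩ : O Q) = ⟨y, hy⟩ * ⟨hsc hx s, hsc_mem hx s⟩⁻¹ := rfl
      rw [e, map_mul, map_inv, spin_hsc h2, hs, mul_inv_cancel]

theorem chi_one : chi (1 : F) = 1 := (chi_eq_one_iff (1 : F)).2 IsSquare.one

theorem chi_sq (a : F) : chi a * chi a = 1 := by
  rcases Int.units_eq_one_or (chi a) with h | h <;> rw [h] <;> rfl

/-- The core computation. -/
theorem neg_ten_core (h2 : (2 : F) ≠ 0) (hG : Good Q) (hd : Module.finrank F V = 10) (g : Fin 10 → V)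
    {ν : F} (hν : ν ≠ 0) (hg1 : ∀ i, i ≠ 7 → i ≠ 9 → Q (g i) = 1) (hg7 : Q (g 7) = ν)
    (hg9 : Q (g 9) = ν) (ho : ∀ i j, i ≠ j → polar Q (g i) (g j) = 0) {s : Fˣ}
    (hs : chi (2 : F) * chi ν = chi (s : F)) :
    ∃ k ∈ Om Q, ∃ y, Cl Q s y ∧ (LinearEquiv.neg F : V ≃ₗ[F] V) = k * y * k⁻¹ * y⁻¹ ∧
      y * y * (y * y) = 1 := by
  have hg : ∀ i, Q (g i) ≠ 0 := by
    intro i
    by_cases h7 : i = 7
    · rw [h7, hg7]; exact hν
    · by_cases h9 : i = 9
      · rw [h9, hg9]; exact hν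
      · rw [hg1 i h7 h9]; exact one_ne_zero
  have hli := linearIndependent_of_orth h2 g hg ho
  let b := basisOfLinearIndependentOfCardEqFinrank hli (by rw [hd]; rfl)
  have hb : ∀ i, b i = g i := fun i => by simp [b]
  have q0 : Q (g 0) = 1 := hg1 _ (by decide) (by decide)
  have q1 : Q (g 1) = 1 := hg1 _ (by decide) (by decide)
  have q2 : Q (g 2) = 1 := hg1 _ (by decide) (by decide)
  have q3 : Q (g 3) = 1 := hg1 _ (by decide) (by decide)
  have q4 : Q (g 4) = 1 := hg1 _ (by decide) (by decide)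
  have q5 : Q (g 5) = 1 := hg1 _ (by decide) (by decide)
  have q6 : Q (g 6) = 1 := hg1 _ (by decide) (by decide)
  have q8 : Q (g 8) = 1 := hg1 _ (by decide) (by decide)
  have hsub : ∀ i j, i ≠ j → Q (g i) = Q (g j) → Q (g i - g j) = 2 * Q (g i) := by
    intro i j hij h
    rw [sub_eq_add_neg, Q_add, QuadraticMap.map_neg, polar_neg_right, ho i j hij, ← h]
    ring
  have hsub' : ∀ i j, i ≠ j → Q (g i) = Q (g j) → Q (g i - g j) ≠ 0 := fun i j hij h => by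
    rw [hsub i j hij h]; exact mul_ne_zero h2 (hg i)
  have hs' : ∀ i, refl Q (g i) (hg i) (g i) = - g i := fun i => refl_self' (hg i)
  have hn : ∀ i j, i ≠ j → refl Q (g i) (hg i) (g j) = g j := fun i j h => refl_orth _ (ho i j h)
  have r1 : ∀ i j (hij : i ≠ j) (h : Q (g i) = Q (g j)),
      refl Q (g i - g j) (hsub' i j hij h) (g i) = g j := fun i j hij h => refl_sub_left _ h
  have r2 : ∀ i j (hij : i ≠ j) (h : Q (g i) = Q (g j)),
      refl Q (g i - g j) (hsub' i j hij h) (g j) = g i := fun i j hij h => refl_sub_right _ h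
  have r3 : ∀ i j l (hij : i ≠ j) (h : Q (g i) = Q (g j)), i ≠ l → j ≠ l →
      refl Q (g i - g j) (hsub' i j hij h) (g l) = g l := by
    intro i j l hij h hil hjl
    apply refl_orth
    rw [polar_sub_left, ho i l hil, ho j l hjl, sub_zero]
  have h01 : Q (g 0) = Q (g 1) := q0.trans q1.symm
  have h23 : Q (g 2) = Q (g 3) := q2.trans q3.symm
  have h45 : Q (g 4) = Q (g 5) := q4.trans q5.symm
  have h68 : Q (g 6) = Q (g 8) := q6.trans q8.symm
  have h79 : Q (g 7) = Q (g 9) := hg7.trans hg9.symm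
  have d01 : (0 : Fin 10) ≠ 1 := by decide
  have d23 : (2 : Fin 10) ≠ 3 := by decide
  have d45 : (4 : Fin 10) ≠ 5 := by decide
  have d68 : (6 : Fin 10) ≠ 8 := by decide
  have d79 : (7 : Fin 10) ≠ 9 := by decide
  have a01 := r1 0 1 d01 h01
  have b01 := r2 0 1 d01 h01
  have c01 := fun l => r3 0 1 l d01 h01
  have a23 := r1 2 3 d23 h23
  have b23 := r2 2 3 d23 h23
  have c23 := fun l => r3 2 3 l d23 h23
  have a45 := r1 4 5 d45 h45
  have b45 := r2 4 5 d45 h45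
  have c45 := fun l => r3 4 5 l d45 h45
  have a68 := r1 6 8 d68 h68
  have b68 := r2 6 8 d68 h68
  have c68 := fun l => r3 6 8 l d68 h68
  have a79 := r1 7 9 d79 h79
  have b79 := r2 7 9 d79 h79
  have c79 := fun l => r3 7 9 l d79 h79
  let y : O Q := rO Q (g 0 - g 1) (hsub' 0 1 d01 h01) * rO Q (g 0) (hg 0) *
    (rO Q (g 2 - g 3) (hsub' 2 3 d23 h23) * rO Q (g 2) (hg 2)) *
    (rO Q (g 4 - g 5) (hsub' 4 5 d45 h45) * rO Q (g 4) (hg 4)) *
    (rO Q (g 8) (hg 8) * rO Q (g 9) (hg 9))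
  let k : O Q := rO Q (g 1) (hg 1) * rO Q (g 3) (hg 3) * rO Q (g 5) (hg 5) *
    rO Q (g 6 - g 8) (hsub' 6 8 d68 h68) * rO Q (g 7 - g 9) (hsub' 7 9 d79 h79) * rO Q (g 7) (hg 7)
  have ey : (y : V ≃ₗ[F] V) = refl Q (g 0 - g 1) (hsub' 0 1 d01 h01) * refl Q (g 0) (hg 0) *
    (refl Q (g 2 - g 3) (hsub' 2 3 d23 h23) * refl Q (g 2) (hg 2)) *
    (refl Q (g 4 - g 5) (hsub' 4 5 d45 h45) * refl Q (g 4) (hg 4)) *
    (refl Q (g 8) (hg 8) * refl Q (g 9) (hg 9)) := rfl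
  have ek : (k : V ≃ₗ[F] V) = refl Q (g 1) (hg 1) * refl Q (g 3) (hg 3) * refl Q (g 5) (hg 5) *
    refl Q (g 6 - g 8) (hsub' 6 8 d68 h68) * refl Q (g 7 - g 9) (hsub' 7 9 d79 h79) *
    refl Q (g 7) (hg 7) := rfl
  have hdy : LinearEquiv.det (y : V ≃ₗ[F] V) = 1 := by
    rw [ey]
    simp only [map_mul, det_refl]
    simp
  have hdk : LinearEquiv.det (k : V ≃ₗ[F] V) = 1 := by
    rw [ek]
    simp only [map_mul, det_refl]
    simp
  have hc2 := chi_sq (2 : F)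
  have hcν := chi_sq ν
  have c2ν : chi (2 * ν) = chi (2 : F) * chi ν := chi_mul h2 hν
  have hsy : spin Q y = chi (s : F) := by
    simp only [y, map_mul, spin_rO h2, hsub _ _ d01 h01, hsub _ _ d23 h23, hsub _ _ d45 h45, q0, q2,
      q4, q8, hg9, mul_one, chi_one]
    rw [← hs]
    simp only [neg_mul_neg, mul_one, hc2, one_mul]
  have hsk : spin Q k = 1 := by
    simp only [k, map_mul, spin_rO h2, hsub _ _ d68 h68, hsub _ _ d79 h79, q1, q3,
      q5, q6, hg7, mul_one, chi_one, c2ν]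
    calc _ = (chi (2 : F) * chi (2 : F)) * (chi ν * chi ν) := by
          simp only [mul_one, one_mul, neg_mul, mul_neg, neg_neg, mul_assoc]
      _ = 1 := by rw [hc2, hcν, mul_one]
  refine ⟨k, mem_Om_of_odd h2 hG k.2 hdk hsk, y, (cl_iff h2 hG).2 ⟨y.2, hdy, hsy⟩, ?_, ?_⟩
  · have hky : (k : V ≃ₗ[F] V) * (y : V ≃ₗ[F] V) =
        LinearEquiv.neg F * (y : V ≃ₗ[F] V) * (k : V ≃ₗ[F] V) := by
      rw [ey, ek]
      apply b.ext'
      intro i
      rw [hb]
      simp only [LinearEquiv.mul_apply, LinearEquiv.neg_apply]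
      fin_cases i <;> simp [hs', hn, a01, b01, c01, a23, b23, c23, a45, b45, c45, a68, b68, c68, a79, b79, c79]
    rw [hky]
    group
  · rw [ey]
    apply b.ext'
    intro i
    rw [hb]
    simp only [LinearEquiv.mul_apply]
    fin_cases i <;> simp [hs', hn, a01, b01, c01, a23, b23, c23, a45, b45, c45]

/-- If `-1 ∈ Ω` in dimension ten there is an orthonormal family of ten vectors. -/
theorem exists_orthonormal_ten (h2 : (2 : F) ≠ 0) (hQ : Nondeg Q) (hd : Module.finrank F V = 10)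
    (h : (LinearEquiv.neg F : V ≃ₗ[F] V) ∈ ⁅O Q, O Q⁆) :
    ∃ e : Fin 10 → V, (∀ i, Q (e i) = 1) ∧ ∀ i j, i ≠ j → polar Q (e i) (e j) = 0 := by
  obtain ⟨e, he, ho⟩ := exists_orthonormal h2 hQ 9 (by omega)
  obtain ⟨v, hv, hev⟩ := exists_nonsing_perp h2 hQ e (fun i => by rw [he i]; exact one_ne_zero) ho
    (by omega)
  let f : Fin 10 → V := Fin.cons v e
  have f0 : f 0 = v := rfl
  have fs : ∀ i : Fin 9, f i.succ = e i := fun i => rfl
  have hf : ∀ i, Q (f i) ≠ 0 := by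
    intro i
    refine Fin.cases ?_ (fun i => ?_) i
    · rw [f0]; exact hv
    · rw [fs, he]; exact one_ne_zero
  have hfo : ∀ i j, i ≠ j → polar Q (f i) (f j) = 0 := by
    intro i j
    refine Fin.cases ?_ (fun i => ?_) i
    · refine Fin.cases ?_ (fun j => ?_) j
      · intro h; exact absurd rfl h
      · intro _
        rw [f0, fs, polar_comm]; exact hev j
    · refine Fin.cases ?_ (fun j => ?_) j
      · intro _
        rw [f0, fs]; exact hev i
      · intro h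
        rw [fs, fs]; exact ho i j (fun h' => h (by rw [h']))
  have h1 := prod_eq_one_of_neg_mem h2 hd (by norm_num) f hf hfo h
  rw [Fin.prod_univ_succ] at h1
  simp only [fs, f0, he, chi_one, Finset.prod_const, Finset.card_univ, Fintype.card_fin] at h1
  have h3 : chi (Q v) = 1 := by
    rcases Int.units_eq_one_or (chi (Q v)) with h | h
    · exact h
    · rw [h] at h1
      exact absurd h1 (by decide)
  obtain ⟨c, hc⟩ := (chi_eq_one_iff _).1 h3
  have hc0 : c ≠ 0 := by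
    rintro rfl
    rw [mul_zero] at hc
    exact hv hc
  refine ⟨Fin.cons (c⁻¹ • v) e, ?_, ?_⟩
  · intro i
    refine Fin.cases ?_ (fun i => ?_) i
    · rw [Fin.cons_zero, QuadraticMap.map_smul, hc, smul_eq_mul]
      field_simp
    · rw [Fin.cons_succ]; exact he i
  · intro i j
    refine Fin.cases ?_ (fun i => ?_) i
    · refine Fin.cases ?_ (fun j => ?_) j
      · intro h; exact absurd rfl h
      · intro _
        rw [Fin.cons_zero, Fin.cons_succ, polar_comm, polar_smul_right, hev j, smul_zero]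
    · refine Fin.cases ?_ (fun j => ?_) j
      · intro _
        rw [Fin.cons_zero, Fin.cons_succ, polar_smul_right, hev i, smul_zero]
      · intro h
        rw [Fin.cons_succ, Fin.cons_succ]; exact ho i j (fun h' => h (by rw [h']))

end Fin

/-- **`-1` in dimension ten.** -/
theorem neg_ten [Finite F] [FiniteDimensional F V] (h2 : (2 : F) ≠ 0) (hQ : Nondeg Q)
    (hd : Module.finrank F V = 10) (h : (LinearEquiv.neg F : V ≃ₗ[F] V) ∈ ⁅O Q, O Q⁆) (s : Fˣ) :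
    ∃ k ∈ Om Q, ∃ y, Cl Q s y ∧ (LinearEquiv.neg F : V ≃ₗ[F] V) = k * y * k⁻¹ * y⁻¹ ∧
      y * y * (y * y) = 1 := by
  have : Finite V := Module.finite_of_finite F
  have := Fintype.ofFinite F
  have hG : Good Q := good_of_finite hQ (by omega)
  obtain ⟨e, he, ho⟩ := exists_orthonormal_ten h2 hQ hd h
  have hν : (2 * (s : F)) ≠ 0 := mul_ne_zero h2 s.ne_zero
  obtain ⟨a, b, hab⟩ : ∃ a b : F, a ^ 2 + b ^ 2 = 2 * (s : F) := by
    obtain ⟨a, b, hab⟩ := exists_rep_one h2 (inv_ne_zero hν) (inv_ne_zero hν)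
    refine ⟨a, b, ?_⟩
    rw [← mul_add] at hab
    exact (inv_mul_eq_one₀ hν).1 hab |>.symm
  let g : Fin 10 → V := fun i => if i = 7 then a • e 7 + b • e 9 else
    if i = 9 then (-b) • e 7 + a • e 9 else e i
  have g7 : g 7 = a • e 7 + b • e 9 := rfl
  have g9 : g 9 = (-b) • e 7 + a • e 9 := rfl
  have gi : ∀ i, i ≠ 7 → i ≠ 9 → g i = e i := fun i h7 h9 => by
    simp only [g, if_neg h7, if_neg h9]
  have h79 : polar Q (a • e 7 + b • e 9) ((-b) • e 7 + a • e 9) = 0 := by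
    rw [polar_add_right, polar_add_left, polar_add_left, polar_smul_left, polar_smul_left,
      polar_smul_left, polar_smul_left, polar_smul_right, polar_smul_right, polar_smul_right,
      polar_smul_right, ho 7 9 (by decide), ho 9 7 (by decide), polar_self', polar_self', he, he]
    simp only [smul_eq_mul]
    ring
  have l1 : ∀ (c d : F) (i : Fin 10), i ≠ 7 → i ≠ 9 → polar Q (e i) (c • e 7 + d • e 9) = 0 := by
    intro c d i h7 h9
    rw [polar_add_right, polar_smul_right, polar_smul_right, ho i 7 h7, ho i 9 h9]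
    simp
  have l2 : ∀ (c d : F) (i : Fin 10), i ≠ 7 → i ≠ 9 → polar Q (c • e 7 + d • e 9) (e i) = 0 := by
    intro c d i h7 h9
    rw [polar_comm]; exact l1 c d i h7 h9
  refine neg_ten_core h2 hG hd g hν ?_ ?_ ?_ ?_ ?_
  · intro i h7 h9
    rw [gi i h7 h9]; exact he i
  · rw [g7, Q_add, QuadraticMap.map_smul, QuadraticMap.map_smul, he, he, polar_smul_left,
      polar_smul_right, ho 7 9 (by decide), ← hab]
    simp only [smul_eq_mul]
    ring
  · rw [g9, Q_add, QuadraticMap.map_smul, QuadraticMap.map_smul, he, he, polar_smul_left,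
      polar_smul_right, ho 7 9 (by decide), ← hab]
    simp only [smul_eq_mul]
    ring
  · intro i j hij
    by_cases i7 : i = 7
    · subst i7
      rw [g7]
      by_cases j9 : j = 9
      · subst j9
        rw [g9]; exact h79
      · rw [gi j (Ne.symm hij) j9]
        exact l2 _ _ _ (Ne.symm hij) j9
    · by_cases i9 : i = 9
      · subst i9
        rw [g9]
        by_cases j7 : j = 7
        · subst j7
          rw [g7, polar_comm]; exact h79
        · rw [gi j j7 (Ne.symm hij)]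
          exact l2 _ _ _ j7 (Ne.symm hij)
      · rw [gi i i7 i9]
        by_cases j7 : j = 7
        · subst j7
          rw [g7]; exact l1 _ _ _ i7 i9
        · by_cases j9 : j = 9
          · subst j9
            rw [g9]; exact l1 _ _ _ i7 i9
          · rw [gi j j7 j9]; exact ho i j hij
  · rw [← chi_mul h2 hν]
    have : (2 * (2 * (s : F))) = (2 * 2) * (s : F) := by ring
    rw [this, chi_mul (mul_ne_zero h2 h2) s.ne_zero, (chi_eq_one_iff (2 * 2 : F)).2 ⟨2, rfl⟩, one_mul]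

end Cfsg.Agent.H141.NegTen
end

-- part: H140/OreO/Final
section
/-!
# Every element of `Ω(V)` is a commutator: even dimension
-/

set_option autoImplicit false
set_option linter.unusedSectionVars false
set_option linter.unusedVariables false

namespace Cfsg.Agent.H140.OreO

open Polynomial Matrix QuadraticMap Cfsg.Agent.LieClassical.OrthCore
  Cfsg.Agent.LieClassical.OrthTrans Cfsg.Agent.LieClassical.OrthFinite
open scoped commutatorElement

universe u v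

variable {F : Type u} [Field F]

theorem TT_eight [Finite F] (hF : 3 ≤ Nat.card F) : TT.{u, v} F 8 :=
  TT_eight_of hF fun h2 V _ _ _ Q hQ hd h => H434.FrameFour.exists_frame_four h2 hQ hd h

theorem TT_ten [Finite F] (hF : 3 ≤ Nat.card F) : TT.{u, v} F 10 :=
  TT_ten_of hF (TT_eight hF) fun h2 V _ _ _ Q hQ hd h s => H141.NegTen.neg_ten h2 hQ hd h s

theorem TT_even [Finite F] (hF : 3 ≤ Nat.card F) (N : ℕ) (hN : 8 ≤ N) (heven : N % 2 = 0) :
    TT.{u, v} F N := TT_even_of hF (TT_eight hF) (TT_ten hF) N hN heven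

/-- **Every element of `Ω` is a commutator**, even dimension `≥ 8`. -/
theorem all_comm_even [Finite F] {V : Type v} [AddCommGroup V]
    [Module F V] [FiniteDimensional F V] {Q : QuadraticForm F V} (hQ : Nondeg Q)
    (hN : 8 ≤ Module.finrank F V) (heven : Module.finrank F V % 2 = 0) (g : V ≃ₗ[F] V)
    (hg : g ∈ Om Q) : ∃ k ∈ Om Q, ∃ y ∈ Om Q, g = k * y * k⁻¹ * y⁻¹ := by
  rcases Nat.lt_or_ge (Nat.card F) 3 with h | h
  · have h1 : 1 < Nat.card F := Finite.one_lt_card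
    exact H194.OreTwo.ore_two (by omega) hQ hN g hg
  · exact all_comm_of_TT (TT_even h _ hN heven) hQ (by omega) rfl g hg

end Cfsg.Agent.H140.OreO
end
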